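import Cfsg.Agent.BaseTwo.Step2

/-!
# Pairs of vectors at the bottom of the frame
-/

set_option autoImplicit false
set_option linter.style.haveILetI false
set_option linter.unusedSectionVars false

open Finset

namespace Cfsg.Agent.BaseSize

namespace BData

variable {k V G : Type*} [Field k] [AddCommGroup V] [Module k V] [Group G]
  [DistribMulAction G V] {D : BData k V G} [Finite k] [Finite G] [Finite V]
  {m : ℕ} {F : D.Frame m}

theorem Ctx.smul_v1_of_com {E : Ctx F} {b : D.B} (h : ∀ l, D.com (F.x l) b = 1) :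
    ∃ c ∈ F.C, b • E.v1 = c • E.v1 := by
  classical
  obtain ⟨a, β, c, hc, rfl⟩ := F.decompose b
  have ha : a = 0 := by
    funext l
    refine F.pow_val_inj l ?_
    rw [Pi.zero_apply, ZMod.val_zero, pow_zero, ← F.com_x_Y]
    have hl := h l
    rw [D.com_mul_right, D.com_mul_right, F.com_Xv,
      Finset.prod_eq_one (fun j _ => by rw [F.hxx, one_pow]), mul_one, (F.mem_C.mp hc l).1,
      mul_one] at hl
    exact hl
  refine ⟨c, hc, ?_⟩
  rw [ha, F.Y_zero, one_mul, mul_smul, (E.hX.C hc).Xv β]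

theorem Ctx.stab_zero (E : Ctx F) : F.Stab ∅ E.v1 := by
  refine ⟨E.hv1, Frame.fx_empty.mpr E.hX, fun b h => ?_⟩
  obtain ⟨β, rfl⟩ := E.stab_v1 h
  exact Frame.Xv_mem β fun i _ => Frame.x_mem_Xc (Finset.notMem_empty i)

theorem Ctx.fixes_zero {E : Ctx F} {g : G} (hσ : D.σ g = 1) (h1 : g • E.v1 = E.v1)
    (h2 : g • E.w = E.w) : E.Fixes ∅ g := by
  refine ⟨hσ, fun a ha => ?_⟩
  rw [show a = 0 from funext fun i => ha i (Finset.notMem_empty i), F.Y_zero, one_smul, one_smul]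
  exact ⟨h1, h2⟩

/-- Without quaternions. -/
theorem Ctx.reg_zero_triv {E : Ctx F} (hw : E.w = E.v1) {γ : k}
    (hγ : ∀ s : k ≃+* k, s γ = γ → ∀ t, s t = t) : E.Reg ∅ (γ • E.v1) E.v1 := by
  intro g _ h1 h2
  rw [D.smul_smul', h2] at h1
  exact Ctx.fixes_zero (RingEquiv.ext (hγ _ (D.toSemi.smul_eq_imp E.hv1 h1))) h2 (by rw [hw]; exact h2)

/-- The quaternion data. -/
structure Ctx.IsQuat (E : Ctx F) (α β : k) : Prop where
  hii : E.i * E.i = D.z (-1)
  hsq : ∀ e : k, e ^ 2 ≠ -1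
  all : ∀ c ∈ F.C, ∃ u, c = D.z u ∨ c = D.z u * E.i ∨ c = D.z u * E.j ∨ c = D.z u * (E.i * E.j)
  hαβ : α ^ 2 + β ^ 2 = -1
  hj : β • (E.j • E.v1) = E.v1 - α • E.w
  fixed : ∀ (g : G), D.σ g α = α ∧ D.σ g β = β

variable {E : Ctx F} {α β : k}

theorem Ctx.IsQuat.β_ne (hQ : E.IsQuat α β) : β ≠ 0 := fun e =>
  hQ.hsq α (by have := hQ.hαβ; rw [e] at this; linear_combination this)

theorem Ctx.IsQuat.α_ne (hQ : E.IsQuat α β) : α ≠ 0 := fun e =>
  hQ.hsq β (by have := hQ.hαβ; rw [e] at this; linear_combination this)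

theorem Ctx.IsQuat.i_w (hQ : E.IsQuat α β) : E.i • E.w = -E.v1 := by
  rw [Ctx.w, ← mul_smul, hQ.hii, D.z_smul, Units.val_neg, Units.val_one, neg_smul, one_smul]

theorem Ctx.IsQuat.indep (hQ : E.IsQuat α β) {a b : k} (h : a • E.v1 + b • E.w = 0) :
    a = 0 ∧ b = 0 := by
  have h2 := congrArg (E.i • ·) h
  simp only [smul_add, D.smul_k, hQ.i_w, smul_zero, show E.i • E.v1 = E.w from rfl] at h2
  have h3 : (a ^ 2 + b ^ 2) • E.v1 = 0 := by
    linear_combination (norm := module) a • h - b • h2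
  have h4 : a ^ 2 + b ^ 2 = 0 := (smul_eq_zero.mp h3).resolve_right E.hv1
  have hb : b = 0 := by
    by_contra hb
    exact hQ.hsq (a / b) (by rw [div_pow, div_eq_iff (pow_ne_zero 2 hb)]; linear_combination h4)
  subst hb
  refine ⟨?_, rfl⟩
  rw [zero_smul, add_zero] at h
  exact (smul_eq_zero.mp h).resolve_right E.hv1

theorem Ctx.IsQuat.coeff (hQ : E.IsQuat α β) {a b a' b' : k}
    (h : a • E.v1 + b • E.w = a' • E.v1 + b' • E.w) : a = a' ∧ b = b' := by
  obtain ⟨h1, h2⟩ := hQ.indep (a := a - a') (b := b - b') (by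
    rw [sub_smul, sub_smul, sub_add_sub_comm, h, sub_self])
  exact ⟨sub_eq_zero.mp h1, sub_eq_zero.mp h2⟩

theorem Ctx.IsQuat.coeff' (hQ : E.IsQuat α β) {a a' b s : k}
    (h : a • E.v1 + (a' • E.v1 + b • E.w) = s • E.v1 + E.w) : a + a' = s ∧ b = 1 :=
  hQ.coeff (by rw [add_smul, one_smul, add_assoc]; exact h)

theorem Ctx.IsQuat.inSpan (hQ : E.IsQuat α β) : E.InSpan (E.j • E.v1) :=
  ⟨β⁻¹, -(β⁻¹ * α), by
    rw [neg_smul, ← sub_eq_add_neg, mul_smul, ← smul_sub, ← hQ.hj, inv_smul_smul₀ hQ.β_ne]⟩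

/-- The four possible images of `v1`. -/
theorem Ctx.IsQuat.c_v1 (hQ : E.IsQuat α β) {c : D.B} (hc : c ∈ F.C) :
    ∃ u : kˣ, c • E.v1 = (u : k) • E.v1 + (0 : k) • E.w ∨
      c • E.v1 = (0 : k) • E.v1 + (u : k) • E.w ∨
      c • E.v1 = ((u : k) * β⁻¹) • E.v1 + (-((u : k) * β⁻¹ * α)) • E.w ∨
      c • E.v1 = ((u : k) * β⁻¹ * α) • E.v1 + ((u : k) * β⁻¹) • E.w := by
  obtain ⟨u, hu | hu | hu | hu⟩ := hQ.all c hc
  · exact ⟨u, Or.inl (by rw [hu, D.z_smul, zero_smul, add_zero])⟩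
  · refine ⟨u, Or.inr (Or.inl ?_)⟩
    rw [hu, smul_smul_k, zero_smul, zero_add]; rfl
  all_goals
    have hj' : E.j • E.v1 = β⁻¹ • (E.v1 - α • E.w) := by
      rw [← hQ.hj, inv_smul_smul₀ hQ.β_ne]
  · refine ⟨u, Or.inr (Or.inr (Or.inl ?_))⟩
    rw [hu, smul_smul_k, hj']
    module
  · refine ⟨u, Or.inr (Or.inr (Or.inr ?_))⟩
    rw [hu, smul_smul_k, mul_smul, hj', D.smul_k, smul_sub, D.smul_k, hQ.i_w,
      show E.i • E.v1 = E.w from rfl]
    module

/-- With quaternions. -/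
theorem Ctx.reg_zero_quat (hQ : E.IsQuat α β) {p : ℕ} [CharP k p] (hp : p.Prime)
    (hG : ¬ p ∣ Nat.card G) {s : k} (hs : ∀ σ : k ≃+* k, σ s = s → ∀ t, σ t = t) :
    E.Reg ∅ (s • E.v1 + E.w) E.v1 := by
  intro g hN h1 h2
  rw [smul_add, D.smul_smul', h2] at h1
  set b := cj g E.i with hb
  have hgw : g • E.w = b • E.v1 := by
    rw [hb, Ctx.w, cj_smul, h2]
  have hfix : F.Fx ∅ (g • E.w) := (Frame.fx_empty.mpr E.w_fixed).smul_g hN
  have hne : g • E.w ≠ 0 := fun e => E.w_ne (by rw [← inv_smul_smul g E.w, e, smul_zero])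
  obtain ⟨c, hc, hcv⟩ := Ctx.smul_v1_of_com (E := E) (b := b)
    (fun l => Frame.com_x_of_smul (E.hX l) (hfix l (Finset.notMem_empty l)) hne hgw.symm)
  rw [hgw, hcv] at h1
  -- the image of `w` is `w` plus a fixed multiple of `v1`
  obtain ⟨x, hx, hx'⟩ : ∃ x : k, g • E.w = x • E.v1 + (1 : k) • E.w ∧
      (x = 0 ∨ x = -α⁻¹ ∨ x = α) := by
    rw [hgw, hcv]
    obtain ⟨u, e | e | e | e⟩ := hQ.c_v1 hc
    all_goals
      rw [e] at h1
      obtain ⟨-, e2⟩ := hQ.coeff' h1
    · exact absurd e2 zero_ne_one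
    · exact ⟨0, by rw [e, e2], Or.inl rfl⟩
    · refine ⟨(u : k) * β⁻¹, by rw [e, e2], Or.inr (Or.inl ?_)⟩
      have hα := hQ.α_ne
      field_simp at e2 ⊢
      linear_combination -e2
    · exact ⟨(u : k) * β⁻¹ * α, by rw [e, e2], Or.inr (Or.inr (by rw [e2, one_mul]))⟩
  rw [← hcv, ← hgw, hx] at h1
  have hsx : D.σ g s = s - x := by
    obtain ⟨e1, -⟩ := hQ.coeff' h1
    exact eq_sub_of_add_eq e1
  have hσx : D.σ g x = x := by
    rcases hx' with rfl | rfl | rfl
    · exact map_zero _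
    · rw [map_neg, map_inv₀, (hQ.fixed g).1]
    · exact (hQ.fixed g).1
  have hiter : ∀ n : ℕ, D.σ (g ^ n) s = s - (n : k) * x := by
    intro n
    induction n with
    | zero => simp [RingAut.one_apply]
    | succ n ih =>
      rw [pow_succ', map_mul]
      show D.σ g (D.σ (g ^ n) s) = _
      rw [ih, map_sub, map_mul, map_natCast, hsx, hσx]
      push_cast
      ring
  have hx0 : x = 0 := by
    have h := hiter (Nat.card G)
    rw [pow_card_eq_one', map_one, RingAut.one_apply] at h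
    have h' : (Nat.card G : k) * x = 0 := by linear_combination h
    exact (mul_eq_zero.mp h').resolve_left fun e => hG ((CharP.cast_eq_zero_iff k p _).mp e)
  rw [hx0, zero_smul, zero_add, one_smul] at hx
  rw [hx0, sub_zero] at hsx
  exact Ctx.fixes_zero (RingEquiv.ext (hs _ hsx)) h2 hx

theorem Ctx.sep_zero_quat (hQ : E.IsQuat α β) {s : k} (h0 : s ≠ 0) (h1 : s ≠ -α⁻¹) (h2 : s ≠ α) :
    F.Sep (s • E.v1 + E.w) E.v1 := by
  intro b h
  have hfix : F.Fixed (s • E.v1 + E.w) := (E.hX.smul_k s).add E.w_fixed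
  have hne : s • E.v1 + E.w ≠ 0 := fun e =>
    one_ne_zero (hQ.indep (a := s) (b := (1 : k)) (by rw [one_smul]; exact e)).2
  obtain ⟨c, hc, hcv⟩ := Ctx.smul_v1_of_com (E := E) (b := b)
    (fun l => Frame.com_x_of_smul (E.hX l) (hfix l) hne h)
  rw [h] at hcv
  have hα := hQ.α_ne
  have hβ := hQ.β_ne
  obtain ⟨u, e | e | e | e⟩ := hQ.c_v1 hc
  all_goals
    obtain ⟨e1, e2⟩ := hQ.coeff (a := s) (b := 1) (Eq.trans (by rw [one_smul]) (hcv.trans e))
  · exact one_ne_zero e2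
  · exact h0 e1
  · refine h1 ?_
    rw [e1]
    field_simp at e2 ⊢
    linear_combination e2
  · exact h2 (by rw [e1, ← e2, one_mul])

/-- One pair without quaternions. -/
theorem Ctx.stab_one (hall : ∀ c ∈ F.C, ∃ u, c = D.z u) (h2 : (2 : k) ≠ 0) (n : Fin m) {γ : k}
    (hγ0 : γ ≠ 0) (hγ3 : F.r n ≠ 2 → γ ^ 3 ≠ 1) (hγ4 : F.r n = 2 → γ ^ 4 ≠ 1) :
    F.Stab {n} (F.next n (γ • E.v1) E.v1) := by
  classical
  have hs := E.stab_zero
  have hn : n ∉ (∅ : Finset (Fin m)) := Finset.notMem_empty n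
  have hv : F.Fx ∅ (γ • E.v1) := hs.2.1.smul_k γ
  have hv0 : γ • E.v1 ≠ 0 := by simp [hγ0, E.hv1]
  have hne := Frame.next_ne_zero hn hv hs hv0
  have hnext : F.Fx {n} (F.next n (γ • E.v1) E.v1) := hv.next hs.2.1
  refine ⟨hne, hnext, fun b h => ?_⟩
  have hcom := Frame.Fx.com_all hnext hnext hne h
  obtain ⟨i, hi⟩ := exists_zmod_index (F := F) (n := n) (b := b)
  obtain ⟨f, hbf, hf⟩ := Frame.shift (T := ∅) hcom hi
  obtain ⟨c0, hc0, hfv1⟩ := Ctx.smul_v1_of_com (E := E) fun l => hf l (Finset.notMem_empty l)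
  obtain ⟨u, rfl⟩ := hall c0 hc0
  rw [D.z_smul] at hfv1
  have e := (Frame.smul_next hbf (γ • E.v1) E.v1).symm.trans h
  have e' : _ = (F.y n ^ 0) • (γ • E.v1) + (F.y n ^ 1) • E.v1 +
      (F.y n ^ 2) • F.c2 n E.v1 := e.trans (by rw [pow_zero, one_smul, pow_one]; rfl)
  have key := Frame.three_inj hn (hv.smul hf) ((hs.2.1.smul hf).smul_k _)
    (((hs.2.1.c2 n).smul hf).smul_k _) hv hs.2.1 (hs.2.1.c2 n) e'
  have h12 : ∀ s : ℕ, ((s + 1 : ℕ) : ZMod (F.r n)) ≠ (s : ZMod (F.r n)) := fun s e1 =>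
    Frame.one_ne n (by rw [Nat.cast_add] at e1; exact add_eq_left.mp e1)
  have hsc : ∀ {a a' : k}, a • E.v1 = a' • E.v1 → a = a' := fun h => D.toSemi.smul_eq_imp E.hv1 h
  set c : kˣ := D.com b (F.y n) with hcdef
  have hu0 : (u : k) ≠ 0 := u.ne_zero
  have hfγ : f • (γ • E.v1) = ((u : k) * γ) • E.v1 := by rw [D.smul_k, hfv1, smul_smul, mul_comm]
  -- the index is zero
  have hi0 : (i : ZMod (F.r n)) = 0 := by
    by_contra hi0
    have h0i : ((0 : ℕ) : ZMod (F.r n)) ≠ (i : ZMod (F.r n)) := fun e1 =>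
      hi0 (by rw [← e1, Nat.cast_zero])
    by_cases hr : F.r n = 2
    · -- positions exchanged
      have hc2 : F.c2 n E.v1 = 0 := by rw [Frame.c2, if_pos hr]
      have hi1 : (i : ZMod (F.r n)) = ((1 : ℕ) : ZMod (F.r n)) := by
        have hcases : ∀ t : ZMod 2, t ≠ 0 → t = 1 := by decide
        rw [Nat.cast_one]
        have key2 : ∀ r : ℕ, r = 2 → ∀ t : ZMod r, t ≠ 0 → t = 1 := by
          rintro r rfl; exact hcases
        exact key2 _ hr _ hi0
      have k1 := key ((1 : ℕ) : ZMod (F.r n))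
      have k0 := key ((0 : ℕ) : ZMod (F.r n))
      have h10 : ((1 : ℕ) : ZMod (F.r n)) ≠ ((0 : ℕ) : ZMod (F.r n)) := h12 0
      have h110 : ((1 + i : ℕ) : ZMod (F.r n)) = ((0 : ℕ) : ZMod (F.r n)) := by
        rw [Nat.cast_add, hi1, ← Nat.cast_add, Nat.cast_zero, ZMod.natCast_eq_zero_iff, hr]
      simp only [hc2, smul_zero, ite_self, add_zero, hi1, h110, if_true, if_neg h10,
        if_neg h10.symm, zero_add, hfγ, hfv1, smul_smul] at k1 k0
      have e1 : (u : k) * γ = 1 := hsc (k1.trans (one_smul k _).symm)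
      have e2 : (c : k) * u = γ := hsc k0
      have hc1 : (c : k) ^ 2 = 1 := by
        have := F.com_y_pow n b
        rw [hr] at this
        rw [← Units.val_pow_eq_pow_val, hcdef, this, Units.val_one]
      refine hγ4 hr ?_
      have e3 : (c : k) = γ ^ 2 := by linear_combination γ * e2 - (c : k) * e1
      linear_combination hc1 - ((c : k) + γ ^ 2) * e3
    · have hc2 : F.c2 n E.v1 = -E.v1 := by rw [Frame.c2, if_neg hr]
      simp only [hc2, hfγ, smul_neg, hfv1, smul_smul, Units.val_pow_eq_pow_val] at key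
      have h2i : ((2 + i : ℕ) : ZMod (F.r n)) ≠ (i : ZMod (F.r n)) := by
        rw [Nat.cast_add]
        intro e1
        exact Frame.two_ne hr (add_eq_right.mp e1)
      have h21 : ((2 + i : ℕ) : ZMod (F.r n)) ≠ ((1 + i : ℕ) : ZMod (F.r n)) := by
        rw [show 2 + i = (1 + i) + 1 by omega]; exact h12 _
      have h20 : ((2 : ℕ) : ZMod (F.r n)) ≠ ((0 : ℕ) : ZMod (F.r n)) := by
        rw [Nat.cast_zero]; exact Frame.two_ne hr
      have hne : ∀ a : k, a ≠ 0 → a • E.v1 ≠ 0 := fun a ha => by simp [ha, E.hv1]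
      -- position `i`
      have ki := key (i : ZMod (F.r n))
      rw [if_pos rfl, if_neg (by rw [add_comm 1 i]; exact h12 i), if_neg h2i, if_neg h0i,
        add_zero, add_zero, zero_add] at ki
      split_ifs at ki with e1 e2 e2
      · exact h12 1 (e2.trans e1.symm)
      · -- `i = 1`
        rw [add_zero] at ki
        have eu : (u : k) * γ = 1 := hsc (ki.trans (one_smul k _).symm)
        have hi2 : ((1 + i : ℕ) : ZMod (F.r n)) = ((2 : ℕ) : ZMod (F.r n)) := by
          rw [Nat.cast_add, ← e1, ← Nat.cast_add]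
        have k2 := key ((2 : ℕ) : ZMod (F.r n))
        have hi2' : (i : ZMod (F.r n)) ≠ ((2 : ℕ) : ZMod (F.r n)) := by rw [← e1]; exact (h12 1).symm
        rw [if_neg hi2', if_pos hi2, if_neg (by rw [← hi2]; exact h21), if_neg h20.symm,
          if_neg (h12 1).symm, if_pos rfl, zero_add, add_zero, zero_add, zero_add] at k2
        have ec : (c : k) * u = -1 := hsc (k2.trans (by rw [neg_smul, one_smul]))
        have k3 := key ((2 + i : ℕ) : ZMod (F.r n))
        rw [if_neg h2i.symm, if_neg h21.symm, if_pos rfl, zero_add, zero_add] at k3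
        by_cases h30 : ((0 : ℕ) : ZMod (F.r n)) = ((2 + i : ℕ) : ZMod (F.r n))
        · have h31 : ((1 : ℕ) : ZMod (F.r n)) ≠ ((2 + i : ℕ) : ZMod (F.r n)) := by
            rw [← h30]; exact h12 0
          rw [if_pos h30, if_neg h31, if_neg (by rw [← h30]; exact h20), add_zero, add_zero] at k3
          have e3 : -((c : k) ^ 2 * u) = γ := hsc (by rw [neg_smul]; exact k3)
          have e4 : (c : k) = -γ := by linear_combination γ * ec - (c : k) * eu
          have e5 : γ = -γ := by linear_combination -e3 - (c : k) * ec + e4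
          exact hγ0 ((mul_eq_zero.mp (show (2 : k) * γ = 0 by linear_combination e5)).resolve_left h2)
        · rw [if_neg h30, if_neg (by rw [e1]; exact h2i.symm),
            if_neg (by rw [← hi2]; exact h21.symm), add_zero, add_zero, neg_eq_zero] at k3
          exact hne _ (mul_ne_zero (pow_ne_zero 2 c.ne_zero) hu0) k3
      · -- `i = 2`
        rw [zero_add] at ki
        have eu : (u : k) * γ = -1 := hsc (ki.trans (by rw [neg_smul, one_smul]))
        have hi3 : ((1 + i : ℕ) : ZMod (F.r n)) ≠ ((2 : ℕ) : ZMod (F.r n)) := by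
          rw [e2, add_comm 1 i]; exact h12 i
        have hi31 : ((1 + i : ℕ) : ZMod (F.r n)) ≠ ((1 : ℕ) : ZMod (F.r n)) := by
          rw [Nat.cast_add]
          intro e3
          exact hi0 (add_eq_left.mp e3)
        have k3 := key ((1 + i : ℕ) : ZMod (F.r n))
        rw [if_neg (by rw [add_comm 1 i]; exact (h12 i).symm), if_pos rfl, if_neg h21,
          zero_add, add_zero, if_neg hi31.symm, if_neg hi3.symm, add_zero, add_zero] at k3
        by_cases h30 : ((0 : ℕ) : ZMod (F.r n)) = ((1 + i : ℕ) : ZMod (F.r n))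
        · rw [if_pos h30] at k3
          have ec : (c : k) * u = γ := hsc k3
          have k1 := key ((1 : ℕ) : ZMod (F.r n))
          have h41 : ((2 + i : ℕ) : ZMod (F.r n)) = ((1 : ℕ) : ZMod (F.r n)) := by
            rw [show 2 + i = (1 + i) + 1 by omega, Nat.cast_add, ← h30, Nat.cast_zero, zero_add]
          rw [if_neg (by rw [← e2]; exact h12 1), if_neg hi31, if_pos h41, if_neg (h12 0).symm,
            if_pos rfl, if_neg (h12 1), zero_add, zero_add, add_zero, zero_add] at k1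
          have e3 : -((c : k) ^ 2 * u) = 1 := hsc (by rw [neg_smul, one_smul]; exact k1)
          have e4 : (c : k) = -γ ^ 2 := by linear_combination -γ * ec + (c : k) * eu
          refine hγ3 hr ?_
          linear_combination e3 + (c : k) * ec + γ * e4
        · rw [if_neg h30] at k3
          exact hne _ (mul_ne_zero c.ne_zero hu0) k3
      · rw [add_zero] at ki
        exact hne _ (mul_ne_zero hu0 hγ0) ki
  have hb : b = f := by
    rw [hbf, ← F.y_pow_mod n i, hi0, ZMod.val_zero, pow_zero, one_mul]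
  have k0 := key 0
  have k1 := key ((1 : ℕ) : ZMod (F.r n))
  have hne01 : (0 : ZMod (F.r n)) ≠ ((1 : ℕ) : ZMod (F.r n)) := (Frame.one_ne n).symm
  have hne21 : ((2 : ℕ) : ZMod (F.r n)) ≠ ((1 : ℕ) : ZMod (F.r n)) := h12 1
  simp only [Nat.cast_add, hi0, add_zero, Nat.cast_zero, if_neg hne01, if_neg hne21, if_true,
    zero_add, if_neg (Frame.one_ne n)] at k1 k0
  have hfv' : f • (γ • E.v1) = γ • E.v1 := by
    by_cases hr : F.r n = 2
    · simpa [Frame.c2, hr] using k0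
    · simpa only [if_neg (Frame.two_ne hr), add_zero] using k0
  have hu1 : (u : k) = 1 := by
    rw [hfγ] at hfv'
    exact mul_right_cancel₀ hγ0 ((hsc hfv').trans (one_mul γ).symm)
  have hbX : b ∈ F.Xc ∅ := hs.2.2 _ (by rw [hb, hfv1, hu1, one_smul])
  have hc1 : c = 1 := by
    rw [hfv1, hu1, one_smul] at k1
    exact Frame.scalar_one hs k1
  rw [← LawfulSingleton.insert_empty_eq]
  exact Frame.mem_Xc_insert hbX (hcdef ▸ hc1)

end BData

end Cfsg.Agent.BaseSize
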