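import Mathlib

/-!
# A checker for pairs of vectors in small Heisenberg modules

Vectors are packed in bytes, elements are pairs (scalar, index of a word).
-/

set_option autoImplicit false

namespace Cfsg.Agent.BaseTwo.Cert

/-- The `k`-th coordinate. -/
def dig (N k : ℕ) : ℕ := (N >>> (8 * k)) % 256

/-- The `b`-th entry of a table. -/
def ent (tbl b : ℕ) : ℕ := (tbl >>> (64 * b)) % 18446744073709551616

/-- The model: the field size, the dimension, the number of generators, the cocycle (as a table
and by its recursion) and the generator matrices (columns). -/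
structure Mdl where
  q : ℕ
  n : ℕ
  d : ℕ
  eps : ℕ
  rows : List (Bool × List Bool)
  ops : List (List (List ℕ))

/-- The commutator bit with the later generators. -/
def dot : List Bool → ℕ → Bool
  | [], _ => false
  | a :: l, b => xor (a && b % 2 == 1) (dot l (b / 2))

/-- The cocycle. -/
def epsF : List (Bool × List Bool) → ℕ → ℕ → Bool
  | [], _, _ => false
  | (s, row) :: l, b, c =>
    xor (xor (b % 2 == 1 && (c % 2 == 1 && s)) (c % 2 == 1 && dot row (b / 2))) (epsF l (b / 2) (c / 2))

namespace Mdl

variable (M : Mdl)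

def bit (b c : ℕ) : Bool := (M.eps >>> (b * 2 ^ M.d + c)) % 2 == 1

def sgn (b c : ℕ) : ℕ := if M.bit b c then M.q - 1 else 1

def mul (x y : ℕ × ℕ) : ℕ × ℕ := ((x.1 * y.1 * M.sgn x.2 y.2) % M.q, x.2 ^^^ y.2)

def prod (img : List (ℕ × ℕ)) (S : List ℕ) : ℕ × ℕ :=
  S.foldl (fun acc i => M.mul acc (img.getD i (1, 0))) (1, 0)

end Mdl

/-- A linear relation: coefficient, factors of the word, which of the two vectors. -/
abbrev Rel := List (ℕ × List ℕ × Bool)

structure Node where
  tv : ℕ
  tw : ℕ
  gens : List ℕ
  rels : List (List Rel)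
  subsets : List (List ℕ)
  span : List (List (ℕ × ℕ))

namespace Mdl

variable (M : Mdl)

def term (tv tw : ℕ) (img : List (ℕ × ℕ)) (t : ℕ × List ℕ × Bool) (k : ℕ) : ℕ :=
  t.1 * (M.prod img t.2.1).1 * dig (ent (if t.2.2 then tw else tv) (M.prod img t.2.1).2) k

def evalRel (tv tw : ℕ) (img : List (ℕ × ℕ)) (R : Rel) : Bool :=
  (List.range M.n).all fun k => (R.map fun t => M.term tv tw img t k).sum % M.q == 0

def allEls : List (ℕ × ℕ) :=
  (List.range (M.q - 1)).flatMap fun l => (List.range (2 ^ M.d)).map fun b => (l + 1, b)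

def okC (x g : ℕ × ℕ) (prev : List ((ℕ × ℕ) × (ℕ × ℕ))) : Bool :=
  (M.mul x x).1 == (M.mul g g).1 &&
    prev.all fun yh => ((M.mul x yh.1).1 * (M.mul yh.2 g).1) % M.q ==
      ((M.mul yh.1 x).1 * (M.mul g yh.2).1) % M.q

def step (tv tw : ℕ) (done : List ℕ) (g : ℕ) (R : List Rel) (st : List (ℕ × ℕ)) :
    List (List (ℕ × ℕ)) :=
  (M.allEls.filter fun x => M.okC x (1, g) (st.zip (done.map fun h => (1, h))) &&
    R.all fun r => M.evalRel tv tw (st ++ [x]) r).map fun x => st ++ [x]

def run (tv tw : ℕ) : List (ℕ × List Rel) → List ℕ → List (List (ℕ × ℕ)) → List (List (ℕ × ℕ))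
  | [], _, states => states
  | (g, R) :: rest, done, states =>
    run tv tw rest (done ++ [g]) (states.flatMap fun st => M.step tv tw done g R st)

def ref (gens : List ℕ) : List (ℕ × ℕ) := gens.map fun b => (1, b)

/-- The relations hold for the generators themselves. -/
def relsAux (tv tw : ℕ) : List (ℕ × List Rel) → List ℕ → Bool
  | [], _ => true
  | (g, R) :: rest, done =>
    R.all (fun r => M.evalRel tv tw (ref (done ++ [g])) r) && relsAux tv tw rest (done ++ [g])

def relsOk (nd : Node) : Bool := M.relsAux nd.tv nd.tw (nd.gens.zip nd.rels) []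

/-- The table is the orbit of its first entry. -/
def tblOk (t : ℕ) : Bool :=
  (List.range M.d).all fun i => (List.range (2 ^ M.d)).all fun b => (List.range M.n).all fun k =>
    (M.sgn (2 ^ i) b * dig (ent t (2 ^ i ^^^ b)) k) % M.q ==
      ((List.range M.n).map fun j => dig (ent t b) j * ((M.ops.getD i []).getD j []).getD k 0).sum % M.q

def epsOk : Bool :=
  M.rows.length == M.d && (List.range (2 ^ M.d)).all fun b => (List.range (2 ^ M.d)).all fun c =>
    M.bit b c == epsF M.rows b c

def eqScaled (l N N' : ℕ) : Bool :=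
  (List.range M.n).all fun k => (l * dig N k) % M.q == dig N' k % M.q

/-- No two words send the second vector to proportional vectors. -/
def injOk (tw : ℕ) : Bool :=
  (List.range (M.q - 1)).all fun l => (List.range (2 ^ M.d)).all fun b => (List.range (2 ^ M.d)).all fun c =>
    (b == c && l == 0) || !M.eqScaled (l + 1) (ent tw b) (ent tw c)

/-- The first vector is outside the orbit of the second one. -/
def sepOk (tv tw : ℕ) : Bool :=
  (List.range (M.q - 1)).all fun l => (List.range (2 ^ M.d)).all fun b =>
    !M.eqScaled (l + 1) (ent tw b) (ent tv 0)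

def nzOk (tv : ℕ) : Bool := (List.range M.n).any fun k => !(dig (ent tv 0) k % M.q == 0)

def spanOk (nd : Node) : Bool :=
  nd.span.length == M.n && (List.range M.n).all fun i => (nd.span.getD i []).all (fun cb => decide (cb.2 < 2 ^ M.d)) &&
    (List.range M.n).all fun k =>
      ((nd.span.getD i []).map fun cb => cb.1 * dig (ent nd.tv cb.2) k).sum % M.q ==
        (if i = k then 1 else 0)

/-- Every word is a product of the chosen generators. -/
def genOk (nd : Node) : Bool :=
  nd.subsets.length == 2 ^ M.d && nd.gens.length == nd.rels.length &&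
    nd.gens.all (fun g => decide (g < 2 ^ M.d)) &&
    (List.range (2 ^ M.d)).all fun b => (M.prod (ref nd.gens) (nd.subsets.getD b [])).2 == b

/-- The map on words of an assignment. -/
def piOf (nd : Node) (img : List (ℕ × ℕ)) : List ℕ :=
  (List.range (2 ^ M.d)).map fun b => (M.prod img (nd.subsets.getD b [])).2

def comp (L L' : List ℕ) : List ℕ := (List.range (2 ^ M.d)).map fun b => L.getD (L'.getD b 0) 0

def idPi : List ℕ := List.range (2 ^ M.d)

def nodeOk (nd : Node) : Bool :=
  M.tblOk nd.tv && M.tblOk nd.tw && M.relsOk nd && M.injOk nd.tw && M.sepOk nd.tv nd.tw &&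
    M.nzOk nd.tv && M.spanOk nd && M.genOk nd

def leaves (nd : Node) : List (List (ℕ × ℕ)) :=
  M.run nd.tv nd.tw (nd.gens.zip nd.rels) [] [[]]

end Mdl

/-- Either a contradiction by an element of order `p`, or a node followed by its children. -/
inductive Tree where
  | bad (w : List ℕ)
  | leaf (nd : Node)
  | kid (pi : List ℕ) (child rest : Tree)

/-- A node with the given children. -/
def Tree.node (nd : Node) : List (List ℕ × Tree) → Tree
  | [] => Tree.leaf nd
  | (pi, c) :: r => Tree.kid pi c (Tree.node nd r)

/-- The word of a contradiction. -/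
def Tree.word? : Tree → Option (List ℕ)
  | Tree.bad w => some w
  | Tree.leaf _ => none
  | Tree.kid _ _ _ => none

/-- The data of a tree's root. -/
def Tree.root? : Tree → Option Node
  | Tree.bad _ => none
  | Tree.leaf nd => some nd
  | Tree.kid _ _ r => r.root?

/-- The children of a tree's root. -/
def Tree.kids : Tree → List (List ℕ × Tree)
  | Tree.bad _ => []
  | Tree.leaf _ => []
  | Tree.kid pi c r => (pi, c) :: r.kids

namespace Mdl

variable (M : Mdl)

def wordPi (acc : List (List ℕ)) (w : List ℕ) : List ℕ :=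
  w.foldr (fun i L => M.comp (acc.getD i M.idPi) L) M.idPi

def iter (L : List ℕ) : ℕ → List ℕ
  | 0 => M.idPi
  | n + 1 => M.comp L (iter L n)

def badOk (acc : List (List ℕ)) (w : List ℕ) : Bool :=
  w.all (fun i => decide (i < acc.length)) && !(M.wordPi acc w == M.idPi) &&
    M.iter (M.wordPi acc w) M.q == M.idPi

def ok : ℕ → List (List ℕ) → Tree → Bool
  | 0, _, _ => false
  | fuel + 1, acc, t =>
    match t.word?, t.root? with
    | some w, _ => M.badOk acc w
    | none, none => false
    | none, some nd =>
      M.nodeOk nd && (M.leaves nd).all fun img => img == ref nd.gens ||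
        t.kids.any fun kd => kd.1 == M.piOf nd img && ok fuel (acc ++ [kd.1]) kd.2

end Mdl

end Cfsg.Agent.BaseTwo.Cert
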