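import Cfsg.Agent.BaseSize.PrimMain

/-!
# Partial fixed spaces of a frame

`Xc T` is generated by the `x i` with `i ∉ T`; `Fx T` says that a vector is fixed by these.
-/

set_option autoImplicit false
set_option linter.style.haveILetI false
set_option linter.unusedSectionVars false

open Finset

namespace Cfsg.Agent.BaseSize

namespace BData

variable {k V G : Type*} [Field k] [AddCommGroup V] [Module k V] [Group G]
  [DistribMulAction G V] {D : BData k V G} [Finite k] [Finite G] [Finite V]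
  {m : ℕ} {F : D.Frame m}

/-- Conjugation on `B`. -/
def cj (g : G) : D.B →* D.B where
  toFun b := ⟨g * b * g⁻¹, D.normal.conj_mem b b.2 g⟩
  map_one' := Subtype.ext (by simp)
  map_mul' a b := Subtype.ext (by simp [mul_assoc])

theorem cj_smul (g : G) (b : D.B) (u : V) : g • (b • u) = cj g b • (g • u) := by
  show g • ((b : G) • u) = ((g * b * g⁻¹ : G)) • (g • u)
  rw [mul_smul, mul_smul, inv_smul_smul]

theorem cj_z (g : G) (c : kˣ) :
    cj g (D.z c) = D.z (Units.map (D.σ g).toMonoidHom c) :=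
  Subtype.ext (D.toSemi.conj_sc g c)

theorem cj_mul_apply (g h : G) (b : D.B) : cj (g * h) b = cj g (cj h b) :=
  Subtype.ext (by simp [cj, mul_assoc])

theorem cj_inv_cancel (g : G) (b : D.B) : cj g⁻¹ (cj g b) = b :=
  Subtype.ext (by simp [cj, mul_assoc])

theorem cj_cancel_inv (g : G) (b : D.B) : cj g (cj g⁻¹ b) = b :=
  Subtype.ext (by simp [cj, mul_assoc])

theorem com_cj (g : G) (a b : D.B) :
    D.com (cj g a) (cj g b) = Units.map (D.σ g).toMonoidHom (D.com a b) :=
  Ctx.conj_com g a b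

theorem smul_smul_k (b : D.B) (c : kˣ) (u : V) : (D.z c * b) • u = (c : k) • (b • u) := by
  rw [mul_smul, D.z_smul]

theorem com_spec_smul (a b : D.B) (u : V) :
    a • (b • u) = ((D.com a b : kˣ) : k) • (b • (a • u)) := by
  rw [← mul_smul, D.com_spec a b, mul_smul, D.z_smul, mul_smul]

variable (F)

/-- Generated by the `x i` outside `T`. -/
def Frame.Xc (T : Finset (Fin m)) : Subgroup D.B := Subgroup.closure (F.x '' {i | i ∉ T})

/-- Fixed by the `x i` outside `T`. -/
def Frame.Fx (T : Finset (Fin m)) (u : V) : Prop := ∀ i, i ∉ T → F.x i • u = u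

variable {F}

theorem Frame.Fx.mem {T : Finset (Fin m)} {u : V} (hu : F.Fx T u) {b : D.B} (hb : b ∈ F.Xc T) :
    b • u = u :=
  (Subgroup.closure_le (MulAction.stabilizer D.B u)).mpr
    (by rintro _ ⟨i, hi, rfl⟩; exact hu i hi) hb

theorem Frame.x_mem_Xc {T : Finset (Fin m)} {i : Fin m} (hi : i ∉ T) : F.x i ∈ F.Xc T :=
  Subgroup.subset_closure ⟨i, hi, rfl⟩

theorem Frame.fx_empty {u : V} : F.Fx ∅ u ↔ F.Fixed u :=
  ⟨fun h i => h i (Finset.notMem_empty i), fun h i _ => h i⟩

theorem Frame.Fx.mono {T T' : Finset (Fin m)} (h : T ⊆ T') {u : V} (hu : F.Fx T u) : F.Fx T' u :=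
  fun i hi => hu i fun h' => hi (h h')

theorem Frame.Xc_mono {T T' : Finset (Fin m)} (h : T ⊆ T') : F.Xc T' ≤ F.Xc T :=
  Subgroup.closure_mono (Set.image_mono fun _ hi h' => hi (h h'))

theorem Frame.Xc_univ : F.Xc Finset.univ = ⊥ := by
  simp [Frame.Xc]

theorem Frame.Fx.smul_k {T : Finset (Fin m)} {u : V} (hu : F.Fx T u) (c : k) : F.Fx T (c • u) :=
  fun i hi => by rw [D.smul_k, hu i hi]

theorem Frame.Fx.add {T : Finset (Fin m)} {u u' : V} (hu : F.Fx T u) (hu' : F.Fx T u') :
    F.Fx T (u + u') :=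
  fun i hi => by rw [smul_add, hu i hi, hu' i hi]

theorem Frame.fx_zero (T : Finset (Fin m)) : F.Fx T (0 : V) := fun _ _ => smul_zero _

theorem Frame.Fx.neg {T : Finset (Fin m)} {u : V} (hu : F.Fx T u) : F.Fx T (-u) :=
  fun i hi => by rw [smul_neg, hu i hi]

/-- An element commuting with the `x i` outside `T` preserves `Fx T`. -/
theorem Frame.Fx.smul {T : Finset (Fin m)} {u : V} (hu : F.Fx T u) {f : D.B}
    (hf : ∀ i, i ∉ T → D.com (F.x i) f = 1) : F.Fx T (f • u) := fun i hi => by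
  rw [← mul_smul, (D.com_eq_one_iff _ _).mp (hf i hi), mul_smul, hu i hi]

theorem Frame.Xc_com_x {T : Finset (Fin m)} {b : D.B} (hb : b ∈ F.Xc T) (i : Fin m) :
    D.com (F.x i) b = 1 := by
  rw [D.com_eq_one_iff]
  exact (Subgroup.mem_centralizer_singleton_iff.mp ((Subgroup.closure_le
    (Subgroup.centralizer {F.x i})).mpr (by
      rintro _ ⟨j, -, rfl⟩
      exact Subgroup.mem_centralizer_singleton_iff.mpr (F.commute_x j i).eq) hb)).symm

theorem Frame.Xc_com_y {T : Finset (Fin m)} {b : D.B} (hb : b ∈ F.Xc T) {l : Fin m} (hl : l ∈ T) :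
    D.com b (F.y l) = 1 := by
  rw [D.com_eq_one_iff]
  exact Subgroup.mem_centralizer_singleton_iff.mp ((Subgroup.closure_le
    (Subgroup.centralizer {F.y l})).mpr (by
      rintro _ ⟨j, hj, rfl⟩
      exact Subgroup.mem_centralizer_singleton_iff.mpr ((D.com_eq_one_iff _ _).mp
        (F.hoff j l fun e => hj (e ▸ hl)))) hb)

theorem Frame.Xv_mem {H : Subgroup D.B} (β : F.L) (h : ∀ i, β i ≠ 0 → F.x i ∈ H) :
    F.Xv β ∈ H := by
  classical
  rw [Frame.Xv, Frame.xHom]
  simp only [MonoidHom.noncommPiCoprod, MonoidHom.coe_mk, OneHom.coe_mk]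
  refine Subgroup.noncommProd_mem (K := H) _ (fun i _ => ?_)
  by_cases hi : β i = 0
  · rw [hi, ofAdd_zero, map_one]; exact H.one_mem
  · exact H.pow_mem (h i hi) _

theorem Frame.Xc_exists {T : Finset (Fin m)} {b : D.B} (hb : b ∈ F.Xc T) : ∃ β, b = F.Xv β := by
  classical
  suffices F.Xc T ≤ F.xHom.range by
    obtain ⟨f, hf⟩ := this hb
    exact ⟨fun i => Multiplicative.toAdd (f i), hf.symm⟩
  refine (Subgroup.closure_le _).mpr ?_
  rintro _ ⟨i, -, rfl⟩
  exact ⟨_, F.Xv_single i⟩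

theorem Frame.Xv_mem_Xc {T : Finset (Fin m)} (β : F.L)
    (h : ∀ l ∈ T, D.com (F.Xv β) (F.y l) = 1) : F.Xv β ∈ F.Xc T := by
  refine Frame.Xv_mem β fun i hi => Frame.x_mem_Xc fun hiT => hi ?_
  refine F.pow_val_inj i ?_
  rw [← F.com_Xv_y, h i hiT, ZMod.val_zero, pow_zero]

theorem Frame.mem_Xc_insert {T : Finset (Fin m)} {n : Fin m} {b : D.B} (hb : b ∈ F.Xc T)
    (h : D.com b (F.y n) = 1) : b ∈ F.Xc (insert n T) := by
  obtain ⟨β, rfl⟩ := Frame.Xc_exists hb
  refine Frame.Xv_mem_Xc β fun l hl => ?_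
  rcases Finset.mem_insert.mp hl with rfl | hl
  · exact h
  · exact Frame.Xc_com_y hb hl

/-- The group normalises `Xc T`. -/
def Frame.Norm (F : D.Frame m) (T : Finset (Fin m)) (g : G) : Prop :=
  ∀ b ∈ F.Xc T, cj g b ∈ F.Xc T

theorem Frame.Norm.inv {T : Finset (Fin m)} {g : G} (hg : F.Norm T g) : F.Norm T g⁻¹ := by
  intro b hb
  let f : F.Xc T → F.Xc T := fun x => ⟨cj g x.1, hg x.1 x.2⟩
  have hinj : Function.Injective f := fun x y e => Subtype.ext (by
    have h : cj g⁻¹ (cj g x.1) = cj g⁻¹ (cj g y.1) :=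
      congrArg (fun t : F.Xc T => cj g⁻¹ t.1) e
    rwa [cj_inv_cancel, cj_inv_cancel] at h)
  obtain ⟨⟨b', hb'⟩, e⟩ := (Finite.injective_iff_surjective.mp hinj) ⟨b, hb⟩
  have e' : cj g b' = b := congrArg Subtype.val e
  rwa [← e', cj_inv_cancel]

theorem Frame.Norm.mul {T : Finset (Fin m)} {g h : G} (hg : F.Norm T g) (hh : F.Norm T h) :
    F.Norm T (g * h) := fun b hb => by
  rw [cj_mul_apply]; exact hg _ (hh b hb)

theorem Frame.norm_univ (g : G) : F.Norm Finset.univ g := fun b hb => by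
  rw [Frame.Xc_univ, Subgroup.mem_bot] at hb ⊢
  rw [hb, map_one]

theorem Frame.Fx.smul_g {T : Finset (Fin m)} {u : V} (hu : F.Fx T u) {g : G} (hg : F.Norm T g) :
    F.Fx T (g • u) := fun i hi => by
  have h := hg.inv _ (Frame.x_mem_Xc hi)
  conv_lhs => rw [← cj_cancel_inv g (F.x i), ← cj_smul, hu.mem h]

/-- A non-zero `Fx T` vector moved to one by `b` forces `b` to commute with the `x i`. -/
theorem Frame.com_x_of_smul {b : D.B} {u u' : V} {i : Fin m} (hu : F.x i • u = u)
    (hu' : F.x i • u' = u') (hne : u' ≠ 0) (h : b • u = u') : D.com (F.x i) b = 1 := by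
  have e := com_spec_smul (F.x i) b u
  rw [h, hu', hu, h] at e
  exact Units.ext (D.toSemi.smul_eq_imp hne ((e.symm).trans (one_smul k u').symm))

variable (F)

/-- `∑ t, y_n ^ t • f t`. -/
noncomputable def Frame.comb (n : Fin m) (f : ZMod (F.r n) → V) : V :=
  ∑ t, (F.y n ^ t.val) • f t

variable {F}

theorem Frame.y_pow_mod (n : Fin m) (s : ℕ) :
    F.y n ^ (s : ZMod (F.r n)).val = F.y n ^ s := by
  rw [ZMod.val_natCast, ← pow_eq_pow_mod _ (F.hy n)]

theorem Frame.comb_add (n : Fin m) (f g : ZMod (F.r n) → V) :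
    F.comb n (f + g) = F.comb n f + F.comb n g := by
  simp only [Frame.comb, Pi.add_apply, smul_add, Finset.sum_add_distrib]

theorem Frame.comb_single (n : Fin m) (s : ℕ) (u : V) :
    F.comb n (Pi.single (s : ZMod (F.r n)) u) = (F.y n ^ s) • u := by
  rw [Frame.comb, Finset.sum_eq_single (s : ZMod (F.r n))
    (fun t _ ht => by rw [Pi.single_eq_of_ne ht, smul_zero]) (by simp), Pi.single_eq_same,
    F.y_pow_mod]

theorem Frame.comb_inj (n : Fin m) {f f' : ZMod (F.r n) → V} (hf : ∀ t, F.x n • f t = f t)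
    (hf' : ∀ t, F.x n • f' t = f' t) (h : F.comb n f = F.comb n f') (t0 : ZMod (F.r n)) :
    f t0 = f' t0 := by
  classical
  have hz : ∀ d : ZMod (F.r n) → V, (∀ t, F.x n • d t = d t) → F.comb n d = 0 → d 0 = 0 := by
    intro d hd h0
    have h' := congrArg (fun v => ∑ l ∈ Finset.range (F.r n), F.x n ^ l • v) h0
    simp only [smul_zero, Finset.sum_const_zero, Frame.comb, Finset.smul_sum] at h'
    rw [Finset.sum_comm] at h'
    have hterm : ∀ t : ZMod (F.r n), ∀ l : ℕ, F.x n ^ l • ((F.y n ^ t.val) • d t) =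
        (((F.ζ n : k) ^ t.val) ^ l) • ((F.y n ^ t.val) • d t) := by
      intro t l
      rw [com_spec_smul, D.com_pow_left, D.com_pow_right, F.hxy, Units.val_pow_eq_pow_val,
        Units.val_pow_eq_pow_val,
        (MulAction.stabilizer D.B (d t)).pow_mem (MulAction.mem_stabilizer_iff.mpr (hd t)) l]
    simp only [hterm, ← Finset.sum_smul, F.geom, ZMod.natCast_zmod_val, ite_smul, zero_smul,
      Finset.sum_ite_eq', Finset.mem_univ, if_true, ZMod.val_zero, pow_zero, one_smul] at h'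
    exact (smul_eq_zero.mp h').resolve_left (F.natCast_ne_zero n)
  have h1 := hz (fun t => f (t + t0) - f' (t + t0)) (fun t => by rw [smul_sub, hf, hf']) (by
    have hs : ∀ e : ZMod (F.r n) → V,
        F.comb n (fun t => e (t + t0)) = (F.y n ^ t0.val)⁻¹ • F.comb n e := by
      intro e
      rw [eq_inv_smul_iff, Frame.comb, Frame.comb, Finset.smul_sum]
      refine Fintype.sum_equiv (Equiv.addRight t0) _ _ fun t => ?_
      rw [← mul_smul, ← pow_add, Equiv.coe_addRight]
      congr 1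
      rw [← F.y_pow_mod n (t0.val + t.val), Nat.cast_add, ZMod.natCast_zmod_val,
        ZMod.natCast_zmod_val, add_comm]
    rw [show (fun t => f (t + t0) - f' (t + t0)) =
        (fun t => (f - f') (t + t0)) from rfl, hs]
    have : F.comb n (f - f') = 0 := by
      have e := Frame.comb_add n (f - f') f'
      rw [sub_add_cancel, h] at e
      exact add_eq_right.mp e.symm
    rw [this, smul_zero])
  rw [zero_add] at h1
  exact sub_eq_zero.mp h1

end BData

end Cfsg.Agent.BaseSize
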