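import Cfsg.Agent.BaseTwo.Cert
import Cfsg.Agent.BaseTwo.Frame

/-!
# Soundness of the checker
-/

set_option autoImplicit false
set_option linter.style.haveILetI false
set_option linter.unusedSectionVars false

namespace Cfsg.Agent.BaseTwo.Cert

variable {M : Mdl} {k V G : Type*} [Field k] [AddCommGroup V] [Module k V] [Group G]
  [DistribMulAction G V] [Finite G]

/-- A realisation of a model. -/
structure Real (M : Mdl) (k V G : Type*) [Field k] [AddCommGroup V] [Module k V] [Group G]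
    [DistribMulAction G V] where
  hq : M.q.Prime
  hq2 : M.q ≠ 2
  charp : CharP k M.q
  W : V → Prop
  Nrm : G → Prop
  op : ℕ → V →ₗ[k] V
  e : ℕ → V
  indep : ∀ a : ℕ → ℕ, ∑ j ∈ Finset.range M.n, (a j : k) • e j = 0 → ∀ j, j < M.n → a j % M.q = 0
  W_sub : ∀ u u' : V, W u → W u' → W (u + u')
  W_smul : ∀ (c : k) (u : V), W u → W (c • u)
  W_zero : W 0
  W_e : ∀ j, j < M.n → W (e j)
  W_op : ∀ b u, W u → W (op b u)
  op_zero : ∀ u, op 0 u = u
  op_mul : ∀ b c, b < 2 ^ M.d → c < 2 ^ M.d → ∀ u,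
    op b (op c u) = (M.sgn b c : k) • op (b ^^^ c) u
  op_gen : ∀ i, i < M.d → ∀ j, j < M.n →
    op (2 ^ i) (e j) = ∑ l ∈ Finset.range M.n, ((((M.ops.getD i []).getD j []).getD l 0 : ℕ) : k) • e l
  lin : ∀ g, Nrm g → ∀ (c : k) (u : V), g • (c • u) = c • (g • u)
  W_g : ∀ g, Nrm g → ∀ u, W u → W (g • u)
  Nrm_mul : ∀ g h, Nrm g → Nrm h → Nrm (g * h)
  Nrm_inv : ∀ g, Nrm g → Nrm g⁻¹
  Nrm_one : Nrm 1
  dec : ∀ g, Nrm g → ∀ b, b < 2 ^ M.d → ∃ l c : ℕ, l < M.q ∧ l % M.q ≠ 0 ∧ c < 2 ^ M.d ∧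
    ∀ u, W u → g • op b u = (l : k) • op c (g • u)

namespace Real

variable (R : Real M k V G)

/-- The vector coded by a packed number. -/
def vec (N : ℕ) : V := ∑ j ∈ Finset.range M.n, (dig N j : k) • R.e j

theorem W_sum (s : Finset ℕ) (f : ℕ → V) (h : ∀ j ∈ s, R.W (f j)) : R.W (∑ j ∈ s, f j) := by
  classical
  induction s using Finset.induction_on with
  | empty => simpa using R.W_zero
  | @insert a s ha ih =>
    rw [Finset.sum_insert ha]
    exact R.W_sub _ _ (h a (Finset.mem_insert_self a s))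
      (ih fun j hj => h j (Finset.mem_insert_of_mem hj))

theorem W_vec (N : ℕ) : R.W (R.vec N) :=
  R.W_sum _ _ fun j hj => R.W_smul _ _ (R.W_e j (Finset.mem_range.mp hj))

include R in
theorem cast_mod (a : ℕ) : ((a % M.q : ℕ) : k) = (a : k) := by
  haveI := R.charp
  exact (CharP.cast_eq_iff_mod_eq k M.q).mpr (Nat.mod_mod a M.q) |> fun h => h

include R in
theorem cast_eq {a b : ℕ} (h : a % M.q = b % M.q) : (a : k) = b := by
  rw [← R.cast_mod a, h, R.cast_mod]

include R in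
theorem cast_inj {a b : ℕ} (h : (a : k) = b) : a % M.q = b % M.q := by
  haveI := R.charp
  exact (CharP.cast_eq_iff_mod_eq k M.q).mp h

theorem vec_coord {N N' : ℕ} {a a' : ℕ} (h : (a : k) • R.vec N = (a' : k) • R.vec N') (j : ℕ)
    (hj : j < M.n) : (a * dig N j) % M.q = (a' * dig N' j) % M.q := by
  have hq0 := R.hq.pos
  have h' : ∑ i ∈ Finset.range M.n,
      ((a * dig N i + (M.q - (a' * dig N' i) % M.q) : ℕ) : k) • R.e i = 0 := by
    have hneg : ∀ i, ((M.q - (a' * dig N' i) % M.q : ℕ) : k) = -((a' : k) * (dig N' i : k)) := by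
      intro i
      haveI := R.charp
      rw [Nat.cast_sub (Nat.mod_lt _ hq0).le, CharP.cast_eq_zero k M.q, zero_sub, R.cast_mod,
        Nat.cast_mul]
    simp only [Nat.cast_add, Nat.cast_mul, hneg, add_smul, neg_smul, Finset.sum_add_distrib,
      Finset.sum_neg_distrib, mul_smul, ← Finset.smul_sum]
    exact add_neg_eq_zero.mpr h
  have := R.indep _ h' j hj
  refine R.cast_inj ?_
  have e : ((a * dig N j + (M.q - (a' * dig N' j) % M.q) : ℕ) : k) = 0 := by
    rw [← R.cast_mod, this, Nat.cast_zero]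
  haveI := R.charp
  rw [Nat.cast_add, Nat.cast_sub (Nat.mod_lt _ hq0).le, CharP.cast_eq_zero k M.q, R.cast_mod,
    zero_sub, ← sub_eq_add_neg, sub_eq_zero] at e
  exact e

theorem eqScaled_of {l : ℕ} {N N' : ℕ} (h : (l : k) • R.vec N = R.vec N') :
    M.eqScaled l N N' = true := by
  simp only [Mdl.eqScaled, List.all_eq_true, List.mem_range, beq_iff_eq]
  intro j hj
  have := R.vec_coord (a' := 1) (by rw [h, Nat.cast_one, one_smul]) j hj
  rwa [one_mul] at this

include R in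
theorem sgn_ne (b c : ℕ) : (M.sgn b c : k) ≠ 0 := by
  haveI := R.charp
  rw [Mdl.sgn]
  have h2 := R.hq.two_le
  split_ifs
  · rw [Ne, CharP.cast_eq_zero_iff k M.q]
    intro h
    have := Nat.le_of_dvd (by omega) h
    omega
  · simp

include R in
theorem sgn_sq (b c : ℕ) : (M.sgn b c : k) * (M.sgn b c : k) = 1 := by
  haveI := R.charp
  rw [Mdl.sgn]
  split_ifs
  · rw [Nat.cast_sub R.hq.one_le, CharP.cast_eq_zero k M.q]; simp
  · simp

/-- A table of an orbit. -/
theorem tbl_spec {t : ℕ} (ht : M.tblOk t = true) :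
    ∀ b, b < 2 ^ M.d → R.op b (R.vec (ent t 0)) = R.vec (ent t b) := by
  simp only [Mdl.tblOk, List.all_eq_true, List.mem_range, beq_iff_eq] at ht
  intro b
  induction b using Nat.strong_induction_on with
  | _ b ih =>
    intro hb
    rcases Nat.eq_zero_or_pos b with rfl | hpos
    · exact R.op_zero _
    obtain ⟨i, hi1, hi2⟩ : ∃ i, 2 ^ i ≤ b ∧ b < 2 ^ (i + 1) :=
      ⟨Nat.log 2 b, Nat.pow_log_le_self 2 hpos.ne', Nat.lt_pow_succ_log_self Nat.one_lt_two b⟩
    have hid : i < M.d := by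
      by_contra h
      exact absurd (lt_of_lt_of_le hb (Nat.pow_le_pow_right (by norm_num) (not_lt.mp h)))
        (not_lt.mpr hi1)
    set b' := 2 ^ i ^^^ b with hb'
    have hb'lt : b' < 2 ^ i := by
      have h1 : b' < 2 ^ (i + 1) :=
        Nat.xor_lt_two_pow (Nat.pow_lt_pow_right (by norm_num) (Nat.lt_succ_self i)) hi2
      by_contra hge
      have t1 : b'.testBit i = true := Nat.testBit_of_two_pow_le_and_two_pow_add_one_gt (by omega) h1
      have t2 : b.testBit i = true := Nat.testBit_of_two_pow_le_and_two_pow_add_one_gt hi1 hi2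
      rw [hb', Nat.testBit_xor, t2, Nat.testBit_two_pow_self] at t1
      exact Bool.false_ne_true t1
    have hbd : b' < 2 ^ M.d := by
      exact lt_trans hb'lt (Nat.pow_lt_pow_right (by norm_num) hid)
    have hbb : 2 ^ i ^^^ b' = b := by rw [hb', ← Nat.xor_assoc, Nat.xor_self, Nat.zero_xor]
    have h1 := R.op_mul (2 ^ i) b' (Nat.pow_lt_pow_right (by norm_num) hid) hbd (R.vec (ent t 0))
    rw [hbb, ih b' (by omega) hbd] at h1
    have h2 : R.op (2 ^ i) (R.vec (ent t b')) = (M.sgn (2 ^ i) b' : k) • R.vec (ent t b) := by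
      simp only [vec, map_sum, map_smul, Finset.smul_sum]
      rw [Finset.sum_congr rfl fun j hj => by rw [R.op_gen i hid j (Finset.mem_range.mp hj)]]
      simp only [Finset.smul_sum, smul_smul]
      rw [Finset.sum_comm]
      refine Finset.sum_congr rfl fun l hl => ?_
      rw [← Finset.sum_smul]
      congr 1
      have h3 := ht i hid b' hbd l (Finset.mem_range.mp hl)
      rw [hbb] at h3
      have h4 := R.cast_eq h3
      rw [Nat.cast_mul] at h4
      rw [h4, Nat.cast_list_sum, List.map_map, ← List.sum_toFinset _ List.nodup_range,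
        List.toFinset_range]
      exact Finset.sum_congr rfl fun j _ => by simp
    rw [h2] at h1
    exact (smul_right_injective V (R.sgn_ne (2 ^ i) b') h1).symm

/-- The image of a scaled word under `g`. -/
def RepE (g : G) (a x : ℕ × ℕ) : Prop :=
  a.2 < 2 ^ M.d ∧ x.2 < 2 ^ M.d ∧
    ∀ u, R.W u → g • ((a.1 : k) • R.op a.2 u) = (x.1 : k) • R.op x.2 (g • u)

theorem op_scaled (x y : ℕ × ℕ) (hx : x.2 < 2 ^ M.d) (hy : y.2 < 2 ^ M.d) (u : V) :
    ((M.mul x y).1 : k) • R.op (M.mul x y).2 u =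
      (x.1 : k) • R.op x.2 ((y.1 : k) • R.op y.2 u) := by
  rw [map_smul, R.op_mul _ _ hx hy, smul_smul, smul_smul]
  simp only [Mdl.mul]
  rw [R.cast_mod, Nat.cast_mul, Nat.cast_mul]

theorem rep_mul {g : G} (hg : R.Nrm g) {a a' x x' : ℕ × ℕ} (h : R.RepE g a x)
    (h' : R.RepE g a' x') : R.RepE g (M.mul a a') (M.mul x x') := by
  refine ⟨Nat.xor_lt_two_pow h.1 h'.1, Nat.xor_lt_two_pow h.2.1 h'.2.1, fun u hu => ?_⟩
  rw [R.op_scaled a a' h.1 h'.1, h.2.2 _ (R.W_smul _ _ (R.W_op _ _ hu)), h'.2.2 u hu,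
    R.op_scaled x x' h.2.1 h'.2.1]

theorem rep_one (g : G) (hg : R.Nrm g) : R.RepE g (1, 0) (1, 0) :=
  ⟨Nat.two_pow_pos _, Nat.two_pow_pos _, fun u _ => by simp [R.op_zero]⟩

theorem rep_prod {g : G} (hg : R.Nrm g) (A X : List (ℕ × ℕ))
    (h : ∀ i, R.RepE g (A.getD i (1, 0)) (X.getD i (1, 0))) (S : List ℕ) :
    R.RepE g (M.prod A S) (M.prod X S) := by
  simp only [Mdl.prod]
  suffices ∀ (a x : ℕ × ℕ), R.RepE g a x →
      R.RepE g (S.foldl (fun acc i => M.mul acc (A.getD i (1, 0))) a)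
        (S.foldl (fun acc i => M.mul acc (X.getD i (1, 0))) x) from this _ _ (R.rep_one g hg)
  induction S with
  | nil => exact fun a x hax => hax
  | cons i S ih => exact fun a x hax => ih _ _ (R.rep_mul hg hax (h i))

theorem rep_unique {tw : ℕ} (ht : M.tblOk tw = true) (hinj : M.injOk tw = true) {g : G}
    (hg : R.Nrm g) {a x y : ℕ × ℕ} (hx : R.RepE g a x) (hy : R.RepE g a y) (ha : a.1 % M.q ≠ 0) :
    x.2 = y.2 ∧ x.1 % M.q = y.1 % M.q := by
  haveI := R.charp
  set w0 := R.vec (ent tw 0) with hw0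
  have hu : R.W (g⁻¹ • w0) := R.W_g _ (R.Nrm_inv g hg) _ (R.W_vec _)
  have h1 := hx.2.2 _ hu
  rw [hy.2.2 _ hu, smul_inv_smul, hw0, R.tbl_spec ht _ hx.2.1, R.tbl_spec ht _ hy.2.1] at h1
  have hq := R.hq
  have hnz : (x.1 : k) ≠ 0 := by
    intro e
    have h2 := hx.2.2 _ hu
    rw [e, zero_smul, R.lin g hg] at h2
    have ha0 : (a.1 : k) ≠ 0 := by
      rw [Ne, CharP.cast_eq_zero_iff k M.q, Nat.dvd_iff_mod_eq_zero]; exact ha
    have h3 : g • R.op a.2 (g⁻¹ • w0) = 0 := (smul_eq_zero.mp h2).resolve_left ha0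
    rw [smul_eq_iff_eq_inv_smul, smul_zero] at h3
    have h4 := congrArg (R.op a.2) h3
    rw [R.op_mul _ _ hx.1 hx.1, map_zero, Nat.xor_self, R.op_zero] at h4
    have h5 : g⁻¹ • w0 = 0 := (smul_eq_zero.mp h4).resolve_left (R.sgn_ne _ _)
    rw [smul_eq_iff_eq_inv_smul, smul_zero] at h5
    simp only [Mdl.injOk, List.all_eq_true, List.mem_range, Bool.or_eq_true, Bool.and_eq_true,
      beq_iff_eq, Bool.not_eq_true'] at hinj
    rcases hinj 1 (by have := hq.two_le; have := R.hq2; omega) 0 (Nat.two_pow_pos _) 0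
      (Nat.two_pow_pos _) with h | h
    · exact absurd h.2 one_ne_zero
    · rw [R.eqScaled_of (by rw [← hw0, h5, smul_zero])] at h
      exact absurd h (by simp)
  -- the scalar quotient
  obtain ⟨l, hl⟩ : ∃ l : ℕ, (l : k) * (x.1 : k) = (y.1 : k) := by
    obtain ⟨z, -, hz⟩ := Nat.exists_mul_mod_eq_one_of_coprime
      (k := M.q) (n := x.1) ((hq.coprime_iff_not_dvd.mpr fun h => hnz
        ((CharP.cast_eq_zero_iff k M.q _).mpr h)).symm) hq.one_lt
    refine ⟨z * y.1, ?_⟩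
    have hz' : (x.1 : k) * (z : k) = 1 := by
      rw [← Nat.cast_mul, ← R.cast_mod, hz, Nat.cast_one]
    push_cast
    linear_combination (y.1 : k) * hz'
  have h6 : ((l % M.q : ℕ) : k) • R.vec (ent tw y.2) = R.vec (ent tw x.2) := by
    refine smul_right_injective V hnz ?_
    simp only [smul_smul, R.cast_mod]
    rw [mul_comm, hl, h1]
  have h7 := R.eqScaled_of h6
  simp only [Mdl.injOk, List.all_eq_true, List.mem_range, Bool.or_eq_true, Bool.and_eq_true,
    beq_iff_eq, Bool.not_eq_true'] at hinj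
  have hlq : l % M.q ≠ 0 := by
    intro e
    rw [e, Nat.cast_zero, zero_smul] at h6
    rcases hinj 1 (by have := hq.two_le; have := R.hq2; omega) x.2 hx.2.1 x.2 hx.2.1 with h | h
    · exact absurd h.2 one_ne_zero
    · rw [R.eqScaled_of (by rw [← h6, smul_zero])] at h
      exact absurd h (by simp)
  obtain ⟨l', hl'⟩ : ∃ l', l % M.q = l' + 1 := ⟨l % M.q - 1, by omega⟩
  have hl'q : l' < M.q - 1 := by
    have := Nat.mod_lt l hq.pos
    omega
  rw [hl'] at h7
  rcases hinj l' hl'q y.2 hy.2.1 x.2 hx.2.1 with h | h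
  · refine ⟨h.1.symm, R.cast_inj ?_⟩
    rw [← hl, ← R.cast_mod l, hl', h.2, zero_add, Nat.cast_one, one_mul]
  · rw [h7] at h
    exact absurd h (by simp)

end Real

end Cfsg.Agent.BaseTwo.Cert
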