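import Cfsg.Agent.BaseTwo.CertSound

/-!
# A certificate yields a pair
-/

set_option autoImplicit false
set_option linter.style.haveILetI false
set_option linter.unusedSectionVars false
set_option linter.unusedVariables false

namespace Cfsg.Agent.BaseTwo.Cert

variable {M : Mdl} {k V G : Type*} [Field k] [AddCommGroup V] [Module k V] [Group G]
  [DistribMulAction G V] [Finite G]

namespace Real

variable (R : Real M k V G)

/-- The permutation of the words induced by `g`. -/
def HasPi (g : G) (L : List ℕ) : Prop :=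
  ∀ b, b < 2 ^ M.d → L.getD b 0 < 2 ^ M.d ∧ ∃ l : ℕ, R.RepE g (1, b) (l, L.getD b 0)

theorem getD_range {n b : ℕ} (h : b < n) (f : ℕ → ℕ) :
    ((List.range n).map f).getD b 0 = f b := by
  simp [List.getD_eq_getElem?_getD, List.getElem?_range h]

theorem getD_idPi {b : ℕ} (h : b < 2 ^ M.d) : M.idPi.getD b 0 = b := by
  simp [Mdl.idPi, List.getD_eq_getElem?_getD, List.getElem?_range h]

theorem hasPi_one : R.HasPi 1 M.idPi := fun b hb => by
  rw [getD_idPi hb]
  exact ⟨hb, 1, hb, hb, fun u _ => by simp⟩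

theorem hasPi_mul {g h : G} (hg : R.Nrm g) (hh : R.Nrm h) {L L' : List ℕ} (h1 : R.HasPi g L)
    (h2 : R.HasPi h L') : R.HasPi (g * h) (M.comp L L') := by
  intro b hb
  obtain ⟨hc, l, hl⟩ := h2 b hb
  obtain ⟨hc', l', hl'⟩ := h1 _ hc
  rw [Mdl.comp, getD_range hb]
  refine ⟨hc', l * l', hb, hc', fun u hu => ?_⟩
  rw [mul_smul, hl.2.2 u hu, mul_smul, R.lin g hg, Nat.cast_mul, mul_smul]
  congr 1
  have := hl'.2.2 _ (R.W_g h hh u hu)
  rwa [Nat.cast_one, one_smul] at this

variable {tw : ℕ}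

theorem hasPi_unique (ht : M.tblOk tw = true) (hinj : M.injOk tw = true) {g : G} (hg : R.Nrm g)
    {L L' : List ℕ} (h1 : R.HasPi g L) (h2 : R.HasPi g L') {b : ℕ} (hb : b < 2 ^ M.d) :
    L.getD b 0 = L'.getD b 0 := by
  obtain ⟨-, l, hl⟩ := h1 b hb
  obtain ⟨-, l', hl'⟩ := h2 b hb
  refine (R.rep_unique ht hinj hg hl hl' ?_).1
  rw [Nat.mod_eq_of_lt R.hq.one_lt]
  exact one_ne_zero

theorem hasPi_pow {g : G} (hg : R.Nrm g) {L : List ℕ} (h : R.HasPi g L) :
    ∀ n, R.Nrm (g ^ n) ∧ R.HasPi (g ^ n) (M.iter L n) := by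
  intro n
  induction n with
  | zero => rw [pow_zero]; exact ⟨R.Nrm_one, R.hasPi_one⟩
  | succ n ih =>
    rw [pow_succ']
    exact ⟨R.Nrm_mul _ _ hg ih.1, R.hasPi_mul hg ih.1 h ih.2⟩

theorem hasPi_triv_pow {g : G} (hg : R.Nrm g) (h : R.HasPi g M.idPi) :
    ∀ n, R.Nrm (g ^ n) ∧ R.HasPi (g ^ n) M.idPi := by
  intro n
  induction n with
  | zero => rw [pow_zero]; exact ⟨R.Nrm_one, R.hasPi_one⟩
  | succ n ih =>
    rw [pow_succ']
    refine ⟨R.Nrm_mul _ _ hg ih.1, fun b hb => ?_⟩
    obtain ⟨hc, l, hl⟩ := R.hasPi_mul hg ih.1 h ih.2 b hb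
    have e : (M.comp M.idPi M.idPi).getD b 0 = M.idPi.getD b 0 := by
      rw [Mdl.comp, getD_range hb, getD_idPi hb, getD_idPi hb]
    rw [e] at hc hl
    exact ⟨hc, l, hl⟩

theorem rep_scale {g : G} (hg : R.Nrm g) (s : ℕ) {a x : ℕ × ℕ} (h : R.RepE g a x) :
    R.RepE g (s * a.1, a.2) (s * x.1, x.2) := by
  refine ⟨h.1, h.2.1, fun u hu => ?_⟩
  rw [Nat.cast_mul, mul_smul, R.lin g hg, h.2.2 u hu, Nat.cast_mul, mul_smul]

include R in
theorem mul_ne {x y : ℕ × ℕ} (hx : x.1 % M.q ≠ 0) (hy : y.1 % M.q ≠ 0) :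
    (M.mul x y).1 % M.q ≠ 0 := by
  haveI := R.charp
  intro e
  have h0 : ((M.mul x y).1 : k) = 0 := by rw [← R.cast_mod, e, Nat.cast_zero]
  simp only [Mdl.mul] at h0
  rw [R.cast_mod, Nat.cast_mul, Nat.cast_mul] at h0
  rcases mul_eq_zero.mp h0 with h | h
  · rcases mul_eq_zero.mp h with h | h
    · exact hx (Nat.mod_eq_zero_of_dvd ((CharP.cast_eq_zero_iff k M.q _).mp h) |> fun h => h)
    · exact hy (Nat.mod_eq_zero_of_dvd ((CharP.cast_eq_zero_iff k M.q _).mp h) |> fun h => h)
  · exact R.sgn_ne _ _ h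

include R in
theorem one_mod_ne : 1 % M.q ≠ 0 := by
  rw [Nat.mod_eq_of_lt R.hq.one_lt]; exact one_ne_zero

theorem ref_getD_fst (gens : List ℕ) (i : ℕ) : ((Mdl.ref gens).getD i (1, 0)).1 = 1 := by
  simp only [Mdl.ref, List.getD_eq_getElem?_getD, List.getElem?_map]
  cases gens[i]? <;> rfl

include R in
theorem prod_ref_ne (gens : List ℕ) (S : List ℕ) :
    (M.prod (Mdl.ref gens) S).1 % M.q ≠ 0 := by
  simp only [Mdl.prod]
  suffices ∀ a : ℕ × ℕ, a.1 % M.q ≠ 0 →
      (S.foldl (fun acc i => M.mul acc ((Mdl.ref gens).getD i (1, 0))) a).1 % M.q ≠ 0 from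
    this _ R.one_mod_ne
  induction S with
  | nil => exact fun a ha => ha
  | cons i S ih =>
    exact fun a ha => ih _ (R.mul_ne ha (by rw [ref_getD_fst]; exact R.one_mod_ne))

theorem rel_transfer {g : G} (hg : R.Nrm g) {tv tw : ℕ} (htv : M.tblOk tv = true)
    (htw : M.tblOk tw = true) (hv : g • R.vec (ent tv 0) = R.vec (ent tv 0))
    (hw : g • R.vec (ent tw 0) = R.vec (ent tw 0)) {A X : List (ℕ × ℕ)}
    (h : ∀ i, R.RepE g (A.getD i (1, 0)) (X.getD i (1, 0))) {r : Rel}
    (hr : M.evalRel tv tw A r = true) : M.evalRel tv tw X r = true := by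
  simp only [Mdl.evalRel, List.all_eq_true, List.mem_range, beq_iff_eq] at hr ⊢
  haveI := R.charp
  -- the value of a term
  let val : List (ℕ × ℕ) → (ℕ × List ℕ × Bool) → V := fun Y t =>
    ((t.1 : k) * ((M.prod Y t.2.1).1 : k)) •
      R.op (M.prod Y t.2.1).2 (R.vec (ent (if t.2.2 then tw else tv) 0))
  have hlt : ∀ t : ℕ × List ℕ × Bool,
      (M.prod A t.2.1).2 < 2 ^ M.d ∧ (M.prod X t.2.1).2 < 2 ^ M.d := fun t =>
    ⟨(R.rep_prod hg A X h t.2.1).1, (R.rep_prod hg A X h t.2.1).2.1⟩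
  have hval : ∀ Y : List (ℕ × ℕ), (∀ t ∈ r, (M.prod Y t.2.1).2 < 2 ^ M.d) →
      (r.map (val Y)).sum = ∑ j ∈ Finset.range M.n,
        (((r.map fun t => M.term tv tw Y t j).sum : ℕ) : k) • R.e j := by
    intro Y hY
    clear hr
    induction r with
    | nil => simp
    | cons t r ih =>
      simp only [List.map_cons, List.sum_cons, Nat.cast_add, add_smul, Finset.sum_add_distrib]
      rw [ih fun t ht => hY t (List.mem_cons_of_mem _ ht)]
      congr 1
      have hb := hY t (List.mem_cons_self ..)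
      show ((t.1 : k) * ((M.prod Y t.2.1).1 : k)) •
        R.op (M.prod Y t.2.1).2 (R.vec (ent (if t.2.2 then tw else tv) 0)) = _
      rw [R.tbl_spec (by split_ifs <;> assumption) _ hb, vec, Finset.smul_sum]
      refine Finset.sum_congr rfl fun j _ => ?_
      rw [smul_smul, Mdl.term, Nat.cast_mul, Nat.cast_mul]
  have h0 : (r.map (val A)).sum = 0 := by
    rw [hval A fun t _ => (hlt t).1]
    refine Finset.sum_eq_zero fun j hj => ?_
    rw [← R.cast_mod, hr j (Finset.mem_range.mp hj), Nat.cast_zero, zero_smul]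
  have hgval : ∀ t, g • val A t = val X t := by
    intro t
    show g • (((t.1 : k) * ((M.prod A t.2.1).1 : k)) • R.op _ _) = _
    rw [mul_smul, R.lin g hg, (R.rep_prod hg A X h t.2.1).2.2 _ (R.W_vec _)]
    have hz : g • R.vec (ent (if t.2.2 then tw else tv) 0) =
        R.vec (ent (if t.2.2 then tw else tv) 0) := by split_ifs <;> assumption
    rw [hz, smul_smul]
  have h1 : (r.map (val X)).sum = 0 := by
    have : g • (r.map (val A)).sum = (r.map (val X)).sum := by
      rw [List.smul_sum, List.map_map]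
      congr 1
      exact List.map_congr_left fun t _ => hgval t
    rw [← this, h0, smul_zero]
  rw [hval X fun t _ => (hlt t).2] at h1
  exact R.indep _ h1

theorem run_mem {nd : Node} (hok : M.nodeOk nd = true) {g : G} (hg : R.Nrm g)
    (hv : g • R.vec (ent nd.tv 0) = R.vec (ent nd.tv 0))
    (hw : g • R.vec (ent nd.tw 0) = R.vec (ent nd.tw 0)) :
    ∀ (L : List (ℕ × List Rel)) (done : List ℕ) (states : List (List (ℕ × ℕ))),
      M.relsAux nd.tv nd.tw L done = true → (∀ p ∈ L, p.1 < 2 ^ M.d) →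
      ∀ st ∈ states, st.length = done.length →
        (∀ i, R.RepE g ((Mdl.ref done).getD i (1, 0)) (st.getD i (1, 0))) →
        ∃ img ∈ M.run nd.tv nd.tw L done states, img.length = done.length + L.length ∧
          ∀ i, R.RepE g ((Mdl.ref (done ++ L.map Prod.fst)).getD i (1, 0)) (img.getD i (1, 0)) := by
  simp only [Mdl.nodeOk, Bool.and_eq_true] at hok
  obtain ⟨⟨⟨⟨⟨⟨⟨htv, htw⟩, -⟩, hinj⟩, -⟩, -⟩, -⟩, -⟩ := hok
  intro L
  induction L with
  | nil =>
    intro done states _ _ st hst hlen hrep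
    exact ⟨st, hst, by simp [hlen], by simpa using hrep⟩
  | cons p L ih =>
    obtain ⟨b, Rs⟩ := p
    intro done states hrels hlt st hst hlen hrep
    simp only [Mdl.relsAux, Bool.and_eq_true, List.all_eq_true] at hrels
    have hb : b < 2 ^ M.d := hlt (b, Rs) (List.mem_cons_self ..)
    obtain ⟨l, c, hlq, hl0, hc, hlc⟩ := R.dec g hg b hb
    have hx : R.RepE g (1, b) (l, c) := ⟨hb, hc, fun u hu => by simpa using hlc u hu⟩
    have hrep' : ∀ i, R.RepE g ((Mdl.ref (done ++ [b])).getD i (1, 0))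
        ((st ++ [(l, c)]).getD i (1, 0)) := by
      intro i
      simp only [Mdl.ref, List.map_append, List.map_cons, List.map_nil,
        List.getD_eq_getElem?_getD]
      rcases lt_trichotomy i done.length with h | h | h
      · rw [List.getElem?_append_left (by simpa using h), List.getElem?_append_left (by omega)]
        simpa [List.getD_eq_getElem?_getD, Mdl.ref] using hrep i
      · subst h
        rw [List.getElem?_append_right (by simp), List.getElem?_append_right (by omega)]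
        simpa [hlen] using hx
      · rw [List.getElem?_eq_none (by simp; omega), List.getElem?_eq_none (by simp; omega)]
        exact R.rep_one g hg
    have hmem : st ++ [(l, c)] ∈ M.step nd.tv nd.tw done b Rs st := by
      simp only [Mdl.step, List.mem_map, List.mem_filter, Bool.and_eq_true, List.all_eq_true]
      refine ⟨(l, c), ⟨?_, ?_, fun r hr => ?_⟩, rfl⟩
      · simp only [Mdl.allEls, List.mem_flatMap, List.mem_range, List.mem_map]
        have : l ≠ 0 := fun e => hl0 (by rw [e, Nat.zero_mod])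
        exact ⟨l - 1, by omega, c, hc, by rw [show l - 1 + 1 = l by omega]⟩
      · simp only [Mdl.okC, Bool.and_eq_true, beq_iff_eq, List.all_eq_true]
        refine ⟨?_, fun yh hyh => ?_⟩
        · have h1 := R.rep_mul hg hx hx
          have h2 : R.RepE g (M.mul (1, b) (1, b)) (M.mul (1, b) (1, b)) := by
            have e : (M.mul (1, b) (1, b)).2 = 0 := Nat.xor_self b
            refine ⟨by rw [e]; exact Nat.two_pow_pos _, by rw [e]; exact Nat.two_pow_pos _,
              fun u _ => ?_⟩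
            rw [e, R.lin g hg, R.op_zero, R.op_zero]
          have h3 := (R.rep_unique htw hinj hg h1 h2 (R.mul_ne R.one_mod_ne R.one_mod_ne)).2
          simp only [Mdl.mul, Nat.mod_mod] at h3 ⊢
          exact h3
        · obtain ⟨i, hi, e⟩ := List.getElem_of_mem hyh
          rw [List.getElem_zip, List.getElem_map] at e
          simp only [List.length_zip, List.length_map] at hi
          obtain ⟨y, h'⟩ := yh
          simp only [Prod.mk.injEq] at e
          obtain ⟨e1, e2⟩ := e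
          have hy : R.RepE g h' y := by
            have := hrep i
            rw [List.getD_eq_getElem _ _ (by simp [Mdl.ref]; omega),
              List.getD_eq_getElem _ _ (by omega)] at this
            simp only [Mdl.ref, List.getElem_map] at this
            rwa [e1, e2] at this
          have h1 := R.rep_scale hg (M.mul h' (1, b)).1 (R.rep_mul hg hx hy)
          have h2 := R.rep_scale hg (M.mul (1, b) h').1 (R.rep_mul hg hy hx)
          have hne : ((M.mul h' (1, b)).1 * (M.mul (1, b) h').1) % M.q ≠ 0 := by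
            have ha : h'.1 % M.q ≠ 0 := by rw [← e2]; exact R.one_mod_ne
            intro e0
            rcases (R.hq.dvd_mul).mp (Nat.dvd_of_mod_eq_zero e0) with hd | hd
            · exact R.mul_ne ha R.one_mod_ne (Nat.mod_eq_zero_of_dvd hd)
            · exact R.mul_ne R.one_mod_ne ha (Nat.mod_eq_zero_of_dvd hd)
          have e12 : (M.mul h' (1, b)).2 = (M.mul (1, b) h').2 := Nat.xor_comm _ _
          rw [e12, mul_comm (M.mul (1, b) h').1 (M.mul h' (1, b)).1] at h2
          have h3 := (R.rep_unique htw hinj hg h1 h2 hne).2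
          show ((M.mul (l, c) y).1 * (M.mul h' (1, b)).1) % M.q =
            ((M.mul y (l, c)).1 * (M.mul (1, b) h').1) % M.q
          rw [mul_comm _ (M.mul h' (1, b)).1, mul_comm _ (M.mul (1, b) h').1]
          exact h3
      · exact R.rel_transfer hg htv htw hv hw hrep' (hrels.1 r hr)
    obtain ⟨img, h1, h2, h3⟩ := ih (done ++ [b])
      (states.flatMap fun st => M.step nd.tv nd.tw done b Rs st) hrels.2
      (fun p hp => hlt p (List.mem_cons_of_mem _ hp)) (st ++ [(l, c)])
      (List.mem_flatMap.mpr ⟨st, hst, hmem⟩) (by simp [hlen]) hrep'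
    refine ⟨img, h1, by simp [h2]; omega, ?_⟩
    simpa [List.append_assoc] using h3

/-- A node serves. -/
def Good (nd : Node) : Prop :=
  M.nodeOk nd = true ∧ ∀ g, R.Nrm g → g • R.vec (ent nd.tv 0) = R.vec (ent nd.tv 0) →
    g • R.vec (ent nd.tw 0) = R.vec (ent nd.tw 0) → ∀ j, j < M.n → g • R.e j = R.e j

theorem fix_of_ref {nd : Node} (hok : M.nodeOk nd = true) {g : G} (hg : R.Nrm g)
    (hv : g • R.vec (ent nd.tv 0) = R.vec (ent nd.tv 0))
    (h : ∀ i, R.RepE g ((Mdl.ref nd.gens).getD i (1, 0)) ((Mdl.ref nd.gens).getD i (1, 0)))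
    (j : ℕ) (hj : j < M.n) : g • R.e j = R.e j := by
  simp only [Mdl.nodeOk, Bool.and_eq_true] at hok
  obtain ⟨⟨⟨⟨⟨⟨⟨htv, htw⟩, -⟩, hinj⟩, -⟩, -⟩, hspan⟩, hgen⟩ := hok
  simp only [Mdl.genOk, Bool.and_eq_true, beq_iff_eq, List.all_eq_true, List.mem_range,
    decide_eq_true_eq] at hgen
  simp only [Mdl.spanOk, Bool.and_eq_true, beq_iff_eq, List.all_eq_true, List.mem_range,
    decide_eq_true_eq] at hspan
  haveI := R.charp
  have hfix : ∀ b, b < 2 ^ M.d → g • R.vec (ent nd.tv b) = R.vec (ent nd.tv b) := by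
    intro b hb
    have hp := R.rep_prod hg _ _ h (nd.subsets.getD b [])
    have hne := R.prod_ref_ne nd.gens (nd.subsets.getD b [])
    have hb2 := hgen.2 b hb
    have := hp.2.2 _ (R.W_vec (ent nd.tv 0))
    rw [hb2, hv, R.tbl_spec htv b hb, R.lin g hg] at this
    refine smul_right_injective V ?_ this
    rw [Ne, CharP.cast_eq_zero_iff k M.q]
    exact fun hd => hne (Nat.mod_eq_zero_of_dvd hd)
  have he : R.e j = ((nd.span.getD j []).map fun cb =>
      (cb.1 : k) • R.vec (ent nd.tv cb.2)).sum := by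
    have hL : ∀ L : List (ℕ × ℕ),
        (L.map fun cb => (cb.1 : k) • R.vec (ent nd.tv cb.2)).sum = ∑ l ∈ Finset.range M.n,
          (((L.map fun cb => cb.1 * dig (ent nd.tv cb.2) l).sum : ℕ) : k) • R.e l := by
      intro L
      induction L with
      | nil => simp
      | cons t L ih =>
        simp only [List.map_cons, List.sum_cons, Nat.cast_add, add_smul, Finset.sum_add_distrib, ih]
        rw [vec, Finset.smul_sum]
        congr 1
        exact Finset.sum_congr rfl fun l _ => by rw [smul_smul, Nat.cast_mul]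
    rw [hL, Finset.sum_eq_single j]
    · rw [← R.cast_mod, (hspan.2 j hj).2 j hj, if_pos rfl, Nat.cast_one, one_smul]
    · intro l hl hne
      rw [← R.cast_mod, (hspan.2 j hj).2 l (Finset.mem_range.mp hl), if_neg (Ne.symm hne),
        Nat.cast_zero, zero_smul]
    · exact fun hn => absurd (Finset.mem_range.mpr hj) hn
  rw [he, List.smul_sum, List.map_map]
  congr 1
  refine List.map_congr_left fun cb hcb => ?_
  show g • ((cb.1 : k) • R.vec (ent nd.tv cb.2)) = _
  rw [R.lin g hg, hfix _ ((hspan.2 j hj).1 cb hcb)]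

theorem hasPi_of_leaf {nd : Node} (hok : M.nodeOk nd = true) {g : G} (hg : R.Nrm g)
    {img : List (ℕ × ℕ)}
    (h : ∀ i, R.RepE g ((Mdl.ref nd.gens).getD i (1, 0)) (img.getD i (1, 0))) :
    R.HasPi g (M.piOf nd img) := by
  simp only [Mdl.nodeOk, Bool.and_eq_true] at hok
  obtain ⟨⟨⟨⟨⟨⟨⟨htv, htw⟩, -⟩, hinj⟩, -⟩, -⟩, hspan⟩, hgen⟩ := hok
  simp only [Mdl.genOk, Bool.and_eq_true, beq_iff_eq, List.all_eq_true, List.mem_range,
    decide_eq_true_eq] at hgen
  intro b hb
  rw [Mdl.piOf, getD_range hb]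
  have hp := R.rep_prod hg _ _ h (nd.subsets.getD b [])
  have hne := R.prod_ref_ne nd.gens (nd.subsets.getD b [])
  set P := M.prod (Mdl.ref nd.gens) (nd.subsets.getD b []) with hP
  set Q := M.prod img (nd.subsets.getD b []) with hQ
  have hPb : P.2 = b := hgen.2 b hb
  refine ⟨hp.2.1, ?_⟩
  obtain ⟨l, c, -, -, hc, hlc⟩ := R.dec g hg b hb
  have h1 : R.RepE g (1, b) (l, c) := ⟨hb, hc, fun u hu => by simpa using hlc u hu⟩
  have h2 := R.rep_scale hg P.1 h1
  simp only [mul_one] at h2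
  rw [show (P.1, b) = P by rw [← hPb]] at h2
  have h3 := (R.rep_unique htw hinj hg h2 hp hne).1
  simp only at h3
  exact ⟨l, by rw [← h3]; exact h1⟩

theorem wordPi_length (acc : List (List ℕ)) (w : List ℕ) :
    (M.wordPi acc w).length = 2 ^ M.d := by
  cases w <;> simp [Mdl.wordPi, Mdl.idPi, Mdl.comp]

theorem exists_word {acc : List (List ℕ)} (hacc : ∀ L ∈ acc, ∃ g, R.Nrm g ∧ R.HasPi g L)
    (w : List ℕ) (hw : ∀ i ∈ w, i < acc.length) :
    ∃ g, R.Nrm g ∧ R.HasPi g (M.wordPi acc w) := by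
  induction w with
  | nil => exact ⟨1, R.Nrm_one, R.hasPi_one⟩
  | cons i w ih =>
    obtain ⟨g, hg, hgp⟩ := ih fun j hj => hw j (List.mem_cons_of_mem _ hj)
    have hi := hw i (List.mem_cons_self ..)
    obtain ⟨h, hh, hhp⟩ := hacc (acc.getD i M.idPi) (by
      rw [List.getD_eq_getElem _ _ hi]; exact List.getElem_mem _)
    exact ⟨h * g, R.Nrm_mul h g hh hg, R.hasPi_mul hh hg hhp hgp⟩

theorem tree_sound {tw₀ : ℕ} (ht₀ : M.tblOk tw₀ = true) (hinj₀ : M.injOk tw₀ = true)
    (hcop : ¬ M.q ∣ Nat.card G) :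
    ∀ (fuel : ℕ) (acc : List (List ℕ)) (t : Tree), M.ok fuel acc t = true →
      (∀ L ∈ acc, ∃ g, R.Nrm g ∧ R.HasPi g L) → ∃ nd, R.Good nd := by
  intro fuel
  induction fuel with
  | zero => intro acc t h; simp [Mdl.ok] at h
  | succ fuel ih =>
    intro acc t h hacc
    unfold Mdl.ok at h
    split at h
    next w _ =>
      exfalso
      simp only [Mdl.badOk, Bool.and_eq_true, List.all_eq_true, decide_eq_true_eq,
        Bool.not_eq_true', beq_eq_false_iff_ne, beq_iff_eq] at h
      obtain ⟨⟨hlen, hne⟩, hiter⟩ := h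
      obtain ⟨g, hg, hgp⟩ := R.exists_word hacc w hlen
      obtain ⟨hq, hqp⟩ := R.hasPi_pow hg hgp M.q
      rw [hiter] at hqp
      obtain ⟨s, -, hs⟩ : ∃ s, s < orderOf g ∧ (g ^ M.q) ^ s = g := by
        have hc : (orderOf g).Coprime M.q := ((R.hq.coprime_iff_not_dvd.mpr fun hd =>
          hcop (hd.trans (orderOf_dvd_natCard g))).symm)
        obtain ⟨s, hs⟩ := exists_pow_eq_self_of_coprime hc.symm
        refine ⟨s % orderOf g, Nat.mod_lt _ (orderOf_pos g), ?_⟩
        conv_rhs => rw [← hs]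
        rw [← pow_mul, ← pow_mul, pow_eq_pow_iff_modEq]
        exact Nat.ModEq.mul_left _ (Nat.mod_modEq s _)
      have htriv := (R.hasPi_triv_pow hq hqp s).2
      rw [hs] at htriv
      refine hne (List.ext_getElem (by simp [wordPi_length, Mdl.idPi]) fun b h1 h2 => ?_)
      rw [wordPi_length] at h1
      have e := R.hasPi_unique ht₀ hinj₀ hg hgp htriv h1
      rwa [List.getD_eq_getElem, List.getD_eq_getElem] at e
    next => simp at h
    next nd _ _ =>
      simp only [Bool.and_eq_true, List.all_eq_true, Bool.or_eq_true, beq_iff_eq,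
        List.any_eq_true] at h
      obtain ⟨hok, hleaves⟩ := h
      by_cases hgood : ∀ g, R.Nrm g → g • R.vec (ent nd.tv 0) = R.vec (ent nd.tv 0) →
          g • R.vec (ent nd.tw 0) = R.vec (ent nd.tw 0) → ∀ j, j < M.n → g • R.e j = R.e j
      · exact ⟨nd, hok, hgood⟩
      simp only [not_forall, exists_prop] at hgood
      obtain ⟨g, hg, hv, hw, j, hj, hne⟩ := hgood
      have hok' := hok
      simp only [Mdl.nodeOk, Bool.and_eq_true, Mdl.genOk, beq_iff_eq, List.all_eq_true,
        decide_eq_true_eq, Mdl.relsOk] at hok'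
      obtain ⟨⟨⟨⟨⟨⟨⟨-, -⟩, hrels⟩, -⟩, -⟩, -⟩, -⟩, ⟨⟨⟨-, hlen⟩, hgens⟩, -⟩⟩ := hok'
      obtain ⟨img, himg, -, hrep⟩ := R.run_mem hok hg hv hw (nd.gens.zip nd.rels) [] [[]] hrels
        (fun p hp => hgens p.1 (List.of_mem_zip hp).1) [] (List.mem_singleton_self _) rfl
        (fun i => by simpa [Mdl.ref] using R.rep_one g hg)
      rw [List.nil_append, List.map_fst_zip (le_of_eq hlen)] at hrep
      rcases hleaves img himg with e | ⟨kd, -, hkd, hsub⟩
      · rw [e] at hrep
        exact absurd (R.fix_of_ref hok hg hv hrep j hj) hne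
      · refine ih (acc ++ [kd.1]) kd.2 hsub fun L hL => ?_
        rcases List.mem_append.mp hL with h' | h'
        · exact hacc L h'
        · rw [List.mem_singleton.mp h', hkd]
          exact ⟨g, hg, R.hasPi_of_leaf hok hg hrep⟩

end Real

namespace Real

variable (R : Real M k V G)

/-- **The pair of a certificate.** -/
theorem exists_pair {t : Tree} {nd₀ : Node} (hroot : t.root? = some nd₀) {fuel : ℕ}
    (hok : M.ok fuel [] t = true) (hcop : ¬ M.q ∣ Nat.card G) :
    ∃ v w : V, v ≠ 0 ∧ R.W v ∧ R.W w ∧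
      (∀ l c : ℕ, l % M.q ≠ 0 → c < 2 ^ M.d → (l : k) • R.op c w = w → c = 0 ∧ (l : k) = 1) ∧
      (∀ l c : ℕ, l % M.q ≠ 0 → c < 2 ^ M.d → (l : k) • R.op c w ≠ v) ∧
      ∀ g, R.Nrm g → g • v = v → g • w = w → ∀ j, j < M.n → g • R.e j = R.e j := by
  have h0 : M.nodeOk nd₀ = true := by
    cases fuel with
    | zero => simp [Mdl.ok] at hok
    | succ fuel =>
      unfold Mdl.ok at hok
      rw [hroot] at hok
      split at hok
      next w hw e =>
        cases t with
        | bad w => simp [Tree.root?] at hroot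
        | leaf nd => exact absurd ‹_ = some _› (by simp [Tree.word?])
        | kid a b c => exact absurd ‹_ = some _› (by simp [Tree.word?])
      next => simp at hok
      next nd _ e =>
        rw [Option.some.injEq] at e
        subst e
        simp only [Bool.and_eq_true] at hok
        exact hok.1
  simp only [Mdl.nodeOk, Bool.and_eq_true] at h0
  obtain ⟨⟨⟨⟨⟨⟨⟨-, htw₀⟩, -⟩, hinj₀⟩, -⟩, -⟩, -⟩, -⟩ := h0
  obtain ⟨nd, hnd, hgood⟩ := R.tree_sound htw₀ hinj₀ hcop fuel [] t hok (by simp)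
  simp only [Mdl.nodeOk, Bool.and_eq_true] at hnd
  obtain ⟨⟨⟨⟨⟨⟨⟨htv, htw⟩, -⟩, hinj⟩, hsep⟩, hnz⟩, -⟩, -⟩ := hnd
  refine ⟨R.vec (ent nd.tv 0), R.vec (ent nd.tw 0), ?_, R.W_vec _, R.W_vec _, ?_, ?_, hgood⟩
  · intro e
    simp only [Mdl.nzOk, List.any_eq_true, List.mem_range, Bool.not_eq_true',
      beq_eq_false_iff_ne] at hnz
    obtain ⟨j, hj, hne⟩ := hnz
    exact hne (R.indep (fun i => dig (ent nd.tv 0) i) e j hj)
  · intro l c hl hc h
    rw [R.tbl_spec htw c hc] at h
    have h' : ((l % M.q : ℕ) : k) • R.vec (ent nd.tw c) = R.vec (ent nd.tw 0) := by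
      rw [R.cast_mod]; exact h
    obtain ⟨l', hl'⟩ : ∃ l', l % M.q = l' + 1 := ⟨l % M.q - 1, by omega⟩
    have hl'q : l' < M.q - 1 := by
      have := Nat.mod_lt l R.hq.pos
      omega
    rw [hl'] at h'
    simp only [Mdl.injOk, List.all_eq_true, List.mem_range, Bool.or_eq_true, Bool.and_eq_true,
      beq_iff_eq, Bool.not_eq_true'] at hinj
    rcases hinj l' hl'q c hc 0 (Nat.two_pow_pos _) with ⟨e1, e2⟩ | e
    · exact ⟨e1, by rw [← R.cast_mod, hl', e2, zero_add, Nat.cast_one]⟩
    · rw [R.eqScaled_of h'] at e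
      exact absurd e (by simp)
  · intro l c hl hc h
    rw [R.tbl_spec htw c hc] at h
    have h' : ((l % M.q : ℕ) : k) • R.vec (ent nd.tw c) = R.vec (ent nd.tv 0) := by
      rw [R.cast_mod]; exact h
    obtain ⟨l', hl'⟩ : ∃ l', l % M.q = l' + 1 := ⟨l % M.q - 1, by omega⟩
    have hl'q : l' < M.q - 1 := by
      have := Nat.mod_lt l R.hq.pos
      omega
    rw [hl'] at h'
    simp only [Mdl.sepOk, List.all_eq_true, List.mem_range, Bool.not_eq_true'] at hsep
    have e := hsep l' hl'q c hc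
    rw [R.eqScaled_of h'] at e
    exact absurd e (by simp)

end Real

end Cfsg.Agent.BaseTwo.Cert
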