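import Cfsg.Agent.BaseSize.Fano

/-!
# Groups without elements of order three acting on `F_2^3`: a basis with trivial set stabiliser
-/

set_option autoImplicit false
set_option linter.style.haveILetI false

namespace Cfsg.Agent.BaseTwo.Span

open Cfsg.Agent.BaseSize.Fano (lin)

/-- Coordinates with respect to `x, y, z`. -/
def coord (x y z p : Fin 8) : Fin 8 :=
  ((List.finRange 8).find? fun s => lin x y z s == p).getD 0

/-- The linear map sending the basis `x, y, z` to `a, b, c`. -/
def basisMap (x y z a b c p : Fin 8) : Fin 8 := lin a b c (coord x y z p)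

/-- `x, y, z` is a basis. -/
def valid (x y z : Fin 8) : Bool := (List.finRange 8).all fun p => lin x y z (coord x y z p) == p

theorem lin_lin : ∀ a b c : Fin 8, lin a b c 1 = a ∧ lin a b c 2 = b ∧ lin a b c 4 = c ∧
    lin a b c 0 = 0 := by
  decide +kernel

theorem lin_xor : ∀ a b c p q : Fin 8,
    (lin a b c ⟨(p.val ^^^ q.val) % 8, Nat.mod_lt _ (by norm_num)⟩).val =
      (lin a b c p).val ^^^ (lin a b c q).val := by
  decide +kernel

theorem xor_gen : ∀ s : Fin 8, s.val = ((if s.val.testBit 0 then 1 else 0) ^^^
    (if s.val.testBit 1 then 2 else 0) ^^^ (if s.val.testBit 2 then 4 else 0)) := by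
  decide +kernel

/-- Search trees: a node is a basis and its three children assume one of the three swaps realised;
a leaf is a word of order three in the realised swaps. -/
inductive Tree
  | leaf (w : List ℕ) : Tree
  | node (x y z : Fin 8) (cx cy cz : Tree) : Tree

/-- The composite of a word. -/
def word (gens : List (Fin 8 → Fin 8)) : List ℕ → Fin 8 → Fin 8
  | [], p => p
  | i :: w, p => (gens.getD i id) (word gens w p)

/-- The checker. -/
def ok : List (Fin 8 → Fin 8) → Tree → Bool
  | gens, .leaf w => ((List.finRange 8).all fun p => word gens w (word gens w (word gens w p)) == p)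
      && (List.finRange 8).any fun p => word gens w p != p
  | gens, .node x y z cx cy cz => valid x y z &&
      ok (gens ++ [basisMap x y z x z y]) cx && ok (gens ++ [basisMap x y z z y x]) cy &&
      ok (gens ++ [basisMap x y z y x z]) cz

/-- The tree. -/
def tree : Tree :=
  .node 1 2 4 (.node 1 2 7 (.leaf [0, 1]) (.node 1 2 6 (.leaf [0, 2]) (.leaf [1, 2]) (.node 1 3 6 (.leaf [0, 3]) (.leaf [1, 3]) (.leaf [2, 3]))) (.leaf [0, 1])) (.node 1 2 7 (.node 1 2 5 (.leaf [1, 2]) (.leaf [0, 2]) (.node 1 3 5 (.leaf [0, 3]) (.leaf [0, 3]) (.leaf [2, 3]))) (.leaf [0, 1]) (.leaf [0, 1])) (.node 1 3 5 (.leaf [0, 1]) (.node 1 3 4 (.node 1 3 7 (.leaf [2, 3]) (.leaf [1, 3]) (.leaf [0, 3])) (.leaf [1, 2]) (.leaf [0, 2])) (.leaf [0, 1]))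

theorem tree_ok : ok [] tree = true := by decide +kernel

theorem valid_spec {x y z : Fin 8} (h : valid x y z = true) (p : Fin 8) :
    lin x y z (coord x y z p) = p := by
  simp only [valid, List.all_eq_true, List.mem_finRange, beq_iff_eq, true_implies] at h
  exact h p

/-- `R` is a set of linear maps closed under composition, with no element of order three. -/
structure Closed (R : (Fin 8 → Fin 8) → Prop) : Prop where
  id_mem : R id
  comp : ∀ f g, R f → R g → R (f ∘ g)
  linear : ∀ f, R f → ∀ p, f p = lin (f 1) (f 2) (f 4) p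
  inj : ∀ f, R f → Function.Injective f
  no_three : ∀ f, R f → (∀ p, f (f (f p)) = p) → ∀ p, f p = p

/-- The basis found by the search. -/
def Good (R : (Fin 8 → Fin 8) → Prop) : Prop :=
  ∃ x y z : Fin 8, valid x y z = true ∧ ∀ f, R f →
    (f x = x ∨ f x = y ∨ f x = z) → (f y = x ∨ f y = y ∨ f y = z) →
    (f z = x ∨ f z = y ∨ f z = z) → f x = x ∧ f y = y ∧ f z = z

theorem eq_basisMap {R : (Fin 8 → Fin 8) → Prop} (hR : Closed R) {f : Fin 8 → Fin 8} (hf : R f)
    {x y z : Fin 8} (hv : valid x y z = true) : f = basisMap x y z (f x) (f y) (f z) := by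
  funext p
  have hadd : ∀ q s : Fin 8, (f ⟨(q.val ^^^ s.val) % 8, Nat.mod_lt _ (by norm_num)⟩).val =
      (f q).val ^^^ (f s).val := by
    intro q s
    rw [hR.linear f hf, lin_xor, ← hR.linear f hf, ← hR.linear f hf]
  have key : ∀ s : Fin 8, f (lin x y z s) = lin (f x) (f y) (f z) s := by
    have hz0 : f 0 = 0 := by rw [hR.linear f hf]; exact (lin_lin _ _ _).2.2.2
    intro s
    apply Fin.ext
    have hx : ∀ (t : Bool) (v : Fin 8), (f (if t then v else 0)).val =
        if t then (f v).val else 0 := by
      intro t v; cases t <;> simp [hz0]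
    have hif : ∀ (t : Bool) (v : Fin 8), (if t then v.val else 0) = (if t then v else 0).val := by
      intro t v; cases t <;> rfl
    have hlt : ∀ u v w : Fin 8, (u.val ^^^ v.val ^^^ w.val) % 8 = (((u.val ^^^ v.val) % 8) ^^^ w.val) % 8 := by
      decide +kernel
    have e : lin x y z s = ⟨((((if s.val.testBit 0 then x else 0 : Fin 8).val ^^^
        (if s.val.testBit 1 then y else 0 : Fin 8).val) % 8) ^^^
        (if s.val.testBit 2 then z else 0 : Fin 8).val) % 8, Nat.mod_lt _ (by norm_num)⟩ := by
      apply Fin.ext
      simp only [lin, hif]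
      exact hlt _ _ _
    rw [e]
    have h1 := hadd (if s.val.testBit 0 then x else 0 : Fin 8) (if s.val.testBit 1 then y else 0)
    have h2 := hadd ⟨((if s.val.testBit 0 then x else 0 : Fin 8).val ^^^
        (if s.val.testBit 1 then y else 0 : Fin 8).val) % 8, Nat.mod_lt _ (by norm_num)⟩
        (if s.val.testBit 2 then z else 0)
    rw [h2, h1, hx, hx, hx]
    simp only [lin]
    rw [Nat.mod_eq_of_lt]
    have hb : ∀ u v w : Fin 8, u.val ^^^ v.val ^^^ w.val < 8 := by decide +kernel
    simp only [hif]
    exact hb _ _ _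
  rw [basisMap, ← key, valid_spec hv]

theorem sound {R : (Fin 8 → Fin 8) → Prop} (hR : Closed R) :
    ∀ (t : Tree) (gens : List (Fin 8 → Fin 8)), (∀ g ∈ gens, R g) → ok gens t = true → Good R := by
  intro t
  induction t with
  | leaf w =>
    intro gens hg h
    exfalso
    have hw : ∀ w : List ℕ, R (word gens w) := by
      intro w
      induction w with
      | nil => exact hR.id_mem
      | cons i w ih =>
        refine hR.comp _ _ ?_ ih
        by_cases hi : i < gens.length
        · rw [List.getD_eq_getElem _ _ hi]; exact hg _ (List.getElem_mem hi)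
        · rw [List.getD_eq_default _ _ (by omega)]; exact hR.id_mem
    simp only [ok, Bool.and_eq_true, List.all_eq_true, List.any_eq_true, List.mem_finRange,
      beq_iff_eq, bne_iff_ne, true_implies, true_and] at h
    obtain ⟨h3, p, hp⟩ := h
    exact hp (hR.no_three _ (hw w) h3 p)
  | node x y z cx cy cz ihx ihy ihz =>
    intro gens hg h
    simp only [ok, Bool.and_eq_true] at h
    obtain ⟨⟨⟨hv, h1⟩, h2⟩, h3⟩ := h
    by_cases r1 : R (basisMap x y z x z y)
    · exact ihx _ (by simpa [List.mem_append, or_imp, forall_and] using ⟨hg, r1⟩) h1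
    by_cases r2 : R (basisMap x y z z y x)
    · exact ihy _ (by simpa [List.mem_append, or_imp, forall_and] using ⟨hg, r2⟩) h2
    by_cases r3 : R (basisMap x y z y x z)
    · exact ihz _ (by simpa [List.mem_append, or_imp, forall_and] using ⟨hg, r3⟩) h3
    refine ⟨x, y, z, hv, fun f hf hx hy hz => ?_⟩
    have hne : x ≠ y ∧ x ≠ z ∧ y ≠ z := by
      have hall : ∀ a b c : Fin 8, valid a b c = true → a ≠ b ∧ a ≠ c ∧ b ≠ c := by decide +kernel
      exact hall x y z hv
    have hi := hR.inj f hf
    have e := eq_basisMap hR hf hv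
    have cycle : ∀ a b c : Fin 8, f a = b → f b = c → f c = a → (a = x ∨ a = y ∨ a = z) →
        f a = a → a = b := fun a b _ h' _ _ _ h'' => h''.symm.trans h'
    rcases hx with ex | ex | ex <;> rcases hy with ey | ey | ey <;> rcases hz with ez | ez | ez <;>
      first
      | exact ⟨ex, ey, ez⟩
      | exact absurd (hi (ex.trans ey.symm)) hne.1
      | exact absurd (hi (ex.trans ez.symm)) hne.2.1
      | exact absurd (hi (ey.trans ez.symm)) hne.2.2
      | (rw [ex, ey, ez] at e; rw [e] at hf; first | exact absurd hf r1 | exact absurd hf r2 |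
          exact absurd hf r3)
      | (exfalso
         have h3 : ∀ p, f (f (f p)) = p := by
           have hlin : ∀ p, f (f (f p)) = basisMap x y z (f (f (f x))) (f (f (f y))) (f (f (f z))) p :=
             congrFun (eq_basisMap hR (hR.comp f _ hf (hR.comp f f hf hf)) hv)
           intro p
           rw [hlin]
           simp only [ex, ey, ez]
           exact valid_spec hv p
         have := hR.no_three f hf h3 x
         rw [ex] at this
         first | exact hne.1 this.symm | exact hne.2.1 this.symm)

/-- The search result. -/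
theorem exists_good {R : (Fin 8 → Fin 8) → Prop} (hR : Closed R) : Good R :=
  sound hR tree [] (by simp) tree_ok

end Cfsg.Agent.BaseTwo.Span
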