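import Cfsg.Agent.BaseSize.PermColour
import Cfsg.Agent.BaseTwo.Span

/-!
# Three colourings of the points of a solvable permutation group of order prime to three
-/

set_option autoImplicit false
set_option linter.style.haveILetI false
set_option linter.unusedSectionVars false

open scoped commutatorElement

namespace Cfsg.Agent.BaseTwo

open Cfsg.Agent.BaseSize (Irr FiveBelow FiveColour)

variable {ι : Type} [Finite ι] (S : Subgroup (Equiv.Perm ι))

theorem two_point_key (l l' : Fin 3) (a b : Fin 2) (hab : a ≠ b)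
    (h0 : ((0 : Fin 2).val + l.val) % 3 = (a.val + l'.val) % 3)
    (h1 : ((1 : Fin 2).val + l.val) % 3 = (b.val + l'.val) % 3) : l = l' ∧ a = 0 ∧ b = 1 := by
  fin_cases l <;> fin_cases l' <;> fin_cases a <;> fin_cases b <;> simp_all

theorem eight_bits : ∀ w : Fin 8, (if w.val.testBit 0 then (1 : ZMod 2) else 0) = 0 →
    (if w.val.testBit 1 then (1 : ZMod 2) else 0) = 0 →
    (if w.val.testBit 2 then (1 : ZMod 2) else 0) = 0 → w = 0 := by decide +kernel

/-- `k` colourings with `k` colours, in distinct regular orbits. -/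
def KColour (k : ℕ) : Prop :=
  ∃ C : Fin k → ι → Fin k, ∀ l l' : Fin k, ∀ s ∈ S, (∀ i, C l i = C l' (s i)) → l = l' ∧ s = 1

open Classical in
/-- Three colourings from a point and a set with trivial joint stabiliser. -/
theorem kColour_of_set (i0 : ι) (B : Finset ι) (h0 : i0 ∉ B)
    (hsize : (B.card = 1 ∧ 5 ≤ Nat.card ι) ∨ (2 ≤ B.card ∧ B.card + 3 ≤ Nat.card ι))
    (hstab : ∀ s ∈ S, s i0 = i0 → (∀ i ∈ B, s i ∈ B) → s = 1) : KColour S 3 := by
  haveI : Fintype ι := Fintype.ofFinite ι
  let c : ι → Fin 3 := fun i => if i = i0 then 0 else if i ∈ B then 1 else 2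
  have hf0 : ∀ i, c i = 0 ↔ i = i0 := fun i => by
    simp only [c]; split_ifs with h1 h2 <;> simp [h1]
  have hf1 : ∀ i, c i = 1 ↔ i ∈ B := fun i => by
    by_cases h1 : i = i0
    · subst h1; simp [c, h0]
    · by_cases hb : i ∈ B <;> simp [c, h1, hb]
  have hB0 : (Finset.univ.filter fun i => c i = 0).card = 1 :=
    Finset.card_eq_one.mpr ⟨i0, by ext i; simp [hf0]⟩
  have hB1 : (Finset.univ.filter fun i => c i = 1).card = B.card := by
    simp [hf1]
  have hB2 : (Finset.univ.filter fun i => c i = 2).card + B.card + 1 = Nat.card ι := by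
    have e := Finset.card_eq_sum_card_fiberwise (f := c) (s := Finset.univ) (t := Finset.univ)
      (fun i _ => Finset.mem_univ _)
    rw [Fin.sum_univ_three, hB0, hB1, Finset.card_univ, ← Nat.card_eq_fintype_card] at e
    omega
  -- which colour is put on the distinguished class
  let π : Fin 3 → Equiv.Perm (Fin 3) := fun l =>
    if B.card = 1 then Equiv.swap 2 l else Equiv.swap 0 l
  refine ⟨fun l i => π l (c i), fun l l' s hs h => ?_⟩
  simp only at h
  have hcard : ∀ u : Fin 3, (Finset.univ.filter fun i => c i = u).card =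
      (Finset.univ.filter fun i => c i = (π l').symm (π l u)).card := by
    intro u
    refine Finset.card_bij (fun i _ => s i) (fun i hi => ?_) (fun i _ j _ e => s.injective e)
      (fun j hj => ⟨s⁻¹ j, ?_, by simp⟩)
    · rw [Finset.mem_filter] at hi ⊢
      exact ⟨Finset.mem_univ _, (π l').injective (by rw [Equiv.apply_symm_apply, ← h, hi.2])⟩
    · rw [Finset.mem_filter] at hj ⊢
      refine ⟨Finset.mem_univ _, (π l).injective ?_⟩
      rw [h, Equiv.Perm.coe_inv, Equiv.apply_symm_apply, hj.2, Equiv.apply_symm_apply]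
  have hll : l = l' := by
    rcases hsize with ⟨h1, h5⟩ | ⟨h2, h3⟩
    · have hu := hcard 2
      have e : ∀ u : Fin 3, u ≠ 2 → (Finset.univ.filter fun i => c i = u).card = 1 := by
        intro u hu
        rcases (by omega : u.val = 0 ∨ u.val = 1) with e | e
        · rw [show u = 0 from Fin.ext e]; exact hB0
        · rw [show u = 1 from Fin.ext e, hB1, h1]
      have h22 : (π l').symm (π l 2) = 2 := by
        by_contra hne
        rw [e _ hne] at hu
        omega
      rw [Equiv.symm_apply_eq] at h22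
      simpa [π, h1] using h22
    · have hu := hcard 0
      rw [hB0] at hu
      have h00 : (π l').symm (π l 0) = 0 := by
        by_contra hne
        rcases (by omega : ((π l').symm (π l 0)).val = 1 ∨ ((π l').symm (π l 0)).val = 2 ∨
          ((π l').symm (π l 0)).val = 0) with e | e | e
        · rw [show (π l').symm (π l 0) = 1 from Fin.ext e, hB1] at hu; omega
        · rw [show (π l').symm (π l 0) = 2 from Fin.ext e] at hu; omega
        · exact hne (Fin.ext e)
      rw [Equiv.symm_apply_eq] at h00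
      have hne1 : B.card ≠ 1 := by omega
      simpa [π, hne1] using h00
  subst hll
  refine ⟨rfl, hstab s hs ((hf0 _).mp ?_) fun i hi => (hf1 _).mp ?_⟩
  · rw [← (π l).injective (h i0), (hf0 i0).mpr rfl]
  · rw [← (π l).injective (h i), (hf1 i).mpr hi]

theorem triple_cases {W : Type*} [AddCommGroup W] {r : ℕ} (hW : ∀ w : W, r • w = 0) (hr : r.Prime)
    (hr2 : r ≠ 2) (hr3 : r ≠ 3) (f : W ≃+ W) (h3 : ∀ w, f (f (f w)) = w → f w = w) {a b : W}
    (hab : ∀ x y : ℕ, x • a + y • b = 0 → r ∣ x ∧ r ∣ y)
    (ha : f a = a ∨ f a = b ∨ f a = 2 • a + b) (hb : f b = a ∨ f b = b ∨ f b = 2 • a + b)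
    (hc : f (2 • a + b) = a ∨ f (2 • a + b) = b ∨ f (2 • a + b) = 2 • a + b) :
    f a = a ∧ f b = b := by
  have hd : ∀ x y x' y' : ℕ, x • a + y • b = x' • a + y' • b →
      (x : ZMod r) = x' ∧ (y : ZMod r) = y' := by
    intro x y x' y' h
    haveI : NeZero r := ⟨hr.ne_zero⟩
    obtain ⟨h1, h2⟩ := hab (x + (r - 1) * x') (y + (r - 1) * y') (by
      rw [add_smul, add_smul, add_add_add_comm, h, add_add_add_comm, ← add_smul, ← add_smul,
        show x' + (r - 1) * x' = r * x' by rw [Nat.sub_mul, one_mul]; have : x' ≤ r * x' := Nat.le_mul_of_pos_left _ hr.pos; omega,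
        show y' + (r - 1) * y' = r * y' by rw [Nat.sub_mul, one_mul]; have : y' ≤ r * y' := Nat.le_mul_of_pos_left _ hr.pos; omega,
        mul_smul, mul_smul, hW, hW, add_zero])
    have h1' := (ZMod.natCast_eq_zero_iff _ _).mpr h1
    have h2' := (ZMod.natCast_eq_zero_iff _ _).mpr h2
    have hm : ((r - 1 : ℕ) : ZMod r) = -1 := by
      rw [Nat.cast_sub hr.pos, ZMod.natCast_self, Nat.cast_one, zero_sub]
    push_cast [hm] at h1' h2'
    exact ⟨by linear_combination h1', by linear_combination h2'⟩
  haveI : Fact r.Prime := ⟨hr⟩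
  have n2 : (2 : ZMod r) ≠ 0 := by
    intro h
    have : r ∣ 2 := (ZMod.natCast_eq_zero_iff 2 r).mp (by exact_mod_cast h)
    exact hr2 ((Nat.prime_dvd_prime_iff_eq hr Nat.prime_two).mp this)
  have n3 : (3 : ZMod r) ≠ 0 := by
    intro h
    have : r ∣ 3 := (ZMod.natCast_eq_zero_iff 3 r).mp (by exact_mod_cast h)
    exact hr3 ((Nat.prime_dvd_prime_iff_eq hr Nat.prime_three).mp this)
  have n4 : (4 : ZMod r) ≠ 0 := by
    rw [show (4 : ZMod r) = 2 * 2 by norm_num]; exact mul_ne_zero n2 n2
  have key : ∀ x y x' y' : ℕ, ((x : ZMod r) ≠ x' ∨ (y : ZMod r) ≠ y') →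
      x • a + y • b ≠ x' • a + y' • b := fun x y x' y' h e => by
    obtain ⟨e1, e2⟩ := hd x y x' y' e
    exact h.elim (fun h => h e1) fun h => h e2
  have d1 : a ≠ b := by simpa using key 1 0 0 1 (Or.inl (by simp))
  have d2 : a ≠ 2 • a + b := by simpa using key 1 0 2 1 (Or.inr (by simp))
  have d3 : b ≠ 2 • a + b := by
    simpa using key 0 1 2 1 (Or.inl (by simpa using Ne.symm n2))
  have hlin : f (2 • a + b) = 2 • f a + f b := by rw [map_add, map_nsmul]
  rcases ha with ea | ea | ea <;> rcases hb with eb | eb | eb <;> rcases hc with ec | ec | ec <;>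
    first
    | exact ⟨ea, eb⟩
    | exact absurd (f.injective (ea.trans eb.symm)) d1
    | exact absurd (f.injective (ea.trans ec.symm)) d2
    | exact absurd (f.injective (eb.trans ec.symm)) d3
    | (exfalso
       have hcyc : f (f (f a)) = a := by simp only [ea, eb, ec]
       exact d1 ((h3 a hcyc).symm.trans ea))
    | (exfalso
       have hcyc : f (f (f a)) = a := by simp only [ea, eb, ec]
       exact d2 ((h3 a hcyc).symm.trans ea))
    | (exfalso
       rw [hlin, ea, eb] at ec
       first
       | (refine key 1 2 2 1 ?_ ?_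
          · left; intro h; push_cast at h; exact one_ne_zero (show (1 : ZMod r) = 0 by linear_combination -h)
          · rw [← sub_eq_zero] at ec ⊢
            rw [← ec]; abel1)
       | (refine key 4 3 0 1 ?_ ?_
          · left; simpa using n4
          · rw [← sub_eq_zero] at ec ⊢
            rw [← ec]; abel1)
       | (refine key 4 1 0 1 ?_ ?_
          · left; simpa using n4
          · rw [← sub_eq_zero] at ec ⊢
            rw [← ec]; abel1)
       | (refine key 4 3 1 0 ?_ ?_
          · right; simpa using n3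
          · rw [← sub_eq_zero] at ec ⊢
            rw [← ec]; abel1))

/-- A set of non-zero vectors, of a size fit for three colours, with trivial stabiliser. -/
def GoodSet {W : Type} [AddCommGroup W] (H : Subgroup (AddMonoid.End W)ˣ) : Prop :=
  ∃ P : Finset W, (0 : W) ∉ P ∧
    ((P.card = 1 ∧ 5 ≤ Nat.card W) ∨ (2 ≤ P.card ∧ P.card + 3 ≤ Nat.card W)) ∧
    ∀ s : H, (∀ w ∈ P, H.subtype s • w ∈ P) → s = 1

theorem pow_le_card {W : Type} [AddCommGroup W] [Finite W] {r : ℕ} [Fact r.Prime]
    [Module (ZMod r) W] {d : ℕ} {e : Fin d → W} (he : LinearIndependent (ZMod r) e) :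
    r ^ d ≤ Nat.card W := by
  have := Nat.card_le_card_of_injective _
    (Fintype.linearIndependent_iff'ₛ.mp he : Function.Injective _)
  simpa using this

theorem indep_two {W : Type} [AddCommGroup W] {r : ℕ} [Fact r.Prime]
    [Module (ZMod r) W] {d : ℕ} {e : Fin d → W} (he : LinearIndependent (ZMod r) e) {a b : Fin d}
    (hab : a ≠ b) {x y : ℕ} (h : x • e a + y • e b = 0) : r ∣ x ∧ r ∣ y := by
  have h' := Fintype.linearIndependent_iff.mp he
    (fun l => (if l = a then (x : ZMod r) else 0) + if l = b then (y : ZMod r) else 0) (by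
      simp [add_smul, Finset.sum_add_distrib, ite_smul, Nat.cast_smul_eq_nsmul, h])
  have h1 := h' a
  have h2 := h' b
  simp only [if_pos, if_neg hab, if_neg (Ne.symm hab), add_zero, zero_add] at h1 h2
  exact ⟨(ZMod.natCast_eq_zero_iff _ _).mp h1, (ZMod.natCast_eq_zero_iff _ _).mp h2⟩

theorem good_two {W : Type} [AddCommGroup W] [Finite W] {H : Subgroup (AddMonoid.End W)ˣ} {r : ℕ}
    (hr : r.Prime) (hr3 : r ≠ 3) [Module (ZMod r) W] (hNr : ∀ w : W, r • w = 0)
    (hno3 : ∀ (s : H) (x : W), H.subtype s • H.subtype s • H.subtype s • x = x →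
      H.subtype s • x = x)
    (h5 : 5 ≤ Nat.card W) {d : ℕ} (h : d = 2)
    (e : Fin d → W) (he : LinearIndependent (ZMod r) e)
    (hefix : ∀ s : H, (∀ l, H.subtype s • e l = e l) → s = 1) : GoodSet H := by
  classical
  haveI : Fact r.Prime := ⟨hr⟩
  set φ := H.subtype with hφ
  have finish : ∀ P : Finset W, (0 : W) ∉ P →
      ((P.card = 1 ∧ 5 ≤ Nat.card W) ∨ (2 ≤ P.card ∧ P.card + 3 ≤ Nat.card W)) →
      (∀ s : H, (∀ w ∈ P, φ s • w ∈ P) → s = 1) → GoodSet H :=
    fun P h0 hs hst => ⟨P, h0, hs, hst⟩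
  have hpowd := pow_le_card he
  have hindep2 : ∀ (a b : Fin d), a ≠ b → ∀ x y : ℕ, x • e a + y • e b = 0 → r ∣ x ∧ r ∣ y :=
    fun a b hab x y h => indep_two he hab h
  have hne0 : ∀ l, e l ≠ 0 := fun l => he.ne_zero l
  obtain ⟨a, b, hab, hall⟩ : ∃ a b : Fin d, a ≠ b ∧ ∀ l, l = a ∨ l = b :=
    ⟨⟨0, by omega⟩, ⟨1, by omega⟩, by simp, fun l => by simp [Fin.ext_iff]; omega⟩
  have hab' := hindep2 a b hab
  by_cases hr2 : r = 2
  · subst hr2
    have h8 : 8 ≤ Nat.card W := by
      rcases (by omega : Nat.card W = 5 ∨ Nat.card W = 6 ∨ Nat.card W = 7 ∨ 8 ≤ Nat.card W)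
        with hh | hh | hh | hh
      all_goals first
      | exact hh
      | (exfalso
         haveI : Fintype W := Fintype.ofFinite _
         obtain ⟨k, hk⟩ : ∃ k, Nat.card W = 2 ^ k :=
           ⟨_, Module.natCard_eq_pow_finrank (K := ZMod 2) (V := W) |>.trans (by rw [Nat.card_zmod])⟩
         rw [hh] at hk
         rcases Nat.lt_or_ge k 3 with hk3 | hk3
         · interval_cases k <;> omega
         · have := Nat.pow_le_pow_right (show 0 < 2 by omega) hk3
           omega)
    have habne : e a ≠ e b := fun h' => hab (he.injective h')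
    have hc0 : e a + e b ≠ 0 := fun h' =>
      absurd (hab' 1 1 (by simpa using h')).1 (by decide)
    have hca : e a + e b ≠ e a := fun h' => hne0 b (add_eq_left.mp h')
    have hcb : e a + e b ≠ e b := fun h' => hne0 a (add_eq_right.mp h')
    have fin2 : ∀ P : Finset W, P.card = 2 → (0 : W) ∉ P →
        (∀ s : H, (∀ w ∈ P, φ s • w ∈ P) → ∀ l, φ s • e l = e l) → GoodSet H :=
      fun P hP h0 hs => finish P h0 (Or.inr ⟨hP.ge, by omega⟩) fun s hs' => hefix s (hs s hs')
    by_cases t1 : ∃ s, φ s • e a = e b ∧ φ s • e b = e a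
    swap
    · refine fin2 {e a, e b} (Finset.card_pair habne) (by simp [Ne.symm (hne0 a), Ne.symm (hne0 b)])
        fun s hs => ?_
      simp only [Finset.mem_insert, Finset.mem_singleton, forall_eq_or_imp, forall_eq] at hs
      intro l
      rcases hs with ⟨h1 | h1, h2 | h2⟩
      · exact absurd (smul_left_cancel _ (h1.trans h2.symm)) habne
      · rcases hall l with rfl | rfl
        exacts [h1, h2]
      · exact absurd ⟨s, h1, h2⟩ t1
      · exact absurd (smul_left_cancel _ (h1.trans h2.symm)) habne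
    obtain ⟨s, hs1, hs2⟩ := t1
    by_cases t2 : ∃ t, φ t • e a = e a + e b ∧ φ t • (e a + e b) = e a
    swap
    · refine fin2 {e a, e a + e b} (Finset.card_pair (Ne.symm hca))
        (by simp [Ne.symm (hne0 a), Ne.symm hc0]) fun u hu => ?_
      simp only [Finset.mem_insert, Finset.mem_singleton, forall_eq_or_imp, forall_eq] at hu
      intro l
      rcases hu with ⟨h1 | h1, h2 | h2⟩
      · exact absurd (smul_left_cancel _ (h1.trans h2.symm)) (Ne.symm hca)
      · rcases hall l with rfl | rfl
        · exact h1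
        · rw [smul_add, h1] at h2
          exact add_left_cancel h2
      · exact absurd ⟨u, h1, h2⟩ t2
      · exact absurd (smul_left_cancel _ (h1.trans h2.symm)) (Ne.symm hca)
    obtain ⟨t, ht1, ht2⟩ := t2
    -- both swaps: an element of order three
    exfalso
    have htb : φ t • e b = e b := by
      rw [smul_add, ht1] at ht2
      have h2b : ∀ w : W, w + w = 0 := fun w => by rw [← two_nsmul]; exact hNr w
      calc φ t • e b = (e a + e b + φ t • e b) + (e a + e b) := by
            rw [add_comm (e a + e b) (φ t • e b), add_assoc, h2b, add_zero]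
        _ = e b := by rw [ht2, ← add_assoc, h2b, zero_add]
    have q1 : φ (t * s) • e a = e b := by rw [map_mul, mul_smul, hs1, htb]
    have q2 : φ (t * s) • e b = e a + e b := by rw [map_mul, mul_smul, hs2, ht1]
    have h2b : ∀ w : W, w + w = 0 := fun w => by rw [← two_nsmul]; exact hNr w
    have q3 : φ (t * s) • (e a + e b) = e a := by
      rw [smul_add, q1, q2, ← add_assoc, add_comm (e b), add_assoc, h2b, add_zero]
    exact habne ((hno3 (t * s) (e a) (by rw [q1, q2, q3])).symm.trans q1)
  · have hr5 : 5 ≤ r := by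
      have := hr.two_le
      by_contra hlt
      interval_cases r
      all_goals first | omega | (exfalso; exact absurd hr (by norm_num))
    have hne2 : e a ≠ e b ∧ e a ≠ 2 • e a + e b ∧ e b ≠ 2 • e a + e b ∧ 2 • e a + e b ≠ 0 := by
      refine ⟨fun h' => hab (he.injective h'), fun h' => ?_, fun h' => ?_, fun h' => ?_⟩
      · have h0 : e a + e b = 0 := by rw [two_nsmul, add_assoc] at h'; exact left_eq_add.mp h'
        exact hr.one_lt.ne' (Nat.dvd_one.mp (hab' 1 1 (by simpa using h0)).1)
      · have h0 : 2 • e a = 0 := right_eq_add.mp h'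
        have := Nat.le_of_dvd two_pos (hab' 2 0 (by simpa using h0)).1
        omega
      · exact hr.one_lt.ne' (Nat.dvd_one.mp (hab' 2 1 (by simpa using h')).2)
    refine finish {e a, e b, 2 • e a + e b}
      (by simp [Ne.symm (hne0 a), Ne.symm (hne0 b), Ne.symm hne2.2.2.2]) (Or.inr ⟨?_, ?_⟩)
      fun s hs => hefix s fun l => ?_
    · rw [Finset.card_insert_of_notMem (by simp [hne2.1, hne2.2.1]), Finset.card_pair hne2.2.2.1]
      omega
    · have h25 := le_trans (Nat.pow_le_pow_left hr5 2) (h ▸ hpowd)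
      have : ({e a, e b, 2 • e a + e b} : Finset W).card ≤ 3 := Finset.card_le_three
      omega
    · simp only [Finset.mem_insert, Finset.mem_singleton, forall_eq_or_imp, forall_eq] at hs
      have ht := triple_cases hNr hr hr2 hr3 (DistribMulAction.toAddEquiv W (φ s))
        (fun w hw => hno3 s w hw) hab' hs.1 hs.2.1 hs.2.2
      rcases hall l with rfl | rfl
      exacts [ht.1, ht.2]
theorem good_three_two {W : Type} [AddCommGroup W] [Finite W] {H : Subgroup (AddMonoid.End W)ˣ} {r : ℕ}
    (hr : r.Prime) (hr3 : r ≠ 3) [Module (ZMod r) W] (hNr : ∀ w : W, r • w = 0)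
    (hno3 : ∀ (s : H) (x : W), H.subtype s • H.subtype s • H.subtype s • x = x →
      H.subtype s • x = x)
    (h5 : 5 ≤ Nat.card W) {d : ℕ} (h : d = 3) (hr2 : r = 2)
    (e : Fin d → W) (he : LinearIndependent (ZMod r) e)
    (hefix : ∀ s : H, (∀ l, H.subtype s • e l = e l) → s = 1) : GoodSet H := by
  classical
  haveI : Fact r.Prime := ⟨hr⟩
  set φ := H.subtype with hφ
  have finish : ∀ P : Finset W, (0 : W) ∉ P →
      ((P.card = 1 ∧ 5 ≤ Nat.card W) ∨ (2 ≤ P.card ∧ P.card + 3 ≤ Nat.card W)) →
      (∀ s : H, (∀ w ∈ P, φ s • w ∈ P) → s = 1) → GoodSet H :=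
    fun P h0 hs hst => ⟨P, h0, hs, hst⟩
  have hpowd := pow_le_card he
  have hindep2 : ∀ (a b : Fin d), a ≠ b → ∀ x y : ℕ, x • e a + y • e b = 0 → r ∣ x ∧ r ∣ y :=
    fun a b hab x y h => indep_two he hab h
  have hne0 : ∀ l, e l ≠ 0 := fun l => he.ne_zero l
  obtain ⟨a, b, c, hab, hac, hbc, hall⟩ : ∃ a b c : Fin d, a ≠ b ∧ a ≠ c ∧ b ≠ c ∧
      ∀ l, l = a ∨ l = b ∨ l = c :=
    ⟨⟨0, by omega⟩, ⟨1, by omega⟩, ⟨2, by omega⟩, by simp, by simp, by simp,
      fun l => by simp [Fin.ext_iff]; omega⟩
  have hab' := hindep2 a b hab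
  have hlin3 : ∀ x y z : ZMod r, x • e a + y • e b + z • e c = 0 → x = 0 ∧ y = 0 ∧ z = 0 := by
    intro x y z h'
    have h'' := Fintype.linearIndependent_iff.mp he (fun l => (if l = a then x else 0) +
      (if l = b then y else 0) + if l = c then z else 0) (by
        simp [add_smul, Finset.sum_add_distrib, ite_smul, h'])
    have h1 := h'' a
    have h2 := h'' b
    have h3 := h'' c
    simp only [if_pos, if_neg hab, if_neg hac, if_neg hbc, if_neg (Ne.symm hab),
      if_neg (Ne.symm hac), if_neg (Ne.symm hbc), add_zero, zero_add] at h1 h2 h3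
    exact ⟨h1, h2, h3⟩
  subst hr2
  have h8 : 8 ≤ Nat.card W := by
    have := h ▸ hpowd
    simpa using this
  have h2b : ∀ w : W, w + w = 0 := fun w => by rw [← two_nsmul]; exact hNr w
  let emb : Fin 8 → W := fun p => (if p.val.testBit 0 then e a else 0) +
    (if p.val.testBit 1 then e b else 0) + (if p.val.testBit 2 then e c else 0)
  have hxor : ∀ p q : Fin 8, emb ⟨(p.val ^^^ q.val) % 8, Nat.mod_lt _ (by norm_num)⟩ =
      emb p + emb q := by
    have hbit : ∀ (p q : Fin 8) (i : ℕ), i < 3 →
        ((p.val ^^^ q.val) % 8).testBit i = Bool.xor (p.val.testBit i) (q.val.testBit i) := by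
      intro p q i hi
      have e : ((p.val ^^^ q.val) % 2 ^ 3).testBit i =
          (decide (i < 3) && (p.val ^^^ q.val).testBit i) := Nat.testBit_mod_two_pow _ 3 i
      rw [decide_eq_true hi, Bool.true_and, Nat.testBit_xor] at e
      exact e
    have hite : ∀ (s t : Bool) (w : W), (if Bool.xor s t then w else 0) =
        (if s then w else 0) + if t then w else 0 := by
      intro s t w; cases s <;> cases t <;> simp [h2b]
    intro p q
    simp only [emb]
    rw [hbit p q 0 (by omega), hbit p q 1 (by omega), hbit p q 2 (by omega), hite, hite, hite]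
    abel
  have hemb : Function.Injective emb := by
    intro p q h'
    have h0 : emb ⟨(p.val ^^^ q.val) % 8, Nat.mod_lt _ (by norm_num)⟩ = 0 := by
      rw [hxor, h', h2b]
    have key : ∀ w : Fin 8, emb w = 0 → w = 0 := by
      intro w hw
      have := hlin3 (if w.val.testBit 0 then 1 else 0) (if w.val.testBit 1 then 1 else 0)
        (if w.val.testBit 2 then 1 else 0) (by
          simpa [emb, ite_smul] using hw)
      have hall' : ∀ w : Fin 8, (if w.val.testBit 0 then (1 : ZMod 2) else 0) = 0 →
          (if w.val.testBit 1 then (1 : ZMod 2) else 0) = 0 →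
          (if w.val.testBit 2 then (1 : ZMod 2) else 0) = 0 → w = 0 := eight_bits
      exact hall' w this.1 this.2.1 this.2.2
    have hpq : ∀ p q : Fin 8, (⟨(p.val ^^^ q.val) % 8, Nat.mod_lt _ (by norm_num)⟩ : Fin 8) = 0 →
        p = q := by decide +kernel
    exact hpq p q (key _ h0)
  let R : (Fin 8 → Fin 8) → Prop := fun f => ∃ s : H, ∀ p, φ s • emb p = emb (f p)
  have hR : Span.Closed R := by
    refine ⟨⟨1, fun p => by rw [map_one, one_smul]; rfl⟩, ?_, ?_, ?_, ?_⟩
    · rintro f g ⟨s, hs⟩ ⟨t, ht⟩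
      exact ⟨s * t, fun p => by rw [map_mul, mul_smul, ht, hs]; rfl⟩
    · rintro f ⟨s, hs⟩ p
      refine hemb ?_
      have hxl : ∀ u w : Fin 8, f ⟨(u.val ^^^ w.val) % 8, Nat.mod_lt _ (by norm_num)⟩ =
          ⟨((f u).val ^^^ (f w).val) % 8, Nat.mod_lt _ (by norm_num)⟩ := fun u w =>
        hemb (by rw [← hs, hxor, smul_add, hs, hs, hxor])
      have hf0 : f 0 = 0 := hemb (by
        have e0 : emb 0 = 0 := by simp [emb]
        rw [← hs, e0, smul_zero])
      congr 1
      have hgen : ∀ p : Fin 8, p = ⟨((((if p.val.testBit 0 then (1 : Fin 8) else 0).val ^^^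
          (if p.val.testBit 1 then (2 : Fin 8) else 0).val) % 8) ^^^
          (if p.val.testBit 2 then (4 : Fin 8) else 0).val) % 8, Nat.mod_lt _ (by norm_num)⟩ := by
        decide +kernel
      have hl : ∀ u v w p : Fin 8, Cfsg.Agent.BaseSize.Fano.lin u v w p =
          ⟨((((if p.val.testBit 0 then u else 0).val ^^^
          (if p.val.testBit 1 then v else 0).val) % 8) ^^^
          (if p.val.testBit 2 then w else 0).val) % 8, Nat.mod_lt _ (by norm_num)⟩ := by
        decide +kernel
      have hif : ∀ (t : Bool) (u : Fin 8), f (if t then u else 0) = if t then f u else 0 := by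
        intro t u; cases t <;> simp [hf0]
      conv_lhs => rw [hgen p]
      rw [hl]
      refine (hxl ⟨((if p.val.testBit 0 then (1 : Fin 8) else 0).val ^^^
        (if p.val.testBit 1 then (2 : Fin 8) else 0).val) % 8, Nat.mod_lt _ (by norm_num)⟩
        (if p.val.testBit 2 then 4 else 0)).trans ?_
      rw [hxl (if p.val.testBit 0 then 1 else 0) (if p.val.testBit 1 then 2 else 0), hif, hif,
        hif]
    · rintro f ⟨s, hs⟩ p q h'
      exact hemb (smul_left_cancel _ ((hs p).trans ((congrArg emb h').trans (hs q).symm)))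
    · rintro f ⟨s, hs⟩ h3 p
      exact hemb (by rw [← hs]; exact hno3 s _ (by rw [hs, hs, hs, h3]))
  obtain ⟨x, y, z, hv, hgood⟩ := Span.exists_good hR
  have hdist : ∀ x y z : Fin 8, Span.valid x y z = true →
      x ≠ 0 ∧ y ≠ 0 ∧ z ≠ 0 ∧ x ≠ y ∧ x ≠ z ∧ y ≠ z := by decide +kernel
  obtain ⟨x0, y0, z0, hxy, hxz, hyz⟩ := hdist x y z hv
  have e0 : ∀ p, p ≠ 0 → emb p ≠ 0 := fun p hp h' => hp (hemb (by rw [h']; simp [emb]))
  refine finish {emb x, emb y, emb z}
    (by simp [Ne.symm (e0 x x0), Ne.symm (e0 y y0), Ne.symm (e0 z z0)]) (Or.inr ⟨?_, ?_⟩)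
    fun s hs => ?_
  · rw [Finset.card_insert_of_notMem (by simp [hemb.eq_iff, hxy, hxz]),
      Finset.card_pair (hemb.ne hyz)]
    omega
  · have : ({emb x, emb y, emb z} : Finset W).card ≤ 3 := Finset.card_le_three
    omega
  · simp only [Finset.mem_insert, Finset.mem_singleton, forall_eq_or_imp, forall_eq] at hs
    have hex : ∀ w ∈ [x, y, z], ∃ w', φ s • emb w = emb w' := by
      intro w hw
      simp only [List.mem_cons, List.not_mem_nil, or_false] at hw
      rcases hw with rfl | rfl | rfl
      · rcases hs.1 with h' | h' | h' <;> exact ⟨_, h'⟩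
      · rcases hs.2.1 with h' | h' | h' <;> exact ⟨_, h'⟩
      · rcases hs.2.2 with h' | h' | h' <;> exact ⟨_, h'⟩
    obtain ⟨x', hx'⟩ := hex x (by simp)
    obtain ⟨y', hy'⟩ := hex y (by simp)
    obtain ⟨z', hz'⟩ := hex z (by simp)
    have hzero : emb 0 = 0 := by simp [emb]
    have himg : ∀ q, φ s • emb (Cfsg.Agent.BaseSize.Fano.lin x y z q) =
        emb (Cfsg.Agent.BaseSize.Fano.lin x' y' z' q) := by
      have hl : ∀ u v w p : Fin 8, Cfsg.Agent.BaseSize.Fano.lin u v w p =
          ⟨((((if p.val.testBit 0 then u else 0).val ^^^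
          (if p.val.testBit 1 then v else 0).val) % 8) ^^^
          (if p.val.testBit 2 then w else 0).val) % 8, Nat.mod_lt _ (by norm_num)⟩ := by
        decide +kernel
      intro q
      have hif : ∀ (t : Bool) (u u' : Fin 8), φ s • emb u = emb u' →
          φ s • emb (if t then u else 0) = emb (if t then u' else 0) := by
        intro t u u' hu; cases t
        · simp [hzero]
        · simpa using hu
      have hx3 : ∀ u v w : Fin 8, emb ⟨(((u.val ^^^ v.val) % 8) ^^^ w.val) % 8,
          Nat.mod_lt _ (by norm_num)⟩ = emb u + emb v + emb w := fun u v w => by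
        rw [← hxor u v]; exact hxor ⟨_, _⟩ w
      rw [hl, hl, hx3, hx3, smul_add, smul_add, hif _ _ _ hx', hif _ _ _ hy', hif _ _ _ hz']
    let g : Fin 8 → Fin 8 := fun p =>
      Cfsg.Agent.BaseSize.Fano.lin x' y' z' (Span.coord x y z p)
    have hg : ∀ p, φ s • emb p = emb (g p) := fun p => by
      conv_lhs => rw [← Span.valid_spec hv p]
      exact himg _
    obtain ⟨g1, g2, g3⟩ := hgood g ⟨s, hg⟩
      (by rcases hs.1 with h' | h' | h' <;> rw [hg] at h' <;>
        first | exact Or.inl (hemb h') | exact Or.inr (Or.inl (hemb h')) | exact Or.inr (Or.inr (hemb h')))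
      (by rcases hs.2.1 with h' | h' | h' <;> rw [hg] at h' <;>
        first | exact Or.inl (hemb h') | exact Or.inr (Or.inl (hemb h')) | exact Or.inr (Or.inr (hemb h')))
      (by rcases hs.2.2 with h' | h' | h' <;> rw [hg] at h' <;>
        first | exact Or.inl (hemb h') | exact Or.inr (Or.inl (hemb h')) | exact Or.inr (Or.inr (hemb h')))
    have hall8 : ∀ p, φ s • emb p = emb p := by
      intro p
      conv_lhs => rw [← Span.valid_spec hv p]
      conv_rhs => rw [← Span.valid_spec hv p]
      rw [himg]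
      rw [hemb (hx'.symm.trans ((hg x).trans (congrArg emb g1))),
        hemb (hy'.symm.trans ((hg y).trans (congrArg emb g2))),
        hemb (hz'.symm.trans ((hg z).trans (congrArg emb g3)))]
    refine hefix s fun l => ?_
    rcases hall l with rfl | rfl | rfl
    · simpa [emb, show Nat.testBit 1 1 = false by decide, show Nat.testBit 1 2 = false by decide]
        using hall8 1
    · simpa [emb, show (2 : Fin 8).val = 2 from rfl, Nat.testBit, Nat.shiftRight_eq_div_pow]
        using hall8 2
    · simpa [emb, show (4 : Fin 8).val = 4 from rfl, Nat.testBit, Nat.shiftRight_eq_div_pow]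
        using hall8 4
theorem good_three_odd {W : Type} [AddCommGroup W] [Finite W] {H : Subgroup (AddMonoid.End W)ˣ} {r : ℕ}
    (hr : r.Prime) (hr3 : r ≠ 3) [Module (ZMod r) W] (hNr : ∀ w : W, r • w = 0)
    (hno3 : ∀ (s : H) (x : W), H.subtype s • H.subtype s • H.subtype s • x = x →
      H.subtype s • x = x)
    (h5 : 5 ≤ Nat.card W) {d : ℕ} (h : d = 3) (hr2 : r ≠ 2)
    (e : Fin d → W) (he : LinearIndependent (ZMod r) e)
    (hefix : ∀ s : H, (∀ l, H.subtype s • e l = e l) → s = 1) : GoodSet H := by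
  classical
  haveI : Fact r.Prime := ⟨hr⟩
  set φ := H.subtype with hφ
  have finish : ∀ P : Finset W, (0 : W) ∉ P →
      ((P.card = 1 ∧ 5 ≤ Nat.card W) ∨ (2 ≤ P.card ∧ P.card + 3 ≤ Nat.card W)) →
      (∀ s : H, (∀ w ∈ P, φ s • w ∈ P) → s = 1) → GoodSet H :=
    fun P h0 hs hst => ⟨P, h0, hs, hst⟩
  have hpowd := pow_le_card he
  have hindep2 : ∀ (a b : Fin d), a ≠ b → ∀ x y : ℕ, x • e a + y • e b = 0 → r ∣ x ∧ r ∣ y :=
    fun a b hab x y h => indep_two he hab h
  have hne0 : ∀ l, e l ≠ 0 := fun l => he.ne_zero l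
  obtain ⟨a, b, c, hab, hac, hbc, hall⟩ : ∃ a b c : Fin d, a ≠ b ∧ a ≠ c ∧ b ≠ c ∧
      ∀ l, l = a ∨ l = b ∨ l = c :=
    ⟨⟨0, by omega⟩, ⟨1, by omega⟩, ⟨2, by omega⟩, by simp, by simp, by simp,
      fun l => by simp [Fin.ext_iff]; omega⟩
  have hab' := hindep2 a b hab
  have hlin3 : ∀ x y z : ZMod r, x • e a + y • e b + z • e c = 0 → x = 0 ∧ y = 0 ∧ z = 0 := by
    intro x y z h'
    have h'' := Fintype.linearIndependent_iff.mp he (fun l => (if l = a then x else 0) +
      (if l = b then y else 0) + if l = c then z else 0) (by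
        simp [add_smul, Finset.sum_add_distrib, ite_smul, h'])
    have h1 := h'' a
    have h2 := h'' b
    have h3 := h'' c
    simp only [if_pos, if_neg hab, if_neg hac, if_neg hbc, if_neg (Ne.symm hab),
      if_neg (Ne.symm hac), if_neg (Ne.symm hbc), add_zero, zero_add] at h1 h2 h3
    exact ⟨h1, h2, h3⟩
  have hr5 : 5 ≤ r := by
    have := hr.two_le
    by_contra hlt
    interval_cases r
    all_goals first | omega | (exfalso; exact absurd hr (by norm_num))
  set A := e a with hA
  set B := e b with hB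
  set D := 2 • A + B with hD
  set Cc := e c with hCc
  have hn2 : ((2 : ℕ) : ZMod r) ≠ 0 := fun h' => by
    have := Nat.le_of_dvd two_pos ((ZMod.natCast_eq_zero_iff _ _).mp h'); omega
  have hne : A ≠ B ∧ A ≠ D ∧ B ≠ D ∧ D ≠ 0 := by
    refine ⟨fun h' => hab (he.injective h'), fun h' => ?_, fun h' => ?_, fun h' => ?_⟩
    · have h0 : A + B = 0 := by rw [hD, two_nsmul, add_assoc] at h'; exact left_eq_add.mp h'
      exact hr.one_lt.ne' (Nat.dvd_one.mp (hab' 1 1 (by simpa using h0)).1)
    · have h0 : 2 • A = 0 := right_eq_add.mp h'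
      have := Nat.le_of_dvd two_pos (hab' 2 0 (by simpa using h0)).1
      omega
    · exact hr.one_lt.ne' (Nat.dvd_one.mp (hab' 2 1 (by simpa [hD] using h')).2)
  have hCnot : ∀ w, w = A ∨ w = B ∨ w = D → Cc ≠ w := by
    intro w hw h'
    rcases hw with rfl | rfl | rfl
    · exact hac (he.injective h'.symm)
    · exact hbc (he.injective h'.symm)
    · have := (hlin3 ((2 : ℕ) : ZMod r) 1 (-1) (by
        rw [Nat.cast_smul_eq_nsmul, one_smul, neg_one_smul]
        show D + -Cc = 0
        rw [← h', add_neg_cancel])).2.1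
      exact one_ne_zero this
  refine finish {A, B, D, Cc} ?_ (Or.inr ⟨?_, ?_⟩) fun s hs => ?_
  · simp [Ne.symm (hne0 a), Ne.symm (hne0 b), Ne.symm (hne0 c), Ne.symm hne.2.2.2, hA, hB, hCc]
  · exact (Finset.card_le_card (show ({A, B} : Finset _) ⊆ {A, B, D, Cc} by
      intro w; simp; tauto)).trans' (Finset.card_pair hne.1).ge
  · have h125 := le_trans (Nat.pow_le_pow_left hr5 3) (h ▸ hpowd)
    have : ({A, B, D, Cc} : Finset W).card ≤ 4 := Finset.card_le_four
    omega
  · simp only [Finset.mem_insert, Finset.mem_singleton, forall_eq_or_imp, forall_eq] at hs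
    -- the vector off the line through the other three is fixed
    have hcfix : φ s • Cc = Cc := by
      by_contra hne'
      have hrel : φ s • D = 2 • (φ s • A) + φ s • B := by
        rw [hD, smul_add, smul_comm]
      -- coefficients of `φ s • _` in the basis `A, B, Cc`
      have coef : ∀ w, w = A ∨ w = B ∨ w = D ∨ w = Cc →
          ∃ x y z : ZMod r, w = x • A + y • B + z • Cc ∧ (w ≠ Cc → z = 0) ∧ (w = Cc → z = 1) := by
        intro w hw
        rcases hw with rfl | rfl | rfl | rfl
        · exact ⟨1, 0, 0, by simp, fun _ => rfl, fun h' => absurd h'.symm (hCnot _ (Or.inl rfl))⟩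
        · exact ⟨0, 1, 0, by simp, fun _ => rfl,
            fun h' => absurd h'.symm (hCnot _ (Or.inr (Or.inl rfl)))⟩
        · exact ⟨((2 : ℕ) : ZMod r), 1, 0, by rw [Nat.cast_smul_eq_nsmul, one_smul, zero_smul, add_zero, hD], fun _ => rfl,
            fun h' => absurd h'.symm (hCnot _ (Or.inr (Or.inr rfl)))⟩
        · exact ⟨0, 0, 1, by simp, fun h' => absurd rfl h', fun _ => rfl⟩
      obtain ⟨xA, yA, zA, eA, zA0, zA1⟩ := coef _ hs.1
      obtain ⟨xB, yB, zB, eB, zB0, zB1⟩ := coef _ hs.2.1
      obtain ⟨xD, yD, zD, eD, zD0, zD1⟩ := coef _ hs.2.2.1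
      have hz : zD = ((2 : ℕ) : ZMod r) * zA + zB := by
        have := (hlin3 (xD - ((2 : ℕ) * xA + xB)) (yD - ((2 : ℕ) * yA + yB))
          (zD - (((2 : ℕ) : ZMod r) * zA + zB)) (by
          rw [eD, eA, eB, ← Nat.cast_smul_eq_nsmul (ZMod r)] at hrel
          linear_combination (norm := module) hrel)).2.2
        exact sub_eq_zero.mp this
      -- exactly one of the three goes to `Cc`
      have hinjs : ∀ u w, φ s • u = φ s • w → u = w := fun (u w : W) => smul_left_cancel _
      have hsurj : φ s • A = Cc ∨ φ s • B = Cc ∨ φ s • D = Cc := by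
        let T : Finset W := {A, B, D, Cc}
        have hmem : ∀ w ∈ T, φ s • w ∈ T := by
          simp only [T, Finset.mem_insert, Finset.mem_singleton, forall_eq_or_imp, forall_eq]
          exact hs
        have hTs : T.image (φ s • ·) = T := Finset.eq_of_subset_of_card_le
          (Finset.image_subset_iff.mpr hmem)
          (Finset.card_image_of_injective T fun u w => hinjs u w).ge
        have hCT : Cc ∈ T.image (φ s • ·) := by rw [hTs]; simp [T]
        obtain ⟨w, hw, hwc⟩ := Finset.mem_image.mp hCT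
        simp only [T, Finset.mem_insert, Finset.mem_singleton] at hw
        rcases hw with rfl | rfl | rfl | rfl
        exacts [Or.inl hwc, Or.inr (Or.inl hwc), Or.inr (Or.inr hwc), absurd hwc hne']
      rcases hsurj with h' | h' | h'
      · rw [zA1 h', zB0 fun h'' => hne.1 (hinjs _ _ (h'.trans h''.symm)),
          zD0 fun h'' => hne.2.1 (hinjs _ _ (h'.trans h''.symm))] at hz
        exact hn2 (by linear_combination -hz)
      · rw [zB1 h', zA0 fun h'' => hne.1 (hinjs _ _ (h''.trans h'.symm)),
          zD0 fun h'' => hne.2.2.1 (hinjs _ _ (h'.trans h''.symm))] at hz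
        simp at hz
      · rw [zD1 h', zA0 fun h'' => hne.2.1 (hinjs _ _ (h''.trans h'.symm)),
          zB0 fun h'' => hne.2.2.1 (hinjs _ _ (h''.trans h'.symm))] at hz
        simp at hz
    have keep : ∀ w, (w = A ∨ w = B ∨ w = D) →
        φ s • w = A ∨ φ s • w = B ∨ φ s • w = D := by
      intro w hw
      have hmem : φ s • w = A ∨ φ s • w = B ∨ φ s • w = D ∨ φ s • w = Cc := by
        rcases hw with rfl | rfl | rfl
        exacts [hs.1, hs.2.1, hs.2.2.1]
      rcases hmem with h' | h' | h' | h'
      exacts [Or.inl h', Or.inr (Or.inl h'), Or.inr (Or.inr h'),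
        absurd (smul_left_cancel _ (h'.trans hcfix.symm)) (Ne.symm (hCnot w hw))]
    have ht := triple_cases hNr hr hr2 hr3 (DistribMulAction.toAddEquiv W (φ s))
      (fun w hw => hno3 s w hw) hab' (keep A (Or.inl rfl)) (keep B (Or.inr (Or.inl rfl)))
      (keep D (Or.inr (Or.inr rfl)))
    refine hefix s fun l => ?_
    rcases hall l with rfl | rfl | rfl
    exacts [ht.1, ht.2, hcfix]

theorem good_set {W : Type} [AddCommGroup W] [Finite W] [Nontrivial W]
    {H : Subgroup (AddMonoid.End W)ˣ} {r : ℕ} (hr : r.Prime) (hr3 : r ≠ 3)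
    [Module (ZMod r) W] (hNr : ∀ w : W, r • w = 0)
    (hno3 : ∀ (s : H) (x : W), H.subtype s • H.subtype s • H.subtype s • x = x →
      H.subtype s • x = x)
    (h5 : 5 ≤ Nat.card W) (t : W × W × W)
    (hbase : ∀ s : H, H.subtype s • t.1 = t.1 → H.subtype s • t.2.1 = t.2.1 →
      H.subtype s • t.2.2 = t.2.2 → s = 1) : GoodSet H := by
  classical
  haveI : Fact r.Prime := ⟨hr⟩
  set φ := H.subtype with hφ
  let Bv : Set W := {t.1, t.2.1, t.2.2}
  obtain ⟨v, hvsub, hvspan, hvind⟩ := exists_linearIndependent (ZMod r) Bv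
  have hvfin : v.Finite := (Set.toFinite Bv).subset hvsub
  have hfixv : ∀ s : H, (∀ w ∈ v, φ s • w = w) → s = 1 := by
    intro s hs
    let Fx : Submodule (ZMod r) W :=
      { carrier := {w | φ s • w = w}
        zero_mem' := smul_zero _
        add_mem' := fun {u w} hu hw => by
          show φ s • (u + w) = u + w
          rw [smul_add, show φ s • u = u from hu, show φ s • w = w from hw]
        smul_mem' := fun c w hw => by
          show φ s • (c • w) = c • w
          rw [← ZMod.natCast_zmod_val c, Nat.cast_smul_eq_nsmul, smul_comm,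
            show φ s • w = w from hw] }
    have hle : Submodule.span (ZMod r) Bv ≤ Fx := by
      rw [← hvspan, Submodule.span_le]
      exact fun w hw => hs w hw
    exact hbase s (hle (Submodule.subset_span (Or.inl rfl)))
      (hle (Submodule.subset_span (Or.inr (Or.inl rfl))))
      (hle (Submodule.subset_span (Or.inr (Or.inr rfl))))
  haveI : Fintype v := hvfin.fintype
  set d := Fintype.card v with hd
  have hd3 : d ≤ 3 := by
    have h := Set.ncard_le_ncard hvsub (Set.toFinite _)
    rw [← Nat.card_coe_set_eq, Nat.card_eq_fintype_card] at h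
    exact h.trans (le_trans (Set.ncard_insert_le _ _)
      (Nat.succ_le_succ (le_trans (Set.ncard_insert_le _ _) (by simp))))
  let e : Fin d → W := fun l => ((Fintype.equivFin v).symm l).1
  have he : LinearIndependent (ZMod r) e :=
    hvind.comp _ (Fintype.equivFin v).symm.injective
  have hefix : ∀ s : H, (∀ l, φ s • e l = e l) → s = 1 := fun s hs => hfixv s fun w hw => by
    have := hs (Fintype.equivFin v ⟨w, hw⟩)
    simpa [e] using this
  rcases (by omega : d = 0 ∨ d = 1 ∨ d = 2 ∨ d = 3) with h | h | h | h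
  · obtain ⟨w, hw⟩ := exists_ne (0 : W)
    exact ⟨{w}, by simpa using Ne.symm hw, Or.inl ⟨by simp, h5⟩, fun s _ =>
      hefix s fun l => absurd l.2 (by omega)⟩
  · refine ⟨{e ⟨0, by omega⟩}, by simpa using (he.ne_zero _).symm, Or.inl ⟨by simp, h5⟩,
      fun s hs => hefix s fun l => ?_⟩
    rw [show l = ⟨0, by omega⟩ from Fin.ext (by omega)]
    simpa [hφ] using hs _ (Finset.mem_singleton_self _)
  · exact good_two hr hr3 hNr hno3 h5 h e he hefix
  · by_cases hr2 : r = 2
    · exact good_three_two hr hr3 hNr hno3 h5 h hr2 e he hefix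
    · exact good_three_odd hr hr3 hNr hno3 h5 h hr2 e he hefix

theorem kColour_three (hsol : Group.IsSolvable S) (hι : 1 < Nat.card ι)
    (htrans : ∀ i j : ι, ∃ s ∈ S, s i = j)
    (hnorm : ∀ N : Subgroup S, N.Normal → N ≠ ⊥ → ∀ i j : ι, ∃ n ∈ N, (n : Equiv.Perm ι) i = j)
    {b : ℕ} (hb : Nat.card ι < b) (hIH : FiveBelow b) (hcop : ¬ 3 ∣ Nat.card S) :
    KColour S 3 := by
  classical
  haveI : Nontrivial ι := Finite.one_lt_card_iff_nontrivial.mp hι
  -- a minimal abelian normal subgroup
  have hS1 : (⊤ : Subgroup S) ≠ ⊥ := by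
    obtain ⟨i, j, hij⟩ := exists_pair_ne ι
    obtain ⟨s, hs, hsij⟩ := htrans i j
    intro h
    have : (⟨s, hs⟩ : S) ∈ (⊥ : Subgroup S) := h ▸ Subgroup.mem_top _
    rw [Subgroup.mem_bot] at this
    have hs1 : s = 1 := congrArg Subtype.val this
    rw [hs1] at hsij
    exact hij hsij
  obtain ⟨N, ⟨hNn, hNab, hN1⟩, hmin⟩ : ∃ N : Subgroup S,
      (N.Normal ∧ (∀ x ∈ N, ∀ y ∈ N, x * y = y * x) ∧ N ≠ ⊥) ∧
      ∀ M : Subgroup S, (M.Normal ∧ (∀ x ∈ M, ∀ y ∈ M, x * y = y * x) ∧ M ≠ ⊥) →
        M ≤ N → N ≤ M := by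
    have hex : ∃ M : Subgroup S, M.Normal ∧ (∀ x ∈ M, ∀ y ∈ M, x * y = y * x) ∧ M ≠ ⊥ := by
      obtain ⟨d, hd⟩ := hsol.solvable
      have h0 : derivedSeries S 0 ≠ ⊥ := hS1
      obtain ⟨i, hi, hi'⟩ : ∃ i, derivedSeries S i ≠ ⊥ ∧ derivedSeries S (i + 1) = ⊥ := by
        by_contra hcon
        simp only [not_exists, not_and] at hcon
        have : ∀ i, derivedSeries S i ≠ ⊥ := by
          intro i
          induction i with
          | zero => exact h0
          | succ i ih => exact hcon i ih
        exact this d hd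
      refine ⟨derivedSeries S i, derivedSeries_normal _ _, fun x hx y hy => ?_, hi⟩
      have : ⁅x, y⁆ ∈ derivedSeries S (i + 1) := by
        rw [derivedSeries_succ]; exact Subgroup.commutator_mem_commutator hx hy
      rw [hi', Subgroup.mem_bot, commutatorElement_eq_one_iff_mul_comm] at this
      exact this
    haveI : Nonempty {M : Subgroup S // M.Normal ∧ (∀ x ∈ M, ∀ y ∈ M, x * y = y * x) ∧ M ≠ ⊥} :=
      ⟨⟨_, hex.choose_spec⟩⟩
    obtain ⟨N, hN⟩ := Finite.exists_min
      (fun M : {M : Subgroup S // M.Normal ∧ (∀ x ∈ M, ∀ y ∈ M, x * y = y * x) ∧ M ≠ ⊥} =>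
        Nat.card M.1)
    exact ⟨N.1, N.2, fun M hM hle => (Subgroup.eq_of_le_of_card_ge hle (hN ⟨M, hM⟩)).ge⟩
  haveI := hNn
  obtain ⟨i0⟩ : Nonempty ι := inferInstance
  -- regularity
  let pt : N → ι := fun n => ((n : S) : Equiv.Perm ι) i0
  have hfix : ∀ n : N, pt n = i0 → n = 1 := by
    intro n hn
    refine Subtype.ext (Subtype.ext (Equiv.ext fun i => ?_))
    obtain ⟨m, hm, rfl⟩ := hnorm N hNn hN1 i0 i
    have := congrArg (fun x : S => (x : Equiv.Perm ι) i0) (hNab n n.2 m hm)
    simp only [Subgroup.coe_mul, Equiv.Perm.mul_apply] at this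
    exact this.trans (congrArg _ hn)
  have hbij : Function.Bijective pt := by
    refine ⟨fun n n' h => ?_, fun i => ?_⟩
    · have := hfix (n'⁻¹ * n) (by
        show ((n' : S) : Equiv.Perm ι)⁻¹ (((n : S) : Equiv.Perm ι) i0) = i0
        rw [show ((n : S) : Equiv.Perm ι) i0 = ((n' : S) : Equiv.Perm ι) i0 from h,
          Equiv.Perm.coe_inv, Equiv.symm_apply_apply])
      exact (inv_mul_eq_one.mp this).symm
    · obtain ⟨m, hm, e⟩ := hnorm N hNn hN1 i0 i
      exact ⟨⟨m, hm⟩, e⟩
  let S0 : Subgroup S := (MulAction.stabilizer (Equiv.Perm ι) i0).subgroupOf S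
  have hS0 : ∀ s : S, s ∈ S0 ↔ (s : Equiv.Perm ι) i0 = i0 := fun s => Iff.rfl
  have hpt_conj : ∀ (s : S0) (n : N),
      pt (MulAut.conjNormal (s : S) n) = ((s : S) : Equiv.Perm ι) (pt n) := by
    intro s n
    show (((MulAut.conjNormal (s : S) n : N) : S) : Equiv.Perm ι) i0 = _
    rw [MulAut.conjNormal_apply]
    simp only [Subgroup.coe_mul, Subgroup.coe_inv, Equiv.Perm.mul_apply, pt]
    congr 2
    have := (hS0 (s⁻¹ : S0)).mp (s⁻¹).2
    exact this
  have hcardS : Nat.card S ≤ Nat.card ι * Nat.card S0 := by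
    let nn : ι → N := fun i => (hbij.2 i).choose
    have hnn : ∀ i, pt (nn i) = i := fun i => (hbij.2 i).choose_spec
    rw [← Nat.card_prod]
    refine Nat.card_le_card_of_injective (fun s : S => ((s : Equiv.Perm ι) i0,
      (⟨(nn ((s : Equiv.Perm ι) i0) : S)⁻¹ * s, ?_⟩ : S0))) ?_
    · show ((nn ((s : Equiv.Perm ι) i0) : S) : Equiv.Perm ι)⁻¹ ((s : Equiv.Perm ι) i0) = i0
      rw [Equiv.Perm.coe_inv, Equiv.symm_apply_eq]
      exact (hnn _).symm
    · intro s t h
      simp only [Prod.mk.injEq, Subtype.mk.injEq] at h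
      rw [h.1] at h
      exact mul_left_cancel h.2
  -- the linear group on `N`
  letI : CommGroup N := { (inferInstance : Group N) with
    mul_comm := fun a b => Subtype.ext (hNab a a.2 b b.2) }
  let f : S0 →* AddMonoid.End (Additive N) :=
    { toFun := fun s => MonoidHom.toAdditive (MulAut.conjNormal (s : S) : N ≃* N).toMonoidHom
      map_one' := by
        refine DFunLike.ext _ _ fun a => ?_
        simp only [OneMemClass.coe_one, map_one]
        rfl
      map_mul' := fun s t => by
        refine DFunLike.ext _ _ fun a => ?_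
        simp only [Subgroup.coe_mul, map_mul]
        rfl }
  let φ : S0 →* (AddMonoid.End (Additive N))ˣ := f.toHomUnits
  have hφ : ∀ (s : S0) (a : Additive N),
      φ s • a = Additive.ofMul (MulAut.conjNormal (s : S) (Additive.toMul a)) := fun s a => rfl
  have hinj : Function.Injective φ := by
    intro s t h
    refine Subtype.ext (Subtype.ext (Equiv.ext fun i => ?_))
    obtain ⟨n, rfl⟩ := hbij.2 i
    rw [← hpt_conj, ← hpt_conj]
    have := congrArg (fun u => u • Additive.ofMul n) h
    simp only [hφ] at this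
    exact congrArg pt (Additive.ofMul.injective this)
  -- no elements of order three
  have hno3 : ∀ (s : S0) (x : Additive N),
      φ s • φ s • φ s • x = x → φ s • x = x := by
    intro s x h
    have hn : ¬ 3 ∣ orderOf s := fun hd => hcop (dvd_trans hd ((orderOf_dvd_natCard s).trans
      (Subgroup.card_subgroup_dvd_card S0)))
    have h1 : φ s ^ 3 ∈ MulAction.stabilizer _ x := by
      rw [MulAction.mem_stabilizer_iff, pow_succ, pow_succ, pow_one, mul_smul, mul_smul]; exact h
    have h2 : φ s ^ orderOf s ∈ MulAction.stabilizer _ x := by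
      rw [← map_pow, pow_orderOf_eq_one, map_one]; exact Subgroup.one_mem _
    have := Int.gcd_eq_gcd_ab ((3 : ℕ) : ℤ) (orderOf s : ℤ)
    rw [Int.gcd_natCast_natCast, Nat.Coprime.gcd_eq_one
      ((Nat.prime_three.coprime_iff_not_dvd).mpr hn)] at this
    have h3 : φ s ^ (((3 : ℕ) : ℤ) * Int.gcdA 3 (orderOf s) + (orderOf s : ℤ) * Int.gcdB 3 (orderOf s))
        ∈ MulAction.stabilizer _ x := by
      rw [zpow_add, zpow_mul, zpow_mul, zpow_natCast, zpow_natCast]
      exact Subgroup.mul_mem _ (Subgroup.zpow_mem _ h1 _) (Subgroup.zpow_mem _ h2 _)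
    rw [show (((3 : ℕ) : ℤ) * Int.gcdA 3 (orderOf s) + (orderOf s : ℤ) * Int.gcdB 3 (orderOf s))
      = 1 by exact_mod_cast this.symm, zpow_one] at h3
    exact MulAction.mem_stabilizer_iff.mp h3
  haveI : Nontrivial (Additive N) := (Subgroup.nontrivial_iff_ne_bot N).mpr hN1
  have hcardN : Nat.card (Additive N) = Nat.card ι :=
    (Nat.card_congr Additive.toMul).trans (Nat.card_congr (Equiv.ofBijective pt hbij))
  have hirr : Irr φ.range := by
    intro M hM
    let M' : Subgroup S := (AddSubgroup.toSubgroup' M).map N.subtype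
    have hM'N : M' ≤ N := by rintro _ ⟨n, -, rfl⟩; exact n.2
    have hM'n : M'.Normal := by
      refine ⟨?_⟩
      rintro _ ⟨n, hn, rfl⟩ g
      obtain ⟨m, hm⟩ := hbij.2 ((g : Equiv.Perm ι) i0)
      let s : S0 := ⟨(m : S)⁻¹ * g, by
        show ((m : S) : Equiv.Perm ι)⁻¹ ((g : Equiv.Perm ι) i0) = i0
        rw [Equiv.Perm.coe_inv, Equiv.symm_apply_eq]
        exact hm.symm⟩
      refine ⟨MulAut.conjNormal (s : S) n, hM (φ s) ⟨s, rfl⟩ (Additive.ofMul n) hn, ?_⟩
      have hcm : ((MulAut.conjNormal (s : S) n : N) : S) * (m : S) =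
          (m : S) * ((MulAut.conjNormal (s : S) n : N) : S) :=
        hNab _ (MulAut.conjNormal (s : S) n).2 _ m.2
      rw [MulAut.conjNormal_apply] at hcm
      rw [Subgroup.coe_subtype, MulAut.conjNormal_apply]
      simp only [s, mul_inv_rev, inv_inv] at hcm ⊢
      calc (m : S)⁻¹ * g * n * (g⁻¹ * m)
          = (m : S)⁻¹ * g * n * (g⁻¹ * m) * m * (m : S)⁻¹ := by group
        _ = (m : S) * ((m : S)⁻¹ * g * n * (g⁻¹ * m)) * (m : S)⁻¹ := by rw [hcm]
        _ = g * n * g⁻¹ := by group
    by_cases hbot : M' = ⊥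
    · left
      refine (AddSubgroup.eq_bot_iff_forall M).mpr fun a ha => ?_
      have : ((Additive.toMul a : N) : S) ∈ M' := ⟨Additive.toMul a, ha, rfl⟩
      rw [hbot, Subgroup.mem_bot] at this
      exact Additive.toMul.injective (Subtype.ext this)
    · right
      have hle := hmin M' ⟨hM'n, fun x hx y hy => hNab x (hM'N hx) y (hM'N hy), hbot⟩ hM'N
      refine (AddSubgroup.eq_top_iff' M).mpr fun a => ?_
      obtain ⟨n, hn, e⟩ := hle (Additive.toMul a).2
      rw [Subtype.ext e] at hn
      exact hn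
  haveI : Group.IsSolvable S0 := by haveI := hsol; infer_instance
  have hsolφ : Group.IsSolvable φ.range := Group.isSolvable_of_surjective φ.rangeRestrict_surjective
  have hcardι : Nat.card ι ≠ 3 := fun e => hcop (e ▸ by
    haveI : MulAction.IsPretransitive S ι :=
      ⟨fun i j => by obtain ⟨s, hs, h⟩ := htrans i j; exact ⟨⟨s, hs⟩, h⟩⟩
    rw [← MulAction.index_stabilizer_of_transitive S i0]
    exact Subgroup.index_dvd_card _)
  rcases (by omega : Nat.card ι = 2 ∨ Nat.card ι = 4 ∨ 5 ≤ Nat.card ι) with h2 | h4 | h5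
  · obtain ⟨e⟩ : Nonempty (ι ≃ Fin 2) := ⟨Finite.equivFinOfCardEq h2⟩
    refine ⟨fun l i => ⟨((e i).val + l.val) % 3, Nat.mod_lt _ (by norm_num)⟩, fun l l' s _ h => ?_⟩
    simp only [Fin.ext_iff] at h
    have h0 := h (e.symm 0)
    have h1 := h (e.symm 1)
    rw [Equiv.apply_symm_apply] at h0 h1
    have hne : e (s (e.symm 0)) ≠ e (s (e.symm 1)) := fun e' =>
      absurd (e.symm.injective (s.injective (e.injective e'))) (by decide)
    have key : ∀ (l l' : Fin 3) (a b : Fin 2), a ≠ b → ((0 : Fin 2).val + l.val) % 3 = (a.val + l'.val) % 3 →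
        ((1 : Fin 2).val + l.val) % 3 = (b.val + l'.val) % 3 → l = l' ∧ a = 0 ∧ b = 1 := two_point_key
    obtain ⟨hl, ea, eb⟩ := key l l' _ _ hne h0 h1
    refine ⟨hl, Equiv.ext fun i => e.injective ?_⟩
    rw [Equiv.Perm.one_apply, ← e.symm_apply_apply i]
    generalize e i = j
    rcases (by omega : j.val = 0 ∨ j.val = 1) with hj | hj
    · rw [show j = 0 from Fin.ext hj, ea, Equiv.apply_symm_apply]
    · rw [show j = 1 from Fin.ext hj, eb, Equiv.apply_symm_apply]
  · -- four points: a group of order prime to three on `F_2^2` fixes a vector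
    exfalso
    haveI : Fintype (Additive N) := Fintype.ofFinite _
    have hN4 : Nat.card (Additive N) = 4 := by omega
    have hnofix : ∀ x : Additive N, (∀ s, φ s • x = x) → x = 0 := by
      intro x hx
      rcases hirr (AddSubgroup.zmultiples x) (by
        rintro _ ⟨s, rfl⟩ w hw
        obtain ⟨z, rfl⟩ := AddSubgroup.mem_zmultiples_iff.mp hw
        rw [show φ s • (z • x) = z • (φ s • x) from map_zsmul (φ s : AddMonoid.End _) z x, hx]
        exact hw) with h | h
      · exact AddSubgroup.zmultiples_eq_bot.mp h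
      · by_contra hx0
        -- then `N` is cyclic, and its unique involution spans an invariant proper subgroup
        let M : AddSubgroup (Additive N) :=
          { carrier := {w | w + w = 0}
            zero_mem' := add_zero 0
            add_mem' := fun {u v} hu hv => by
              show (u + v) + (u + v) = 0
              rw [add_add_add_comm, show u + u = 0 from hu, show v + v = 0 from hv, add_zero]
            neg_mem' := fun {u} hu => by
              show -u + -u = 0
              rw [← neg_add, show u + u = 0 from hu, neg_zero] }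
        have hord : addOrderOf x = 4 := by
          rw [← Nat.card_zmultiples, h, AddSubgroup.card_top, hN4]
        have h2M : 2 • x ∈ M := by
          show 2 • x + 2 • x = 0
          rw [← add_smul]
          exact addOrderOf_dvd_iff_nsmul_eq_zero.mp (by rw [hord])
        rcases hirr M (by
          rintro g _ w hw
          show g • w + g • w = 0
          rw [← smul_add, show w + w = 0 from hw, smul_zero]) with hM | hM
        · rw [hM, AddSubgroup.mem_bot] at h2M
          have := addOrderOf_dvd_of_nsmul_eq_zero h2M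
          rw [hord] at this
          omega
        · have hxM : x + x = 0 := (hM ▸ AddSubgroup.mem_top x : x ∈ M)
          have := addOrderOf_dvd_of_nsmul_eq_zero (x := x) (n := 2) (by rw [two_nsmul]; exact hxM)
          rw [hord] at this
          omega
    -- the three non-zero points
    let W := {w : Additive N // w ≠ 0}
    haveI : Fintype W := Fintype.ofFinite W
    have hW3 : Nat.card W = 3 := by
      rw [Nat.card_eq_fintype_card, Fintype.card_subtype_compl, Fintype.card_subtype_eq,
        ← Nat.card_eq_fintype_card, hN4]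
    obtain ⟨w0⟩ : Nonempty W := (Finite.card_pos_iff (α := W)).mp (by omega)
    by_cases hall : ∀ w : W, ∃ s, φ s • w0.1 = w.1
    · -- transitive: three divides the order
      haveI : Fintype S0 := Fintype.ofFinite S0
      let act : MulAction S0 W :=
        { smul := fun s w => ⟨φ s • w.1, by
            rw [ne_eq, smul_eq_zero_iff_eq]; exact w.2⟩
          one_smul := fun w => Subtype.ext (by show φ 1 • w.1 = w.1; rw [map_one, one_smul])
          mul_smul := fun s t w => Subtype.ext (by
            show φ (s * t) • w.1 = φ s • φ t • w.1; rw [map_mul, mul_smul]) }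
      letI := act
      haveI : MulAction.IsPretransitive S0 W := ⟨fun u v => by
        obtain ⟨s, hs⟩ := hall u
        obtain ⟨t, ht⟩ := hall v
        refine ⟨t * s⁻¹, Subtype.ext ?_⟩
        show φ (t * s⁻¹) • u.1 = v.1
        rw [map_mul, map_inv, mul_smul, ← hs, inv_smul_smul, ht]⟩
      have := Subgroup.index_dvd_card (MulAction.stabilizer S0 w0)
      rw [MulAction.index_stabilizer_of_transitive S0 w0, hW3] at this
      exact hcop (this.trans (Subgroup.card_subgroup_dvd_card S0))
    · simp only [not_forall, not_exists] at hall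
      obtain ⟨w1, hw1⟩ := hall
      -- either `w0` is fixed, or the third point is
      by_cases hfix0 : ∀ s, φ s • w0.1 = w0.1
      · exact w0.2 (hnofix _ hfix0)
      simp only [not_forall] at hfix0
      obtain ⟨s0, hs0⟩ := hfix0
      refine w1.2 (hnofix _ fun s => ?_)
      by_contra hne
      have hne0 : φ s • w1.1 ≠ w0.1 := fun e => hw1 s⁻¹ (by rw [map_inv, ← e, inv_smul_smul])
      let u : W := ⟨φ s0 • w0.1, by rw [ne_eq, smul_eq_zero_iff_eq]; exact w0.2⟩
      let v : W := ⟨φ s • w1.1, by rw [ne_eq, smul_eq_zero_iff_eq]; exact w1.2⟩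
      have h01 : w0 ≠ w1 := fun e => hw1 1 (by rw [map_one, one_smul, e])
      have hu1 : u ≠ w1 := fun e => hw1 s0 (congrArg Subtype.val e)
      have hu0 : u ≠ w0 := fun e => hs0 (congrArg Subtype.val e)
      have hv0 : v ≠ w0 := fun e => hne0 (congrArg Subtype.val e)
      have hv1 : v ≠ w1 := fun e => hne (congrArg Subtype.val e)
      have huv : u = v := by
        by_contra hh
        have : ({u, v, w0, w1} : Finset W).card = 4 := by
          simp [hh, hu0, hu1, hv0, hv1, h01]
        have h' := Finset.card_le_univ ({u, v, w0, w1} : Finset W)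
        rw [this, ← Nat.card_eq_fintype_card, hW3] at h'
        omega
      exact hw1 (s⁻¹ * s0) (by
        rw [map_mul, map_inv, mul_smul,
          show φ s0 • w0.1 = φ s • w1.1 from congrArg Subtype.val huv, inv_smul_smul])
  -- at least five points
  haveI : Group.IsSolvable S0 := by haveI := hsol; infer_instance
  obtain ⟨fb, hfb⟩ := hIH (Additive N) φ.range (by omega)
    (Group.isSolvable_of_surjective φ.rangeRestrict_surjective) hirr
  -- an independent base inside the triple
  obtain ⟨r, hr, hNr⟩ : ∃ r : ℕ, r.Prime ∧ ∀ w : Additive N, r • w = 0 := by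
    obtain ⟨r, hr, hrd⟩ := Nat.exists_prime_and_dvd (n := Nat.card (Additive N)) (by omega)
    haveI : Fact r.Prime := ⟨hr⟩
    obtain ⟨x, hx⟩ := exists_prime_addOrderOf_dvd_card' r hrd
    let M : AddSubgroup (Additive N) :=
      { carrier := {w | r • w = 0}
        zero_mem' := smul_zero _
        add_mem' := fun {u v} hu hv => by
          show r • (u + v) = 0
          rw [smul_add, show r • u = 0 from hu, show r • v = 0 from hv, add_zero]
        neg_mem' := fun {u} hu => by
          show r • -u = 0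
          rw [smul_neg, show r • u = 0 from hu, neg_zero] }
    rcases hirr M (by
      rintro g _ w hw
      show r • (g • w) = 0
      rw [smul_comm, show r • w = 0 from hw, smul_zero]) with hM | hM
    · exfalso
      have hxM : x ∈ M := addOrderOf_dvd_iff_nsmul_eq_zero.mp (by rw [hx])
      rw [hM, AddSubgroup.mem_bot] at hxM
      rw [hxM, addOrderOf_zero] at hx
      exact hr.one_lt.ne hx
    · exact ⟨r, hr, fun w => (hM ▸ AddSubgroup.mem_top w : w ∈ M)⟩
  haveI : Fact r.Prime := ⟨hr⟩
  have hr3 : r ≠ 3 := by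
    rintro rfl
    obtain ⟨w, hw⟩ := exists_ne (0 : Additive N)
    have : addOrderOf w = 3 := addOrderOf_eq_prime (hNr w) hw
    have h3N : 3 ∣ Nat.card N := by
      rw [← Nat.card_congr (Additive.toMul (α := N)), ← this]; exact addOrderOf_dvd_natCard w
    exact hcop (h3N.trans (Subgroup.card_subgroup_dvd_card N))
  letI : Module (ZMod r) (Additive N) := AddCommGroup.zmodModule hNr
  obtain ⟨P, hP0, hsz, hst⟩ := good_set (H := φ.range) hr hr3 hNr
    (fun s x hx => by
      obtain ⟨u, hu⟩ := s.2
      show (s : (AddMonoid.End (Additive N))ˣ) • x = x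
      rw [← hu]
      refine hno3 u x ?_
      rw [hu]
      exact hx)
    (by omega) (fb 0) (fun s h1 h2 h3 => (hfb 0 0 s (Prod.ext h1 (Prod.ext h2 h3))).2)
  rw [hcardN] at hsz
  have hpi : Function.Injective fun w : Additive N => pt (Additive.toMul w) := fun u w h =>
    Additive.toMul.injective (hbij.1 h)
  refine kColour_of_set S i0 (P.map ⟨_, hpi⟩) ?_ (by rwa [Finset.card_map]) fun s hs h0 hP => ?_
  · rw [Finset.mem_map]
    rintro ⟨w, hw, h⟩
    have hw1 : Additive.toMul w = 1 := hfix _ h
    exact hP0 ((Additive.toMul.injective (hw1.trans toMul_zero.symm) : w = 0) ▸ hw)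
  · have ht := hst ⟨φ ⟨⟨s, hs⟩, h0⟩, _, rfl⟩ fun w hw => by
      have := hP _ (Finset.mem_map_of_mem _ hw)
      rw [Finset.mem_map] at this
      obtain ⟨u, hu, e'⟩ := this
      have e'' : pt (Additive.toMul u) = s (pt (Additive.toMul w)) := e'
      rw [← hpt_conj ⟨⟨s, hs⟩, h0⟩] at e''
      show φ ⟨⟨s, hs⟩, h0⟩ • w ∈ P
      rw [hφ, ← hbij.1 e'']
      exact hu
    have ht' : φ ⟨⟨s, hs⟩, h0⟩ = φ 1 := (congrArg Subtype.val ht).trans (map_one φ).symm
    exact congrArg (fun x : S0 => ((x : S) : Equiv.Perm ι)) (hinj ht')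

end Cfsg.Agent.BaseTwo
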