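import Cfsg.Agent.BaseTwo.Special

/-!
# A regular pair for semilinear groups of coprime order without imprimitive structure
-/

set_option autoImplicit false
set_option linter.style.haveILetI false
set_option linter.unusedSectionVars false

open Finset

namespace Cfsg.Agent.BaseSize

namespace Semi

variable {k V G : Type*} [Field k] [AddCommGroup V] [Module k V] [Group G]
  [DistribMulAction G V] [Finite k] [Finite G] [Finite V]

theorem exists_gen (k : Type*) [Field k] [Finite k] :
    ∃ γ : kˣ, orderOf γ = Nat.card k - 1 ∧ ∀ s : k ≃+* k, s (γ : k) = γ → ∀ t, s t = t := by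
  obtain ⟨u, hu⟩ := IsCyclic.exists_generator (α := kˣ)
  refine ⟨u, by rw [orderOf_eq_card_of_forall_mem_zpowers hu, Nat.card_units], fun s hs t => ?_⟩
  by_cases ht : t = 0
  · simp [ht]
  obtain ⟨e, he⟩ := Subgroup.mem_zpowers_iff.mp (hu (Units.mk0 t ht))
  have h := congrArg (fun z : kˣ => (z : k)) he
  simp only [Units.val_zpow_eq_zpow_val, Units.val_mk0] at h
  rw [← h, map_zpow₀, hs]

/-- **A regular pair in the primitive coprime case.** -/
theorem regPair (S : Semi k V G) (hsol : Group.IsSolvable G) {p : ℕ} [CharP k p] (hp : p.Prime)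
    (hp2 : p ≠ 2) (hG : ¬ p ∣ Nat.card G) : BData.RegPair G V := by
  classical
  haveI : Fact p.Prime := ⟨hp⟩
  haveI : Fintype k := Fintype.ofFinite k
  have h2 : (2 : k) ≠ 0 := by
    intro e
    have e' : ((2 : ℕ) : k) = 0 := by exact_mod_cast e
    exact hp2 ((Nat.prime_dvd_prime_iff_eq hp Nat.prime_two).mp
      ((CharP.cast_eq_zero_iff k p 2).mp e'))
  obtain ⟨γ, hγ, hγfix⟩ := exists_gen k
  by_cases hlin : ∀ g ∈ S.lin, g ∈ S.U
  · obtain ⟨v, hv⟩ := S.nonzero
    refine ⟨v, (γ : k) • v, fun g h1 h2 => ?_⟩
    rw [S.smul_smul', h1] at h2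
    have hσ : S.σ g = 1 := RingEquiv.ext (hγfix _ (S.smul_eq_imp hv h2))
    obtain ⟨u, rfl⟩ := hlin g (S.mem_lin.mpr hσ)
    rw [S.sc_smul] at h1
    rw [show u = 1 from Units.ext (S.smul_eq_imp hv (h1.trans (one_smul k v).symm)), map_one]
  set n := ∏ q ∈ (Nat.card G).primeFactors, q with hn
  obtain ⟨B, hB, hmax⟩ : ∃ B, S.IsB n B ∧ ∀ B', S.IsB n B' → B ≤ B' → B' ≤ B := by
    haveI : Finite {B : Subgroup G // S.IsB n B} := inferInstance
    haveI : Nonempty {B : Subgroup G // S.IsB n B} := ⟨⟨S.U, S.isB_U n⟩⟩
    obtain ⟨B, hB⟩ := Finite.exists_max (fun B : {B : Subgroup G // S.IsB n B} => Nat.card B.1)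
    exact ⟨B.1, B.2, fun B' hB' hle =>
      (Subgroup.eq_of_le_of_card_ge hle (hB ⟨B', hB'⟩)).ge⟩
  let D : BData k V G :=
    { toSemi := S
      B := B
      n := n
      hn := Nat.squarefree_iff_factorization_le_one (Finset.prod_ne_zero_iff.mpr
        fun q hq => (Nat.prime_of_mem_primeFactors hq).ne_zero) |>.mpr fun q => by
          rw [Nat.factorization_prod_apply fun r hr => (Nat.prime_of_mem_primeFactors hr).ne_zero]
          calc ∑ r ∈ (Nat.card G).primeFactors, r.factorization q
              ≤ ∑ r ∈ (Nat.card G).primeFactors, if r = q then 1 else 0 :=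
                Finset.sum_le_sum fun r hr => by
                  rw [(Nat.prime_of_mem_primeFactors hr).factorization, Finsupp.single_apply]
            _ ≤ 1 := by rw [Finset.sum_ite_eq']; split_ifs <;> simp
      isB := hB
      cent := fun g hg hc => S.centralizer_le hsol hB hmax hg hc }
  obtain ⟨m, F, hF⟩ := BData.exists_max_frame D
  obtain ⟨i, j, hq⟩ := BData.exists_quat F hF
  obtain ⟨v, hv, hX⟩ := F.exists_fixed
  have hneg : ((-1 : kˣ)) ≠ 1 := by
    intro e
    have e' : (-1 : k) = 1 := by simpa using congrArg Units.val e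
    exact h2 (by linear_combination -e')
  have hev : 2 ∣ Nat.card k - 1 :=
    BData.prime_dvd_card_sub_one Nat.prime_two (c := (-1 : kˣ)) (by simp) hneg
  have hk1 : 1 < Nat.card k := Finite.one_lt_card
  have hdvd : ∀ i, F.r i ∣ Nat.card k - 1 := fun i =>
    BData.prime_dvd_card_sub_one (F.hr i) (c := F.ζ i) (by rw [← F.hζ]; exact pow_orderOf_eq_one _)
      (fun e => by have := F.hζ i; rw [e, orderOf_one] at this; exact (F.hr i).one_lt.ne this)
  have hpq : ∀ q : ℕ, q.Prime → Nat.card k = q → p = q := by
    intro q hq' hcard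
    obtain ⟨e, he⟩ := FiniteField.card k p
    rw [← Nat.card_eq_fintype_card, hcard] at he
    exact ((Nat.prime_dvd_prime_iff_eq hp hq').mp (he.2 ▸ dvd_pow_self p e.pos.ne'))
  obtain ⟨-, -, hq'⟩ := id hq
  rcases hq' with ⟨hi, hj, hall⟩ | ⟨hii, hjj, hij, hsq, hall⟩
  · -- no quaternions
    let E : BData.Ctx F := ⟨i, j, hq, v, hv, hX⟩
    have hw : E.w = E.v1 := by
      show i • v = v
      rw [hi, one_smul]
    have hsp : E.InSpan (E.j • E.v1) := ⟨1, 0, by
      show j • v = (1 : k) • v + (0 : k) • _
      rw [hj, one_smul, one_smul, zero_smul, add_zero]⟩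
    have hreg0 := BData.Ctx.reg_zero_triv (E := E) hw hγfix
    rcases Nat.eq_zero_or_pos m with hm | hm
    · subst hm
      refine BData.Ctx.regPair_of_reg (E := E) hsp (v := (γ : k) • E.v1) (w := E.v1) ?_
      rwa [Finset.univ_eq_empty]
    by_cases hgood : ∃ l, F.r l ≠ 2 ∨ (Nat.card k ≠ 3 ∧ Nat.card k ≠ 5)
    · obtain ⟨l, hl⟩ := hgood
      have hγ3 : (γ : k) ^ 3 ≠ 1 := by
        intro e
        have hd : orderOf γ ∣ 3 := orderOf_dvd_of_pow_eq_one (Units.ext (by
          rw [Units.val_pow_eq_pow_val, e, Units.val_one]))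
        rw [hγ] at hd
        have := (Nat.prime_dvd_prime_iff_eq Nat.prime_two Nat.prime_three).mp (hev.trans hd)
        omega
      have hγ4 : F.r l = 2 → (γ : k) ^ 4 ≠ 1 := by
        intro hr e
        obtain ⟨n3, n5⟩ := hl.resolve_left (not_not_intro hr)
        have hd : orderOf γ ∣ 4 := orderOf_dvd_of_pow_eq_one (Units.ext (by
          rw [Units.val_pow_eq_pow_val, e, Units.val_one]))
        rw [hγ] at hd
        have hle := Nat.le_of_dvd (by norm_num) hd
        interval_cases h : Nat.card k - 1 <;> omega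
      have hne : l ∉ (∅ : Finset (Fin m)) := Finset.notMem_empty l
      have hs := E.stab_zero
      have hv0 : (γ : k) • E.v1 ≠ 0 := by simp [E.hv1]
      have hfx : F.Fx ∅ ((γ : k) • E.v1) := hs.2.1.smul_k _
      have hstrong : E.Strong {l} := ⟨E.v1, F.next l ((γ : k) • E.v1) E.v1, E.hv1,
        hs.2.1.mono (Finset.empty_subset _),
        BData.Ctx.stab_one (E := E) hall h2 l γ.ne_zero (fun _ => hγ3) hγ4,
        BData.Frame.sep_step hne hfx hs hv0,
        LawfulSingleton.insert_empty_eq (β := Finset (Fin m)) l ▸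
          BData.Ctx.reg_step h2 hne hfx hs hreg0⟩
      obtain ⟨v', w', -, -, -, -, hreg⟩ := (hstrong.extend h2).ex
      exact BData.Ctx.regPair_of_reg hsp hreg
    simp only [not_exists, not_or, not_not, not_and] at hgood
    rcases Nat.lt_or_ge m 2 with hm2 | hm2
    · obtain rfl : m = 1 := by omega
      have hreg := BData.Ctx.reg_step h2 (Finset.notMem_empty (0 : Fin 1))
        (E.stab_zero.2.1.smul_k (γ : k)) E.stab_zero hreg0
      refine BData.Ctx.regPair_of_reg (E := E) hsp (v := E.v1)
        (w := F.next 0 ((γ : k) • E.v1) E.v1) ?_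
      rwa [show insert (0 : Fin 1) (∅ : Finset (Fin 1)) = Finset.univ from by decide] at hreg
    · let n0 : Fin m := ⟨0, by omega⟩
      let n1 : Fin m := ⟨1, hm2⟩
      have hne : n0 ≠ n1 := by simp [n0, n1, Fin.ext_iff]
      have hstrong : E.Strong {n0, n1} := by
        by_cases h3 : Nat.card k = 3
        · obtain rfl : p = 3 := hpq 3 Nat.prime_three h3
          exact E.strong_two (M := BaseTwo.Cert.threeMdl) hall hw hne (hgood n0).1 (hgood n1).1
            (Or.inl rfl) h3 hG
        · have h5 := (hgood n0).2 h3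
          obtain rfl : p = 5 := hpq 5 Nat.prime_five h5
          exact E.strong_two (M := BaseTwo.Cert.fiveMdl) hall hw hne (hgood n0).1 (hgood n1).1
            (Or.inr rfl) h5 hG
      obtain ⟨v', w', -, -, -, -, hreg⟩ := (hstrong.extend h2).ex
      exact BData.Ctx.regPair_of_reg hsp hreg
  · -- quaternions
    obtain ⟨a, b, hab, ha3⟩ : ∃ a b : ℕ, (a : k) ^ 2 + (b : k) ^ 2 = -1 ∧
        (Nat.card k = 3 → a = 1 ∧ b = 1) := by
      by_cases h3 : Nat.card k = 3
      · refine ⟨1, 1, ?_, fun _ => ⟨rfl, rfl⟩⟩
        have := FiniteField.cast_card_eq_zero k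
        rw [← Nat.card_eq_fintype_card, h3] at this
        push_cast at this ⊢
        linear_combination this
      · obtain ⟨x, y, hxy⟩ := ZMod.sq_add_sq p (-1)
        refine ⟨x.val, y.val, ?_, fun e => absurd e h3⟩
        have := congrArg (ZMod.castHom (dvd_refl p) k) hxy
        rw [map_add, map_pow, map_pow, map_neg, map_one] at this
        rw [← map_natCast (ZMod.castHom (dvd_refl p) k), ← map_natCast (ZMod.castHom (dvd_refl p) k),
          ZMod.natCast_zmod_val, ZMod.natCast_zmod_val]
        exact this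
    set α : k := (a : k) with hα
    set β : k := (b : k) with hβ
    have hC : i ∈ F.C ∧ j ∈ F.C := ⟨hq.1, hq.2.1⟩
    have hiu : ∀ u : V, i • (i • u) = -u := fun u => by
      rw [← mul_smul, hii, D.z_smul, Units.val_neg, Units.val_one, neg_smul, one_smul]
    have hju : ∀ u : V, j • (j • u) = -u := fun u => by
      rw [← mul_smul, hjj, D.z_smul, Units.val_neg, Units.val_one, neg_smul, one_smul]
    have hjiu : ∀ u : V, i • (j • u) = -(j • (i • u)) := fun u => by
      rw [BData.com_spec_smul i j, hij, Units.val_neg, Units.val_one, neg_smul, one_smul]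
    obtain ⟨v1, hv1, hX1, hfix1⟩ : ∃ u : V, u ≠ 0 ∧ F.Fixed u ∧
        α • (i • u) + β • (j • u) = u := by
      let P : k → k → V → V := fun c d u => c • (i • u) + d • (j • u)
      have hPP : ∀ c d : k, c ^ 2 + d ^ 2 = -1 → ∀ u, P c d (P c d u) = u := by
        intro c d hcd u
        have e : -((c ^ 2 + d ^ 2) • u) = u := by rw [hcd, neg_smul, one_smul, neg_neg]
        simp only [P, smul_add, D.smul_k, hiu, hju, hjiu]
        generalize j • (i • u) = J
        linear_combination (norm := module) e
      have hPfix : ∀ (c d : k) (u : V), F.Fixed u → F.Fixed (P c d u) := fun c d u hu =>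
        ((hu.C hC.1).smul_k c).add ((hu.C hC.2).smul_k d)
      by_cases h0 : v + P α β v = 0
      · refine ⟨P β (-α) v, fun e => hv ?_, hPfix _ _ _ hX, ?_⟩
        · rw [← hPP β (-α) (by rw [neg_sq, add_comm]; exact hab) v, e]
          simp [P]
        · have hPv : P α β v = -v := (neg_eq_of_add_eq_zero_right h0).symm
          show P α β (P β (-α) v) = P β (-α) v
          have : P α β (P β (-α) v) = -P β (-α) (P α β v) := by
            simp only [P, smul_add, D.smul_k, hiu, hju, hjiu]
            generalize j • (i • v) = J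
            generalize j • v = J'
            generalize i • v = I'
            module
          rw [this, hPv]
          simp only [P, smul_neg]
          generalize j • v = J'
          generalize i • v = I'
          module
      · refine ⟨v + P α β v, h0, hX.add (hPfix _ _ _ hX), ?_⟩
        show P α β (v + P α β v) = _
        have : P α β (v + P α β v) = P α β v + P α β (P α β v) := by
          simp only [P, smul_add, D.smul_k]
          generalize i • (i • v) = A1
          generalize i • (j • v) = A2
          generalize j • (i • v) = A3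
          generalize j • (j • v) = A4
          generalize j • v = J'
          generalize i • v = I'
          module
        rw [this, hPP α β hab, add_comm]
    let E : BData.Ctx F := ⟨i, j, hq, v1, hv1, hX1⟩
    have hQ : E.IsQuat α β :=
      { hii := hii
        hsq := hsq
        all := hall
        hαβ := hab
        hj := by
          show β • (j • v1) = v1 - α • (i • v1)
          rw [eq_sub_iff_add_eq, add_comm]
          exact hfix1
        fixed := fun g => ⟨map_natCast _ a, map_natCast _ b⟩ }
    by_cases h3 : Nat.card k = 3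
    · obtain ⟨ha, hb⟩ := ha3 h3
      have hα1 : α = 1 := by rw [hα, ha, Nat.cast_one]
      have hβ1 : β = 1 := by rw [hβ, hb, Nat.cast_one]
      have hr : ∀ l, F.r l = 2 := fun l => by
        have := hdvd l
        rw [h3] at this
        exact (Nat.prime_dvd_prime_iff_eq (F.hr l) Nat.prime_two).mp this
      have hreg0 := BData.Ctx.reg_zero_quat (E := E) hQ hp hG (s := 0)
        fun σ _ => Colour.prime_field_auto (by rw [h3]; exact Nat.prime_three) σ
      rcases Nat.lt_or_ge m 2 with hm2 | hm2
      · rcases Nat.eq_zero_or_pos m with hm | hm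
        · subst hm
          refine BData.Ctx.regPair_of_reg (E := E) hQ.inSpan
            (v := (0 : k) • E.v1 + E.w) (w := E.v1) ?_
          rwa [Finset.univ_eq_empty]
        obtain rfl : m = 1 := by omega
        have hreg := BData.Ctx.reg_step h2 (Finset.notMem_empty (0 : Fin 1))
          ((E.stab_zero.2.1.smul_k (0 : k)).add (BData.Frame.fx_empty.mpr E.w_fixed)) E.stab_zero hreg0
        refine BData.Ctx.regPair_of_reg (E := E) hQ.inSpan (v := E.v1)
          (w := F.next 0 ((0 : k) • E.v1 + E.w) E.v1) ?_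
        rwa [show insert (0 : Fin 1) (∅ : Finset (Fin 1)) = Finset.univ from by decide] at hreg
      · obtain rfl : p = 3 := hpq 3 Nat.prime_three h3
        let n0 : Fin m := ⟨0, by omega⟩
        let n1 : Fin m := ⟨1, hm2⟩
        have hstrong := E.strong_two_quat hQ hα1 hβ1 hjj hij (n0 := n0) (n1 := n1)
          (by simp [n0, n1, Fin.ext_iff]) (hr n0) (hr n1) h3 hG
        obtain ⟨v', w', -, -, -, -, hreg⟩ := (hstrong.extend h2).ex
        exact BData.Ctx.regPair_of_reg hQ.inSpan hreg
    · have hq4 : 4 ≤ Nat.card k - 1 ∨ Nat.card k - 1 = 2 := by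
        have := Nat.le_of_dvd (by omega) hev
        obtain ⟨t, ht⟩ := hev
        omega
      replace hq4 : 4 ≤ Nat.card k - 1 := hq4.resolve_right (by omega)
      have hγ2 : (γ : k) ^ 2 ≠ 1 := by
        intro e
        have hd : orderOf γ ∣ 2 := orderOf_dvd_of_pow_eq_one (Units.ext (by
          rw [Units.val_pow_eq_pow_val, e, Units.val_one]))
        rw [hγ] at hd
        have := Nat.le_of_dvd two_pos hd
        omega
      obtain ⟨s, hs0, hs1, hs2, hsfix⟩ : ∃ s : k, s ≠ 0 ∧ s ≠ -α⁻¹ ∧ s ≠ α ∧
          ∀ σ : k ≃+* k, σ s = s → ∀ t, σ t = t := by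
        have hgen : ∀ c : k, (∀ σ : k ≃+* k, σ c = c) → ∀ σ : k ≃+* k,
            σ ((γ : k) + c) = γ + c → ∀ t, σ t = t := fun c hc σ h =>
          hγfix σ (by rw [map_add, hc σ] at h; exact add_right_cancel h)
        have g0 : ∀ c : k, (c = 0 ∨ c = 1 ∨ c = -1) → ∀ σ : k ≃+* k, σ c = c := by
          rintro c (rfl | rfl | rfl) σ <;> simp
        have n0 : (γ : k) + 0 ≠ 0 := by simp
        have n1 : (γ : k) + 1 ≠ 0 := fun e => hγ2 (by linear_combination ((γ : k) - 1) * e)
        have n2 : (γ : k) + -1 ≠ 0 := fun e => hγ2 (by linear_combination ((γ : k) + 1) * e)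
        by_contra hcon
        simp only [not_exists, not_and] at hcon
        have hbad : ∀ c : k, (c = 0 ∨ c = 1 ∨ c = -1) → (γ : k) + c ≠ 0 →
            (γ : k) + c = -α⁻¹ ∨ (γ : k) + c = α := by
          intro c hc h0
          by_contra hne
          simp only [not_or] at hne
          exact hcon _ h0 hne.1 hne.2 (hgen c (g0 c hc))
        rcases hbad 0 (Or.inl rfl) n0 with e0 | e0 <;>
          rcases hbad 1 (Or.inr (Or.inl rfl)) n1 with e1 | e1 <;>
            rcases hbad (-1) (Or.inr (Or.inr rfl)) n2 with e2 | e2 <;>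
              first
                | exact one_ne_zero (by linear_combination e1 - e0)
                | exact one_ne_zero (by linear_combination e0 - e2)
                | exact h2 (by linear_combination e1 - e2)
      have hstrong : E.Strong ∅ := ⟨s • E.v1 + E.w, E.v1,
        fun e => one_ne_zero (hQ.indep (a := s) (b := (1 : k)) (by rw [one_smul]; exact e)).2,
        (E.stab_zero.2.1.smul_k s).add (BData.Frame.fx_empty.mpr E.w_fixed), E.stab_zero,
        BData.Ctx.sep_zero_quat hQ hs0 hs1 hs2, BData.Ctx.reg_zero_quat hQ hp hG hsfix⟩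
      obtain ⟨v', w', -, -, -, -, hreg⟩ := (hstrong.extend h2).ex
      exact BData.Ctx.regPair_of_reg hQ.inSpan hreg

end Semi

end Cfsg.Agent.BaseSize
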