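import Cfsg.Agent.BaseSize.Main
import Cfsg.Agent.BaseTwo.PermThree
import Cfsg.Agent.BaseTwo.Prim

/-!
# Several inequivalent pairs; the imprimitive step
-/

set_option autoImplicit false
set_option linter.style.haveILetI false
set_option linter.unusedSectionVars false

open Finset

namespace Cfsg.Agent.BaseTwo

open Cfsg.Agent.BaseSize (Irr Decomp NoDecomp)

variable {V : Type} [AddCommGroup V] [Finite V]

/-- `K` pairs in distinct regular orbits. -/
def PairBase (K : ℕ) (G : Subgroup (AddMonoid.End V)ˣ) : Prop :=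
  ∃ f : Fin K → V × V, ∀ (i j : Fin K) (g : G), g • f i = f j → i = j ∧ g = 1

/-- The statement below a given size. -/
def PairBelow (p K n : ℕ) : Prop :=
  ∀ (W : Type) [AddCommGroup W] [Finite W] [Nontrivial W] (H : Subgroup (AddMonoid.End W)ˣ),
    Nat.card W < n → Group.IsSolvable H → Irr H → (∀ w : W, p • w = 0) → ¬ p ∣ Nat.card H →
      PairBase K H

theorem colour_of_prim {ι : Type} [Finite ι] (S : Subgroup (Equiv.Perm ι))
    (hsol : Group.IsSolvable S) (hι : 1 < Nat.card ι)
    (htrans : ∀ i j : ι, ∃ s ∈ S, s i = j)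
    (hnorm : ∀ N : Subgroup S, N.Normal → N ≠ ⊥ → ∀ i j : ι, ∃ n ∈ N, (n : Equiv.Perm ι) i = j)
    {b : ℕ} (hb : Nat.card ι < b) {p K : ℕ} (hK : (p = 3 ∧ K = 3) ∨ K = 5)
    (hS : ¬ p ∣ Nat.card S) : KColour S K := by
  rcases hK with ⟨rfl, rfl⟩ | rfl
  · exact kColour_three S hsol hι htrans hnorm hb (BaseSize.fiveBelow b) hS
  · exact BaseSize.fiveColour S hsol hι htrans hnorm hb (BaseSize.fiveBelow b)

/-- The imprimitive step. -/
theorem pairs_of_decomp {p K : ℕ} {G : Subgroup (AddMonoid.End V)ˣ} (hsol : Group.IsSolvable G)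
    (hpV : ∀ v : V, p • v = 0) (hG : ¬ p ∣ Nat.card G) (hK : (p = 3 ∧ K = 3) ∨ K = 5)
    (hirr : Irr G) {m : ℕ} (hm : 2 ≤ m) (d : Decomp G (Fin m))
    (hmin : ∀ m', 2 ≤ m' → m' < m → IsEmpty (Decomp G (Fin m')))
    (hIH : PairBelow p K (Nat.card V)) : PairBase K G := by
  classical
  haveI : Nonempty (Fin m) := ⟨⟨0, by omega⟩⟩
  haveI := hsol
  -- the count of blocks
  have hmV : m < Nat.card V := by
    have hx : ∀ i, ∃ v, d.p i v ≠ 0 := fun i => by
      by_contra h
      simp only [not_exists, not_not] at h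
      exact d.nonzero i (DFunLike.ext _ _ h)
    choose x hx using hx
    have hinj : Function.Injective (fun o : Option (Fin m) => o.elim 0 fun i => d.p i (x i)) := by
      rintro (_ | i) (_ | j) h
      · rfl
      · exact absurd h.symm (hx j)
      · exact absurd h (hx i)
      · simp only [Option.elim] at h
        by_contra hne
        have h' := congrArg (d.p i) h
        rw [d.p_p, if_pos rfl, d.p_p, if_neg (fun e => hne (by rw [e]))] at h'
        exact hx i h'
    have := Nat.card_le_card_of_injective _ hinj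
    rw [Nat.card_eq_fintype_card, Fintype.card_option, Fintype.card_fin] at this
    omega
  -- the colourings
  have hsolπ : Group.IsSolvable d.π.range :=
    Group.isSolvable_of_surjective d.π.rangeRestrict_surjective
  have hm1 : 1 < Nat.card (Fin m) := by rw [Nat.card_fin]; omega
  have hmlt : Nat.card (Fin m) < Nat.card V := by rwa [Nat.card_fin]
  have hcolour : KColour d.π.range K := by
    refine colour_of_prim d.π.range hsolπ hm1 (fun i j => ?_) (fun N hN hN1 i j => ?_) hmlt hK
      (fun h => hG (h.trans (Subgroup.card_range_dvd d.π)))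
    · obtain ⟨g, hg⟩ := d.transitive hirr i j
      exact ⟨_, ⟨g, rfl⟩, hg⟩
    · by_contra hcon
      simp only [not_exists, not_and] at hcon
      obtain ⟨n, hn, hn1⟩ : ∃ n ∈ N, n ≠ 1 := by
        by_contra h
        simp only [not_exists, not_and, not_not] at h
        exact hN1 ((Subgroup.eq_bot_iff_forall N).mpr h)
      obtain ⟨a, ha⟩ : ∃ a, (n : Equiv.Perm (Fin m)) a ≠ a := by
        by_contra h
        simp only [not_exists, not_not] at h
        exact hn1 (Subtype.ext (Equiv.ext h))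
      obtain ⟨m', h2, hlt, ⟨d'⟩⟩ := d.exists_merge N hN hcon (Ne.symm ha) hn rfl
      rw [Fintype.card_fin] at hlt
      exact (hmin m' h2 hlt).false d'
  obtain ⟨C, hC⟩ := hcolour
  -- the block and its group
  let i0 : Fin m := ⟨0, by omega⟩
  let W : AddSubgroup V := AddMonoidHom.range (d.p i0)
  have hW : ∀ v, v ∈ W ↔ d.p i0 v = v := fun v => ⟨by
    rintro ⟨w, rfl⟩; exact DFunLike.congr_fun (d.idem i0) w, fun h => ⟨v, h⟩⟩
  let H0 : Subgroup G :=
    { carrier := {g | d.act g i0 = i0}
      one_mem' := d.act_one i0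
      mul_mem' := fun {a b} (ha : d.act a i0 = i0) (hb : d.act b i0 = i0) => by
        show d.act (a * b) i0 = i0
        rw [d.act_mul, hb, ha]
      inv_mem' := fun {a} (ha : d.act a i0 = i0) => by
        show d.act a⁻¹ i0 = i0
        conv_lhs => rw [← ha]
        rw [← d.act_mul, inv_mul_cancel, d.act_one] }
  have hinv : ∀ g : H0, ∀ v ∈ W, (g : G) • v ∈ W := fun g v hv => by
    rw [hW] at hv ⊢
    have := d.smul_p g i0 v
    rw [hv, g.2] at this
    exact this.symm
  let f : H0 →* AddMonoid.End W :=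
    { toFun := fun g =>
        ({ toFun := fun w => ⟨(g : G) • (w : V), hinv g w w.2⟩
           map_zero' := Subtype.ext (smul_zero _)
           map_add' := fun a b => Subtype.ext (smul_add _ _ _) } : W →+ W)
      map_one' := AddMonoidHom.ext fun w => Subtype.ext (one_smul G (w : V))
      map_mul' := fun a b => AddMonoidHom.ext fun w =>
        Subtype.ext (mul_smul (a : G) (b : G) (w : V)) }
  let φ : H0 →* (AddMonoid.End W)ˣ := f.toHomUnits
  have hφ : ∀ (g : H0) (w : W), ((φ g • w : W) : V) = (g : G) • (w : V) := fun _ _ => rfl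
  choose t ht using fun i => d.transitive hirr i0 i
  have ht' : ∀ i, d.act (t i) i0 = i := ht
  have hstab : ∀ (a : G) (i : Fin m), (t (d.act a i))⁻¹ * a * t i ∈ H0 := fun a i => by
    show d.act _ i0 = i0
    rw [d.act_mul, d.act_mul, ht']
    generalize d.act a i = b
    have h := congrArg (d.act (t b)⁻¹) (ht' b)
    rw [← d.act_mul, inv_mul_cancel, d.act_one] at h
    exact h.symm
  have hproj : ∀ i l (w : W), d.p i (t l • (w : V)) = if i = l then t l • (w : V) else 0 := by
    intro i l w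
    rw [← (hW w).mp w.2, d.smul_p, ht', d.p_p]
  haveI : Nontrivial W := by
    rw [AddSubgroup.nontrivial_iff_ne_bot]
    intro h
    exact d.nonzero i0 (DFunLike.ext _ _ fun v =>
      (AddSubgroup.eq_bot_iff_forall W).mp h _ ⟨v, rfl⟩)
  have hWV : Nat.card W < Nat.card V := by
    refine lt_of_le_of_ne (Nat.card_le_card_of_injective _ Subtype.val_injective) fun h => ?_
    have h1 : ((⟨1, by omega⟩ : Fin m)) ≠ i0 := fun e => by simpa [i0] using congrArg Fin.val e
    refine d.nonzero ⟨1, by omega⟩ (DFunLike.ext _ _ fun v => ?_)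
    have hv : v ∈ W := (AddSubgroup.eq_top_of_card_eq W h) ▸ AddSubgroup.mem_top v
    rw [← (hW v).mp hv, d.p_p, if_neg h1]
    rfl
  have hirrW : Irr φ.range := by
    intro M hM
    let M' : AddSubgroup V :=
      { carrier := {v | ∀ i, ∃ w ∈ M, (t i)⁻¹ • d.p i v = (w : V)}
        zero_mem' := fun i => ⟨0, M.zero_mem, by simp⟩
        add_mem' := fun {a b} ha hb i => by
          obtain ⟨x, hx, e⟩ := ha i
          obtain ⟨y, hy, e'⟩ := hb i
          exact ⟨x + y, M.add_mem hx hy, by rw [map_add, smul_add, e, e']; rfl⟩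
        neg_mem' := fun {a} ha i => by
          obtain ⟨x, hx, e⟩ := ha i
          exact ⟨-x, M.neg_mem hx, by rw [map_neg, smul_neg, e]; rfl⟩ }
    have hbig : ∀ w ∈ M, t i0 • (w : V) ∈ M' := fun w hw i => by
      by_cases hi : i = i0
      · exact ⟨w, hw, by rw [hproj, if_pos hi, hi, inv_smul_smul]⟩
      · exact ⟨0, M.zero_mem, by rw [hproj, if_neg hi, smul_zero]; rfl⟩
    rcases hirr M' (by
      intro g hg v hv j
      obtain ⟨i, hi⟩ : ∃ i, d.act ⟨g, hg⟩ i = j := (d.π ⟨g, hg⟩).surjective j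
      obtain ⟨w, hw, e⟩ := hv i
      subst hi
      refine ⟨φ ⟨_, hstab ⟨g, hg⟩ i⟩ • w, hM _ ⟨_, rfl⟩ _ hw, ?_⟩
      rw [hφ, ← e, ← mul_smul]
      show _ = ((t (d.act ⟨g, hg⟩ i))⁻¹ * ⟨g, hg⟩ * t i * (t i)⁻¹) • d.p i v
      rw [mul_inv_cancel_right, mul_smul, d.smul_p ⟨g, hg⟩ i v]
      rfl) with h | h
    · left
      refine (AddSubgroup.eq_bot_iff_forall M).mpr fun w hw => Subtype.ext ?_
      have := (AddSubgroup.eq_bot_iff_forall M').mp h _ (hbig w hw)
      rw [smul_eq_iff_eq_inv_smul, smul_zero] at this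
      exact this
    · right
      refine (AddSubgroup.eq_top_iff' M).mpr fun w => ?_
      obtain ⟨w', hw', e⟩ := (h ▸ AddSubgroup.mem_top (t i0 • (w : V)) : t i0 • (w : V) ∈ M') i0
      rw [hproj, if_pos rfl, inv_smul_smul] at e
      rwa [Subtype.ext e]
  obtain ⟨fb, hfb⟩ := hIH W φ.range hWV
    (Group.isSolvable_of_surjective φ.rangeRestrict_surjective) hirrW
    (fun w => Subtype.ext (by simpa using hpV (w : V)))
    (fun h => hG (h.trans ((Subgroup.card_range_dvd φ).trans (Subgroup.card_subgroup_dvd_card H0))))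
  let T : (Fin K → W) → Fin K → V := fun sel l => ∑ i, t i • (sel (C l i) : V)
  let s1 : Fin K → W := fun l => (fb l).1
  let s2 : Fin K → W := fun l => (fb l).2
  have hT : ∀ sel l i, d.p i (T sel l) = t i • (sel (C l i) : V) := fun sel l i => by
    rw [map_sum, Finset.sum_eq_single i (fun b _ hb => by rw [hproj, if_neg (Ne.symm hb)])
      (fun h => absurd (Finset.mem_univ i) h), hproj, if_pos rfl]
  refine ⟨fun l => (T s1 l, T s2 l), fun l l' a h => ?_⟩
  simp only [Prod.smul_mk, Prod.mk.injEq] at h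
  have hcomp : ∀ sel, a • T sel l = T sel l' → ∀ i,
      φ ⟨_, hstab a i⟩ • sel (C l i) = sel (C l' (d.act a i)) := by
    intro sel hs i
    have := congrArg (d.p (d.act a i)) hs
    rw [← d.smul_p, hT, hT] at this
    refine Subtype.ext ?_
    rw [hφ]
    simp only [mul_smul, this, inv_smul_smul]
  have hi : ∀ i, C l i = C l' (d.act a i) ∧ φ ⟨_, hstab a i⟩ = 1 := by
    intro i
    have e : (⟨φ ⟨_, hstab a i⟩, _, rfl⟩ : φ.range) • fb (C l i) = fb (C l' (d.act a i)) :=
      Prod.ext (hcomp s1 h.1 i) (hcomp s2 h.2 i)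
    exact ⟨(hfb _ _ _ e).1, congrArg Subtype.val (hfb _ _ _ e).2⟩
  obtain ⟨hll, hπ⟩ := hC l l' (d.π a) ⟨a, rfl⟩ fun i => (hi i).1
  refine ⟨hll, Subtype.ext (Units.ext (DFunLike.ext _ _ fun v => ?_))⟩
  show a • v = v
  conv_lhs => rw [← d.apply_total v, Finset.smul_sum]
  conv_rhs => rw [← d.apply_total v]
  refine Finset.sum_congr rfl fun i _ => ?_
  have hai : d.act a i = i := by rw [← d.π_apply, hπ]; rfl
  have hw : (t i)⁻¹ • d.p i v ∈ W := by
    rw [hW]
    have := d.smul_p (t i) i0 ((t i)⁻¹ • d.p i v)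
    rw [ht', smul_inv_smul, d.p_p, if_pos rfl, ← eq_inv_smul_iff] at this
    exact this
  have := congrArg Subtype.val (congrArg (fun u => u • (⟨_, hw⟩ : W)) (hi i).2)
  simp only [one_smul, hφ, mul_smul, smul_inv_smul, hai, inv_smul_eq_iff] at this
  exact this

end Cfsg.Agent.BaseTwo
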