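import Cfsg.Agent.BaseTwo.Decomp
import Cfsg.Agent.CoprimeAct.Basic
import Cfsg.Agent.PairBase.Main

/-!
# Solvable linear groups of coprime order have a base of size two
-/

set_option autoImplicit false
set_option linter.style.haveILetI false
set_option linter.unusedSectionVars false

open Finset

namespace Cfsg.Agent.BaseTwo

open Cfsg.Agent.BaseSize (Irr Decomp NoDecomp irr_mono noDecomp_mono idem_eq_one Semi BData)

variable {V : Type} [AddCommGroup V] [Finite V]

/-- A group with no system of imprimitivity, containing no larger solvable group. -/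
theorem regPair_of_max {p : ℕ} (hp : p.Prime) (hp2 : p ≠ 2) (hpV : ∀ v : V, p • v = 0)
    {G : Subgroup (AddMonoid.End V)ˣ} [Nontrivial V] (hsol : Group.IsSolvable G)
    (hG : ¬ p ∣ Nat.card G)
    (hirr : Irr G) (hno : NoDecomp G)
    (hmax : ∀ H : Subgroup (AddMonoid.End V)ˣ, G ≤ H → Group.IsSolvable H → ¬ p ∣ Nat.card H →
      H ≤ G) :
    BData.RegPair G V := by
  classical
  haveI : Finite (AddMonoid.End V) := Finite.of_injective _ DFunLike.coe_injective
  -- a maximal abelian normal subgroup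
  obtain ⟨N, ⟨hNn, hNab⟩, hNmax⟩ : ∃ N : Subgroup G,
      (N.Normal ∧ ∀ x ∈ N, ∀ y ∈ N, x * y = y * x) ∧
      ∀ M : Subgroup G, (M.Normal ∧ ∀ x ∈ M, ∀ y ∈ M, x * y = y * x) → N ≤ M → M ≤ N := by
    haveI : Nonempty {M : Subgroup G // M.Normal ∧ ∀ x ∈ M, ∀ y ∈ M, x * y = y * x} :=
      ⟨⟨⊥, inferInstance, fun x hx y hy => by
        rw [Subgroup.mem_bot] at hx hy; rw [hx, hy]⟩⟩
    obtain ⟨N, hN⟩ := Finite.exists_max
      (fun M : {M : Subgroup G // M.Normal ∧ ∀ x ∈ M, ∀ y ∈ M, x * y = y * x} => Nat.card M.1)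
    exact ⟨N.1, N.2, fun M hM hle => (Subgroup.eq_of_le_of_card_ge hle (hN ⟨M, hM⟩)).ge⟩
  -- the field
  let gen : Set (AddMonoid.End V) :=
    Set.range fun x : N => (((x : G) : (AddMonoid.End V)ˣ) : AddMonoid.End V)
  let R : Subring (AddMonoid.End V) := Subring.closure gen
  have hgen : ∀ x ∈ gen, ∀ y ∈ gen, x * y = y * x := by
    rintro _ ⟨x, rfl⟩ _ ⟨y, rfl⟩
    exact congrArg (fun z : G => ((z : (AddMonoid.End V)ˣ) : AddMonoid.End V)) (hNab x x.2 y y.2)
  have hcomm : ∀ a ∈ R, ∀ b ∈ R, a * b = b * a := by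
    have h1 : ∀ a ∈ gen, ∀ b ∈ R, a * b = b * a := fun a ha b hb =>
      ((Subring.closure_le (t := Subring.centralizer {a})).mpr (fun c hc => by
        rw [SetLike.mem_coe, Subring.mem_centralizer_iff]
        rintro d rfl
        exact hgen d ha c hc) hb) a rfl
    exact fun a ha b hb => ((Subring.closure_le (t := Subring.centralizer {b})).mpr (fun c hc => by
        rw [SetLike.mem_coe, Subring.mem_centralizer_iff]
        rintro d rfl
        exact (h1 c hc d hb).symm) ha b rfl).symm
  -- invariance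
  let cj : G → (AddMonoid.End V →+* AddMonoid.End V) := fun g =>
    { toFun := fun a => ((g : (AddMonoid.End V)ˣ) : AddMonoid.End V) * a *
        ((g : (AddMonoid.End V)ˣ)⁻¹ : (AddMonoid.End V)ˣ)
      map_one' := by rw [mul_one, Units.mul_inv]
      map_mul' := fun a b => by simp only [mul_assoc, Units.inv_mul_cancel_left]
      map_zero' := by rw [mul_zero, zero_mul]
      map_add' := fun a b => by rw [mul_add, add_mul] }
  have hinv : ∀ g : G, ∀ a ∈ R, cj g a ∈ R := fun g a ha =>
    ((Subring.closure_le (t := R.comap (cj g))).mpr (by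
      rintro _ ⟨x, rfl⟩
      exact Subring.subset_closure ⟨⟨g * (x : G) * g⁻¹, hNn.conj_mem x x.2 g⟩, rfl⟩) ha :)
  have hcj : ∀ (g : G) (a : AddMonoid.End V) (v : V), g • a v = cj g a (g • v) := fun g a v => by
    show _ = ((g : (AddMonoid.End V)ˣ) : AddMonoid.End V)
      (a ((g⁻¹ : G) • (g • v)))
    rw [inv_smul_smul]
    rfl
  have hcj1 : ∀ (g : G) a, ((g : (AddMonoid.End V)ˣ) : AddMonoid.End V) * a =
      cj g a * ((g : (AddMonoid.End V)ˣ) : AddMonoid.End V) := fun g a =>
    (Units.inv_mul_cancel_right _ _).symm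
  -- no nilpotent elements
  have hred : ∀ a ∈ R, IsNilpotent a → a = 0 := by
    let M : AddSubgroup V :=
      { carrier := {v | ∀ a ∈ R, IsNilpotent a → a v = 0}
        zero_mem' := fun a _ _ => map_zero a
        add_mem' := fun {x y} hx hy a ha hn => by rw [map_add, hx a ha hn, hy a ha hn, add_zero]
        neg_mem' := fun {x} hx a ha hn => by rw [map_neg, hx a ha hn, neg_zero] }
    rcases hirr M (by
      intro g hg v hv a ha hn
      have h1 := hcj ⟨g, hg⟩⁻¹ a (g • v)
      rw [show (⟨g, hg⟩⁻¹ : G) • g • v = v from inv_smul_smul (⟨g, hg⟩ : G) v] at h1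
      rw [hv _ (hinv _ a ha) (hn.map (cj _))] at h1
      rwa [inv_smul_eq_iff, smul_zero] at h1) with h | h
    · exfalso
      haveI : Nonempty {v : V // v ≠ 0} := ⟨⟨_, (exists_ne (0 : V)).choose_spec⟩⟩
      obtain ⟨⟨v, hv0⟩, hmin⟩ :=
        Finite.exists_min (fun v : {v : V // v ≠ 0} => Nat.card (Set.range fun a : R => a.1 v.1))
      refine hv0 ((AddSubgroup.eq_bot_iff_forall M).mp h v fun b hb hn => ?_)
      by_contra hbv
      have hsub : Set.range (fun a : R => a.1 (b v)) ⊆ Set.range (fun a : R => a.1 v) := by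
        rintro _ ⟨a, rfl⟩
        exact ⟨a * ⟨b, hb⟩, rfl⟩
      have he := Set.eq_of_subset_of_ncard_le hsub (by
        rw [← Nat.card_coe_set_eq, ← Nat.card_coe_set_eq]
        exact hmin ⟨b v, hbv⟩) (Set.toFinite _)
      obtain ⟨⟨c, hc⟩, hcv⟩ : v ∈ Set.range (fun a : R => a.1 (b v)) := by
        rw [he]; exact ⟨1, rfl⟩
      obtain ⟨u, hu⟩ : IsUnit (1 - c * b) :=
        ((show Commute c b from hcomm c hc b hb).isNilpotent_mul_left hn).isUnit_one_sub
      have h0 : (u : AddMonoid.End V) v = 0 := by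
        rw [hu]
        show v - c (b v) = 0
        rw [show c (b v) = v from hcv, sub_self]
      apply hv0
      have := congrArg (fun x : V => ((u⁻¹ : (AddMonoid.End V)ˣ) : AddMonoid.End V) x) h0
      simp only [map_zero] at this
      rw [← this]
      exact (DFunLike.congr_fun u.inv_mul v).symm
    · exact fun a ha hn => DFunLike.ext _ _ fun v =>
        (h ▸ AddSubgroup.mem_top v : v ∈ M) a ha hn
  -- no idempotents
  have hidem : ∀ e ∈ R, e * e = e → e = 0 ∨ e = 1 := by
    intro e he hee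
    by_contra hcon
    simp only [not_or] at hcon
    let P : AddMonoid.End V → Prop := fun f => f ∈ R ∧ f * f = f ∧ f ≠ 0 ∧
      ∀ x ∈ R, x * x = x → x ≠ 0 → f * x = x → x = f
    let ι := {f : Fin (Nat.card (AddMonoid.End V)) // P ((Finite.equivFin _).symm f)}
    let p : ι → AddMonoid.End V := fun f => (Finite.equivFin _).symm f.1
    have hp : ∀ f, P (p f) := fun f => f.2
    have hsurj : ∀ f, P f → ∃ i, p i = f := fun f hf =>
      ⟨⟨Finite.equivFin _ f, by simpa using hf⟩, by simp [p]⟩
    have horth : ∀ i j : ι, i ≠ j → p i * p j = 0 := by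
      intro i j hij
      by_contra hne
      obtain ⟨hi, hii, -, himin⟩ := hp i
      obtain ⟨hj, hjj, -, hjmin⟩ := hp j
      have hc : p i * p j = p j * p i := hcomm _ hi _ hj
      have hid : p i * p j * (p i * p j) = p i * p j := by
        calc p i * p j * (p i * p j) = p i * (p j * p i) * p j := by simp only [mul_assoc]
          _ = p i * p i * (p j * p j) := by rw [← hc]; simp only [mul_assoc]
          _ = p i * p j := by rw [hii, hjj]
      have e1 := himin _ (R.mul_mem hi hj) hid hne (by rw [← mul_assoc, hii])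
      have e2 := hjmin _ (R.mul_mem hi hj) hid hne (by
        rw [← mul_assoc, ← hc, mul_assoc, hjj])
      refine hij (Subtype.ext ?_)
      exact (Finite.equivFin (AddMonoid.End V)).symm.injective (e1.symm.trans e2)
    have hid : ∀ i, p i * p i = p i := fun i => (hp i).2.1
    haveI : Nonempty ι := by
      haveI : Nonempty {f : AddMonoid.End V // f ∈ R ∧ f * f = f ∧ f ≠ 0} :=
        ⟨⟨e, he, hee, hcon.1⟩⟩
      obtain ⟨⟨f, hf, hff, hf0⟩, hfmin⟩ :=
        Finite.exists_min (fun f : {f : AddMonoid.End V // f ∈ R ∧ f * f = f ∧ f ≠ 0} =>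
          Nat.card (Set.range f.1))
      refine ⟨(hsurj f ⟨hf, hff, hf0, fun x hx hxx hx0 hfx => ?_⟩).choose⟩
      have hsub : Set.range x ⊆ Set.range f := by
        rintro _ ⟨v, rfl⟩
        exact ⟨x v, DFunLike.congr_fun hfx v⟩
      have heq := Set.eq_of_subset_of_ncard_le hsub (by
        rw [← Nat.card_coe_set_eq, ← Nat.card_coe_set_eq]
        exact hfmin ⟨x, hx, hxx, hx0⟩) (Set.toFinite _)
      refine DFunLike.ext _ _ fun v => ?_
      obtain ⟨w, hw⟩ : f v ∈ Set.range x := heq ▸ ⟨v, rfl⟩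
      have h1 : x (f v) = f v := by rw [← hw]; exact DFunLike.congr_fun hxx w
      rw [← h1]
      show x v = (x * f) v
      rw [hcomm x hx f hf, hfx]
    haveI : Fintype ι := Fintype.ofFinite ι
    have hact : ∀ (g : G) (i : ι), ∃ j, ((g : (AddMonoid.End V)ˣ) : AddMonoid.End V) * p i =
        p j * ((g : (AddMonoid.End V)ˣ) : AddMonoid.End V) := by
      intro g i
      obtain ⟨h1, h2, h3, h4⟩ := hp i
      have hback : ∀ a, cj g⁻¹ (cj g a) = a := fun a => by
        simp [cj, mul_assoc]
      obtain ⟨j, hj⟩ := hsurj (cj g (p i)) ⟨hinv g _ h1, by rw [← map_mul, h2],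
        fun h => h3 (by rw [← hback (p i), h, map_zero]), fun x hx hxx hx0 hfx => by
          have := h4 (cj g⁻¹ x) (hinv _ x hx) (by rw [← map_mul, hxx]) (fun h => hx0 (by
            have h' : cj g (cj g⁻¹ x) = x := by simp [cj, mul_assoc]
            rw [← h', h, map_zero])) (by rw [← hback (p i), ← map_mul, hfx])
          rw [← this]
          simp [cj, mul_assoc]⟩
      exact ⟨j, by rw [hj, hcj1]⟩
    let s := ∑ i, p i
    have hps : ∀ i, p i * s = p i := fun i => by
      rw [Finset.mul_sum, Finset.sum_eq_single i (fun j _ hj => horth i j (Ne.symm hj))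
        (fun h => absurd (Finset.mem_univ i) h), hid]
    have hs1 : s = 1 := by
      refine idem_eq_one hirr ?_ (fun h => ?_) (fun g hg => ?_)
      · rw [Finset.sum_mul]; exact Finset.sum_congr rfl fun i _ => hps i
      · obtain ⟨i⟩ := (inferInstance : Nonempty ι)
        exact (hp i).2.2.1 (by rw [← hps i, h, mul_zero])
      · choose j hj using hact ⟨g, hg⟩
        have hjinj : Function.Injective j := fun a b e => by
          have h := (hj a).trans ((congrArg (fun l => p l * (g : AddMonoid.End V)) e).trans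
            (hj b).symm)
          exact Subtype.ext ((Finite.equivFin (AddMonoid.End V)).symm.injective
            ((Units.mul_right_inj g).mp h))
        rw [Finset.mul_sum, Finset.sum_mul]
        exact Fintype.sum_bijective j hjinj.bijective_of_finite _ _ hj
    have h2 : 2 ≤ Fintype.card ι := by
      by_contra hlt
      have : Subsingleton ι := Fintype.card_le_one_iff_subsingleton.mp (by omega)
      obtain ⟨i⟩ := (inferInstance : Nonempty ι)
      have hone : p i = 1 := by
        rw [← hs1]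
        exact (Finset.sum_eq_single i (fun j _ hj => absurd (Subsingleton.elim j i) hj)
          (fun h => absurd (Finset.mem_univ i) h)).symm
      exact hcon.2 (((hp i).2.2.2 e he hee hcon.1 (by rw [hone, one_mul])).trans hone)
    exact (hno _ h2).false ((⟨p, hs1, horth, fun i => (hp i).2.2.1,
      fun g hg i => hact ⟨g, hg⟩ i⟩ : Decomp G ι).reindex (Fintype.equivFin ι).symm)
  -- so `R` is a field
  letI : CommRing R := { R.toRing with mul_comm := fun a b => Subtype.ext (hcomm a a.2 b b.2) }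
  haveI : Nontrivial (AddMonoid.End V) := ⟨1, 0, fun h => by
    obtain ⟨v, hv⟩ := exists_ne (0 : V)
    exact hv (DFunLike.congr_fun h v)⟩
  haveI : Nontrivial R := ⟨1, 0, fun h => by
    obtain ⟨v, hv⟩ := exists_ne (0 : V)
    exact hv (DFunLike.congr_fun (congrArg Subtype.val h) v)⟩
  have hfield : IsField R := by
    refine ⟨⟨1, 0, one_ne_zero⟩, mul_comm, fun {a} ha => ?_⟩
    obtain ⟨i, j, hne, hij⟩ := Finite.exists_ne_map_eq_of_infinite (fun n : ℕ => a ^ n)
    wlog hlt : i < j generalizing i j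
    · exact this j i (Ne.symm hne) hij.symm (by omega)
    replace hij : a ^ i = a ^ j := hij
    obtain ⟨d, rfl⟩ := Nat.exists_eq_add_of_lt hlt
    have hper : ∀ q t, a ^ (i + q + (d + 1) * t) = a ^ (i + q) := by
      intro q t
      induction t with
      | zero => simp
      | succ t ih =>
        rw [show i + q + (d + 1) * (t + 1) = (i + d + 1) + (q + (d + 1) * t) by ring, pow_add,
          ← hij, ← pow_add, ← add_assoc, ih]
    let N0 := (d + 1) * (i + 1)
    have hN : a ^ N0 * a ^ N0 = a ^ N0 := by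
      have hle : i ≤ N0 := le_trans (Nat.le_succ i) (Nat.le_mul_of_pos_left _ (Nat.succ_pos d))
      rw [← pow_add, show N0 + N0 = i + (N0 - i) + (d + 1) * (i + 1) by
        show N0 + N0 = i + (N0 - i) + N0; omega, hper, Nat.add_sub_cancel' hle]
    rcases hidem _ (a ^ N0).2 (congrArg Subtype.val hN) with h | h
    · exact absurd (Subtype.ext (hred a.1 a.2 ⟨N0, by rw [← SubmonoidClass.coe_pow]; exact h⟩)) ha
    · refine ⟨a ^ (N0 - 1), Subtype.ext ?_⟩
      have hpos : 0 < N0 := Nat.mul_pos (Nat.succ_pos _) (Nat.succ_pos _)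
      rw [← pow_succ', Nat.sub_add_cancel hpos, h]
      rfl
  letI : Field R := hfield.toField
  haveI : Fact p.Prime := ⟨hp⟩
  haveI : CharP R p := by
    obtain ⟨q, hq⟩ := CharP.exists R
    haveI := hq
    have h0 : ((p : ℕ) : R) = 0 := ?_
    · rcases (Nat.dvd_prime hp).mp ((CharP.cast_eq_zero_iff R q p).mp h0) with rfl | rfl
      · exact absurd rfl (CharP.char_ne_one R 1)
      · exact hq
    refine Subtype.ext (DFunLike.ext _ _ fun v => ?_)
    show ((p : R) : AddMonoid.End V) v = 0
    rw [SubringClass.coe_natCast, AddMonoid.End.natCast_apply, hpV]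
  have hunitsmem : ∀ u : Rˣ, (Units.map R.subtype.toMonoidHom u : (AddMonoid.End V)ˣ) ∈ G := by
    let K : Subgroup (AddMonoid.End V)ˣ := (Units.map R.subtype.toMonoidHom).range
    have hGK : G ≤ Subgroup.normalizer (K : Set (AddMonoid.End V)ˣ) := by
      intro g hg
      rw [Subgroup.mem_normalizer_iff]
      have hfw : ∀ (g : G) (x : (AddMonoid.End V)ˣ), x ∈ K →
          (g : (AddMonoid.End V)ˣ) * x * (g : (AddMonoid.End V)ˣ)⁻¹ ∈ K := by
        rintro g _ ⟨u, rfl⟩
        refine ⟨⟨⟨cj g u.1.1, hinv g _ u.1.2⟩, ⟨cj g u⁻¹.1.1, hinv g _ u⁻¹.1.2⟩, ?_, ?_⟩,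
          Units.ext rfl⟩
        · refine Subtype.ext ?_
          show cj g u.1.1 * cj g u⁻¹.1.1 = 1
          rw [← map_mul, ← Subring.coe_mul, u.mul_inv, Subring.coe_one, map_one]
        · refine Subtype.ext ?_
          show cj g u⁻¹.1.1 * cj g u.1.1 = 1
          rw [← map_mul, ← Subring.coe_mul, u.inv_mul, Subring.coe_one, map_one]
      intro x
      refine ⟨hfw ⟨g, hg⟩ x, fun hx => ?_⟩
      have := hfw ⟨g⁻¹, G.inv_mem hg⟩ _ hx
      simpa [mul_assoc] using this
    have hsolK : Group.IsSolvable (G ⊔ K : Subgroup (AddMonoid.End V)ˣ) := by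
      haveI hKn : (K.subgroupOf (G ⊔ K)).Normal :=
        Subgroup.normal_subgroupOf_of_le_normalizer (sup_le hGK Subgroup.le_normalizer)
      haveI : Group.IsSolvable (K.subgroupOf (G ⊔ K)) := by
        refine Group.isSolvable_of_comm fun a b => ?_
        refine Subtype.ext (Subtype.ext ?_)
        obtain ⟨u, hu⟩ := a.2
        obtain ⟨w, hw⟩ := b.2
        show a.1.1 * b.1.1 = b.1.1 * a.1.1
        rw [show a.1.1 = _ from hu.symm, show b.1.1 = _ from hw.symm, ← map_mul, ← map_mul,
          mul_comm]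
      haveI := hsol
      let q : G →* (G ⊔ K : Subgroup (AddMonoid.End V)ˣ) ⧸ K.subgroupOf (G ⊔ K) :=
        (QuotientGroup.mk' _).comp (Subgroup.inclusion le_sup_left)
      have hq : Function.Surjective q := by
        intro y
        obtain ⟨x, rfl⟩ := QuotientGroup.mk'_surjective _ y
        obtain ⟨g, hg, k, hk, e⟩ : ∃ g ∈ G, ∃ k ∈ K, g * k = x.1 := by
          have : x.1 ∈ ((G ⊔ K : Subgroup _) : Set (AddMonoid.End V)ˣ) := x.2
          rw [Subgroup.coe_mul_of_left_le_normalizer_right G K hGK] at this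
          obtain ⟨g, hg, k, hk, e⟩ := this
          exact ⟨g, hg, k, hk, e⟩
        refine ⟨⟨g, hg⟩, ?_⟩
        refine (QuotientGroup.eq).mpr ?_
        rw [Subgroup.mem_subgroupOf]
        simp [← e, hk]
      haveI : Group.IsSolvable ((G ⊔ K : Subgroup (AddMonoid.End V)ˣ) ⧸ K.subgroupOf (G ⊔ K)) :=
        Group.isSolvable_of_surjective hq
      exact Group.isSolvable_of_ker_le_range (K.subgroupOf (G ⊔ K)).subtype
        (QuotientGroup.mk' (K.subgroupOf (G ⊔ K))) (by simp)
    have hpK : ¬ p ∣ Nat.card (G ⊔ K : Subgroup (AddMonoid.End V)ˣ) := by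
      intro hd
      haveI hKn : (K.subgroupOf (G ⊔ K)).Normal :=
        Subgroup.normal_subgroupOf_of_le_normalizer (sup_le hGK Subgroup.le_normalizer)
      rw [Subgroup.card_eq_card_quotient_mul_card_subgroup (K.subgroupOf (G ⊔ K))] at hd
      rcases hp.dvd_mul.mp hd with h | h
      · exact hG (h.trans (Subgroup.card_dvd_of_surjective
          ((QuotientGroup.mk' (K.subgroupOf (G ⊔ K))).comp (Subgroup.inclusion le_sup_left))
          (fun y => by
            obtain ⟨x, rfl⟩ := QuotientGroup.mk'_surjective _ y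
            obtain ⟨g, hg, k, hk, e⟩ : ∃ g ∈ G, ∃ k ∈ K, g * k = x.1 := by
              have : x.1 ∈ ((G ⊔ K : Subgroup _) : Set (AddMonoid.End V)ˣ) := x.2
              rw [Subgroup.coe_mul_of_left_le_normalizer_right G K hGK] at this
              obtain ⟨g, hg, k, hk, e⟩ := this
              exact ⟨g, hg, k, hk, e⟩
            refine ⟨⟨g, hg⟩, QuotientGroup.eq.mpr ?_⟩
            rw [Subgroup.mem_subgroupOf]
            simp [← e, hk])))
      · rw [Nat.card_congr (Subgroup.subgroupOfEquivOfLe (le_sup_right (a := G))).toEquiv] at h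
        have h2 : p ∣ Nat.card R - 1 := by
          rw [← Nat.card_units]
          exact h.trans (Subgroup.card_range_dvd _)
        obtain ⟨n, -, hn⟩ : ∃ n : ℕ, 0 < n ∧ Nat.card R = p ^ n := by
          haveI : Fintype R := Fintype.ofFinite R
          obtain ⟨n, -, hn⟩ := FiniteField.card R p
          exact ⟨n, n.pos, by rw [Nat.card_eq_fintype_card, hn]⟩
        rw [hn] at h2
        rcases Nat.eq_zero_or_pos n with rfl | hn0
        · have := Finite.one_lt_card (α := R)
          rw [hn, pow_zero] at this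
          exact lt_irrefl 1 this
        · have h3 := Nat.dvd_sub (dvd_pow_self p hn0.ne') h2
          rw [Nat.sub_sub_self (Nat.one_le_pow _ _ hp.pos)] at h3
          exact hp.one_lt.ne' (Nat.dvd_one.mp h3)
    exact fun u => hmax _ le_sup_left hsolK hpK (Subgroup.mem_sup_right ⟨u, rfl⟩)
  let σ : G →* (R ≃+* R) :=
    { toFun := fun g =>
        { toFun := fun a => ⟨cj g a.1, hinv g _ a.2⟩
          invFun := fun a => ⟨cj g⁻¹ a.1, hinv g⁻¹ _ a.2⟩
          left_inv := fun a => Subtype.ext (by simp [cj, mul_assoc])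
          right_inv := fun a => Subtype.ext (by simp [cj, mul_assoc])
          map_mul' := fun a b => Subtype.ext (map_mul (cj g) _ _)
          map_add' := fun a b => Subtype.ext (map_add (cj g) _ _) }
      map_one' := RingEquiv.ext fun a => Subtype.ext (by simp [cj])
      map_mul' := fun g h => RingEquiv.ext fun a => Subtype.ext (by simp [cj, mul_assoc]) }
  let S : Semi R V G :=
    { σ := σ
      smul_smul' := fun g c v => hcj g c.1 v
      sc := (Units.map R.subtype.toMonoidHom).codRestrict G hunitsmem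
      sc_smul := fun c v => rfl
      faithful := fun g h => Subtype.ext (Units.ext (DFunLike.ext _ _ h))
      nonzero := exists_ne 0
      max_abelian := by
        intro M hMn hMab hMsc x hx
        have hNM : N ≤ M := by
          intro y hy
          let u : R := ⟨((y : (AddMonoid.End V)ˣ) : AddMonoid.End V),
            Subring.subset_closure ⟨⟨y, hy⟩, rfl⟩⟩
          have hu : u ≠ 0 := fun h => by
            have := congrArg Subtype.val h
            exact (y : (AddMonoid.End V)ˣ).ne_zero this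
          have := hMsc (Units.mk0 u hu)
          convert this using 1
          exact Subtype.ext (Units.ext rfl)
        have hxN := hNmax M ⟨hMn, hMab⟩ hNM hx
        let u : R := ⟨((x : (AddMonoid.End V)ˣ) : AddMonoid.End V),
          Subring.subset_closure ⟨⟨x, hxN⟩, rfl⟩⟩
        have hu : u ≠ 0 := fun h => (x : (AddMonoid.End V)ˣ).ne_zero (congrArg Subtype.val h)
        exact ⟨Units.mk0 u hu, Subtype.ext (Units.ext rfl)⟩ }
  exact Semi.regPair S hsol hp hp2 hG

/-- Pairs from a regular one. -/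
theorem pairs_of_regPair {p K : ℕ} (hp : p.Prime) (hKp : K ≤ p) [Nontrivial V]
    (hpV : ∀ v : V, p • v = 0) {G : Subgroup (AddMonoid.End V)ˣ} (hG : ¬ p ∣ Nat.card G)
    (h : BData.RegPair G V) : PairBase K G := by
  obtain ⟨v, w, hvw, hv⟩ : ∃ v w : V, (∀ g : G, g • v = v → g • w = w → g = 1) ∧ v ≠ 0 := by
    obtain ⟨v, w, hvw⟩ := h
    by_cases hv : v = 0
    · obtain ⟨u, hu⟩ := exists_ne (0 : V)
      exact ⟨u, w, fun g _ h2 => hvw g (by rw [hv, smul_zero]) h2, hu⟩
    · exact ⟨v, w, hvw, hv⟩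
  refine ⟨fun t => (v, w + (t : ℕ) • v), fun i j g e => ?_⟩
  simp only [Prod.smul_mk, Prod.mk.injEq] at e
  obtain ⟨e1, e2⟩ := e
  obtain ⟨c, hc⟩ : ∃ c : ℤ, c = (j : ℕ) - (i : ℕ) := ⟨_, rfl⟩
  have hw : g • w = w + c • v := by
    rw [smul_add, smul_comm g (i : ℕ) v, e1] at e2
    rw [hc, sub_smul, natCast_zsmul, natCast_zsmul, eq_sub_of_add_eq e2, add_sub_assoc]
  have hit : ∀ n : ℕ, g ^ n • w = w + ((n : ℤ) * c) • v := by
    intro n
    induction n with
    | zero => simp
    | succ n ih =>
      rw [pow_succ', mul_smul, ih, smul_add, hw, smul_comm g ((n : ℤ) * c) v, e1, add_assoc,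
        ← add_smul]
      push_cast
      ring_nf
  have h1 := hit (orderOf g)
  rw [pow_orderOf_eq_one, one_smul, left_eq_add, ← addOrderOf_dvd_iff_zsmul_eq_zero,
    addOrderOf_eq_prime (hp := ⟨hp⟩) (hpV v) hv] at h1
  rcases Int.Prime.dvd_mul' hp h1 with h2 | h2
  · exact absurd ((Int.natCast_dvd_natCast.mp h2).trans (orderOf_dvd_natCard g)) hG
  · have hc0 : c = 0 := by
      obtain ⟨d, hd⟩ := h2
      have hi := i.2
      have hj := j.2
      rcases lt_trichotomy d 0 with h | h | h
      · nlinarith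
      · rw [hd, h, mul_zero]
      · nlinarith
    refine ⟨Fin.ext (by omega), hvw g e1 ?_⟩
    rw [hw, hc0, zero_smul, add_zero]

theorem pairBase_mono {K : ℕ} {G H : Subgroup (AddMonoid.End V)ˣ} (h : G ≤ H)
    (hb : PairBase K H) : PairBase K G := by
  obtain ⟨f, hf⟩ := hb
  refine ⟨f, fun i j g hg => ?_⟩
  obtain ⟨h1, h2⟩ := hf i j ⟨g, h g.2⟩ hg
  exact ⟨h1, Subtype.ext (congrArg Subtype.val h2 :)⟩

theorem pairBelow {p K : ℕ} (hp : p.Prime) (hp2 : p ≠ 2) (hK : (p = 3 ∧ K = 3) ∨ (5 ≤ p ∧ K = 5)) :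
    ∀ n, PairBelow p K n := by
  intro n
  induction n using Nat.strong_induction_on with
  | _ n ih =>
    intro W _ _ _ H hW hsol hirr hpW hH
    classical
    have hbelow : PairBelow p K (Nat.card W) := ih _ hW
    by_cases hno : NoDecomp H
    · haveI : Finite (AddMonoid.End W) := Finite.of_injective _ DFunLike.coe_injective
      haveI : Nonempty {L : Subgroup (AddMonoid.End W)ˣ //
          H ≤ L ∧ Group.IsSolvable L ∧ ¬ p ∣ Nat.card L} := ⟨⟨H, le_rfl, hsol, hH⟩⟩
      obtain ⟨⟨L, hHL, hL, hLp⟩, hmax⟩ := Finite.exists_max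
        (fun L : {L : Subgroup (AddMonoid.End W)ˣ // H ≤ L ∧ Group.IsSolvable L ∧
          ¬ p ∣ Nat.card L} => Nat.card L.1)
      refine pairBase_mono hHL (pairs_of_regPair hp (by omega) hpW hLp
        (regPair_of_max hp hp2 hpW hL hLp (irr_mono hHL hirr) (noDecomp_mono hHL hno)
          fun L' hle hL' hp' => (Subgroup.eq_of_le_of_card_ge hle
            (hmax ⟨L', hHL.trans hle, hL', hp'⟩)).ge))
    · have hex : ∃ m, 2 ≤ m ∧ Nonempty (Decomp H (Fin m)) := by
        simpa [NoDecomp, not_isEmpty_iff] using hno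
      obtain ⟨h2, ⟨d⟩⟩ := Nat.find_spec hex
      exact pairs_of_decomp hsol hpW hH (hK.imp_right And.right) hirr h2 d
        (fun m' hm' hlt => ⟨fun d' => Nat.find_min hex hlt ⟨hm', ⟨d'⟩⟩⟩) hbelow

section
variable {A : Type*} [Group A] [DistribMulAction A V]

/-- Completely reducible modules, one invariant subgroup at a time. -/
theorem exists_pair_le [Finite A] {p : ℕ} (hp : p.Prime) (hp2 : p ≠ 2) (hpV : ∀ v : V, p • v = 0)
    (hAp : ¬ p ∣ Nat.card A) (hA : Group.IsSolvable A)
    (hcr : ∀ U : AddSubgroup V, (∀ a : A, ∀ v ∈ U, a • v ∈ U) →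
      ∃ W : AddSubgroup V, (∀ a : A, ∀ w ∈ W, a • w ∈ W) ∧ U ⊓ W = ⊥ ∧ U ⊔ W = ⊤) :
    ∀ (n : ℕ) (W : AddSubgroup V), Nat.card W = n → (∀ a : A, ∀ v ∈ W, a • v ∈ W) →
      ∃ v₁ ∈ W, ∃ v₂ ∈ W, ∀ a : A,
        a • v₁ = v₁ → a • v₂ = v₂ → ∀ v ∈ W, a • v = v := by
  intro n
  induction n using Nat.strong_induction_on with
  | _ n ih =>
    intro W hn hWinv
    classical
    by_cases hW : W = ⊥
    · subst hW
      exact ⟨0, zero_mem _, 0, zero_mem _, fun a _ _ v hv => by
        rw [AddSubgroup.mem_bot.mp hv, smul_zero]⟩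
    -- a minimal invariant subgroup
    haveI : Nonempty {U : AddSubgroup V // U ≤ W ∧ U ≠ ⊥ ∧ ∀ a : A, ∀ v ∈ U, a • v ∈ U} :=
      ⟨⟨W, le_rfl, hW, hWinv⟩⟩
    obtain ⟨⟨U, hUW, hU0, hUinv⟩, hmin⟩ := Finite.exists_min
      (fun U : {U : AddSubgroup V // U ≤ W ∧ U ≠ ⊥ ∧ ∀ a : A, ∀ v ∈ U, a • v ∈ U} => Nat.card U.1)
    haveI : Nontrivial U := (AddSubgroup.nontrivial_iff_ne_bot U).mpr hU0
    let f : A →* AddMonoid.End U :=
      { toFun := fun a =>
          ({ toFun := fun w => ⟨a • (w : V), hUinv a w w.2⟩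
             map_zero' := Subtype.ext (smul_zero _)
             map_add' := fun x y => Subtype.ext (smul_add _ _ _) } : U →+ U)
        map_one' := AddMonoidHom.ext fun w => Subtype.ext (one_smul A (w : V))
        map_mul' := fun a b => AddMonoidHom.ext fun w => Subtype.ext (mul_smul a b (w : V)) }
    let φ : A →* (AddMonoid.End U)ˣ := f.toHomUnits
    have hirr : Irr φ.range := by
      intro M hM
      let M' : AddSubgroup V := M.map U.subtype
      have hle : M' ≤ U := by rintro _ ⟨w, -, rfl⟩; exact w.2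
      have hinv : ∀ a : A, ∀ v ∈ M', a • v ∈ M' := by
        rintro a _ ⟨w, hw, rfl⟩
        exact ⟨φ a • w, hM _ ⟨a, rfl⟩ w hw, rfl⟩
      by_cases h0 : M' = ⊥
      · left
        refine (AddSubgroup.eq_bot_iff_forall M).mpr fun w hw => Subtype.ext ?_
        exact (AddSubgroup.eq_bot_iff_forall M').mp h0 _ ⟨w, hw, rfl⟩
      · right
        have heq : M' = U := AddSubgroup.eq_of_le_of_card_ge hle
          (hmin ⟨M', hle.trans hUW, h0, hinv⟩)
        refine (AddSubgroup.eq_top_iff' M).mpr fun w => ?_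
        obtain ⟨w', hw', e⟩ := (heq.ge w.2 : (w : V) ∈ M')
        rwa [← Subtype.ext (show (w' : V) = w from e)]
    haveI := hA
    obtain ⟨K, hK0, hK⟩ : ∃ K, 0 < K ∧ ((p = 3 ∧ K = 3) ∨ (5 ≤ p ∧ K = 5)) := by
      by_cases h3 : p = 3
      · exact ⟨3, by norm_num, Or.inl ⟨h3, rfl⟩⟩
      · refine ⟨5, by norm_num, Or.inr ⟨?_, rfl⟩⟩
        have := hp.two_le
        rcases (by omega : p = 4 ∨ 5 ≤ p) with rfl | h
        · norm_num at hp
        · exact h
    obtain ⟨fb, hfb⟩ := pairBelow hp hp2 hK (Nat.card U + 1) U φ.range (by omega)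
      (Group.isSolvable_of_surjective φ.rangeRestrict_surjective) hirr
      (fun w => Subtype.ext (by simpa using hpV (w : V)))
      (fun h => hAp (h.trans (Subgroup.card_range_dvd φ)))
    obtain ⟨C, hCinv, hinf, hsup⟩ := hcr U hUinv
    let W' := W ⊓ C
    have hlt : Nat.card W' < n := by
      rw [← hn]
      refine lt_of_le_of_ne (AddSubgroup.card_le_of_le inf_le_left) fun h => hU0 ?_
      have hWC : W ≤ C := (AddSubgroup.eq_of_le_of_card_ge inf_le_left h.ge).ge.trans inf_le_right
      exact le_bot_iff.mp (hinf ▸ le_inf le_rfl (hUW.trans hWC))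
    obtain ⟨w1, hw1, w2, hw2, hw⟩ := ih _ hlt W' rfl
      fun a v hv => ⟨hWinv a v hv.1, hCinv a v hv.2⟩
    let z : Fin K := ⟨0, hK0⟩
    refine ⟨(fb z).1 + w1, W.add_mem (hUW (fb z).1.2) hw1.1, (fb z).2 + w2,
      W.add_mem (hUW (fb z).2.2) hw2.1, ?_⟩
    intro a h1 h2
    have split : ∀ (u : U) (w : V), w ∈ W' → a • ((u : V) + w) = u + w →
        φ a • u = u ∧ a • w = w := by
      intro u w hw h
      rw [smul_add] at h
      have hd : a • (u : V) - u ∈ U ⊓ C := by
        refine ⟨U.sub_mem (hUinv a u u.2) u.2, ?_⟩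
        rw [show a • (u : V) - u = w - a • w by rw [sub_eq_sub_iff_add_eq_add, add_comm w, h]]
        exact C.sub_mem hw.2 (hCinv a w hw.2)
      rw [hinf, AddSubgroup.mem_bot, sub_eq_zero] at hd
      exact ⟨Subtype.ext hd, by rwa [hd, add_right_inj] at h⟩
    obtain ⟨a1, b1⟩ := split _ _ hw1 h1
    obtain ⟨a2, b2⟩ := split _ _ hw2 h2
    have hone := (hfb z z ⟨φ a, a, rfl⟩ (Prod.ext a1 a2)).2
    intro v hv
    obtain ⟨u, hu, c, hc, rfl⟩ := AddSubgroup.mem_sup.mp (hsup ▸ AddSubgroup.mem_top v :)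
    have hcW : c ∈ W := by
      have := W.sub_mem hv (hUW hu)
      rwa [add_sub_cancel_left] at this
    rw [smul_add, hw a b1 b2 c ⟨hcW, hc⟩]
    congr 1
    have := congrArg (fun x => x • (⟨u, hu⟩ : U)) (congrArg Subtype.val hone)
    simp only [OneMemClass.coe_one, one_smul] at this
    exact congrArg Subtype.val this


end

/-- Points of a lowest-universe copy. -/
def Pts (n : ℕ) : Type := Fin n

instance (n : ℕ) : Finite (Pts n) := inferInstanceAs (Finite (Fin n))

/-- **Two vectors with trivial common stabiliser.** -/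
theorem exists_pair {A V : Type*} [Group A] [Finite A] [AddCommGroup V] [Finite V]
    [DistribMulAction A V] [FaithfulSMul A V] (hA : Group.IsSolvable A) {p : ℕ} (hp : p.Prime)
    (hpV : ∀ v : V, p • v = 0) (hAp : ¬ p ∣ Nat.card A) :
    ∃ v w : V, ∀ a : A, a • v = v → a • w = w → a = 1 := by
  haveI : Fact p.Prime := ⟨hp⟩
  have hcr : ∀ U : AddSubgroup V, (∀ a : A, ∀ v ∈ U, a • v ∈ U) →
      ∃ W : AddSubgroup V, (∀ a : A, ∀ w ∈ W, a • w ∈ W) ∧ U ⊓ W = ⊥ ∧ U ⊔ W = ⊤ := by
    intro U hU
    obtain ⟨W, h1, h2, h3⟩ := CoprimeAct.exists_invariant_complement (V := Multiplicative V) p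
      (fun v => Multiplicative.toAdd.injective (hpV _)) hAp
      (fun a => (DistribSMul.toAddMonoidHom V a).toMultiplicative)
      (fun v => Multiplicative.toAdd.injective (one_smul A _))
      (fun a b v => Multiplicative.toAdd.injective (mul_smul a b _))
      (AddSubgroup.toSubgroup U) (fun a v hv => hU a _ hv)
    refine ⟨AddSubgroup.toSubgroup.symm W, fun a v hv => h1 a _ hv, ?_, ?_⟩
    · apply AddSubgroup.toSubgroup.injective
      rw [map_inf, map_bot, OrderIso.apply_symm_apply]; exact h2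
    · apply AddSubgroup.toSubgroup.injective
      rw [map_sup, map_top, OrderIso.apply_symm_apply]; exact h3
  by_cases hp2 : p = 2
  · subst hp2
    exact PairBase.exists_pair (Nat.odd_iff.mpr (by omega)) hA hcr
  -- move to the lowest universe
  obtain ⟨n, ⟨e'⟩⟩ := Finite.exists_equiv_fin V
  let e : V ≃ Pts n := e'
  letI : AddCommGroup (Pts n) := e.symm.addCommGroup
  let E : Pts n ≃+ V :=
    { e.symm with
      map_add' := fun x y => (e.symm_apply_apply (e.symm x + e.symm y) :) }
  letI : DistribMulAction A (Pts n) :=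
    { smul := fun a x => E.symm (a • E x)
      one_smul := fun x => by show E.symm ((1 : A) • E x) = x; rw [one_smul, E.symm_apply_apply]
      mul_smul := fun a b x => by
        show E.symm ((a * b) • E x) = E.symm (a • E (E.symm (b • E x)))
        rw [E.apply_symm_apply, mul_smul]
      smul_zero := fun a => by show E.symm (a • E 0) = 0; rw [map_zero, smul_zero, map_zero]
      smul_add := fun a x y => by
        show E.symm (a • E (x + y)) = E.symm (a • E x) + E.symm (a • E y)
        rw [map_add, smul_add, map_add] }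
  have hE : ∀ (a : A) x, E (a • x) = a • E x := fun a x => E.apply_symm_apply _
  obtain ⟨v, -, w, -, h⟩ := exists_pair_le (V := Pts n) hp hp2
    (fun x => E.injective (by rw [map_nsmul, map_zero, hpV])) hAp hA (fun U hU => by
      obtain ⟨W, hW, h1, h2⟩ := hcr (U.map E.toAddMonoidHom) (by
        rintro a _ ⟨u, hu, rfl⟩
        exact ⟨a • u, hU a u hu, hE a u⟩)
      refine ⟨W.comap E.toAddMonoidHom, fun a x hx => ?_, ?_, ?_⟩
      · show E (a • x) ∈ W
        rw [hE]; exact hW a _ hx
      · apply AddSubgroup.map_injective E.injective (f := E.toAddMonoidHom)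
        rw [AddSubgroup.map_inf _ _ _ E.injective, AddSubgroup.map_bot,
          AddSubgroup.map_comap_eq_self_of_surjective E.surjective]
        exact h1
      · apply AddSubgroup.map_injective E.injective (f := E.toAddMonoidHom)
        rw [AddSubgroup.map_sup, AddSubgroup.map_comap_eq_self_of_surjective E.surjective,
          AddSubgroup.map_top_of_surjective _ E.surjective]
        exact h2)
    _ ⊤ rfl fun _ _ _ => AddSubgroup.mem_top _
  refine ⟨E v, E w, fun a h1 h2 => eq_of_smul_eq_smul fun z : V => ?_⟩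
  have h1' : a • v = v := E.injective (by rw [hE, h1])
  have h2' : a • w = w := E.injective (by rw [hE, h2])
  have := congrArg E (h a h1' h2' (E.symm z) (AddSubgroup.mem_top _))
  rw [hE, E.apply_symm_apply] at this
  rw [one_smul]
  exact this

end Cfsg.Agent.BaseTwo
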