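import Cfsg.Agent.BaseTwo.Step

/-!
# The inductive step for stabilisers and separation, and the conclusion
-/

set_option autoImplicit false
set_option linter.style.haveILetI false
set_option linter.unusedSectionVars false

open Finset

namespace Cfsg.Agent.BaseSize

namespace BData

variable {k V G : Type*} [Field k] [AddCommGroup V] [Module k V] [Group G]
  [DistribMulAction G V] {D : BData k V G} [Finite k] [Finite G] [Finite V]
  {m : ℕ} {F : D.Frame m}

theorem Frame.Fx.com_all {T : Finset (Fin m)} {u u' : V} (hu : F.Fx T u) (hu' : F.Fx T u')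
    (hne : u' ≠ 0) {b : D.B} (h : b • u = u') : ∀ l, l ∉ T → D.com (F.x l) b = 1 :=
  fun l hl => Frame.com_x_of_smul (hu l hl) (hu' l hl) hne h

/-- The image of a three-term vector. -/
theorem Frame.smul_next {n : Fin m} {b f : D.B} {i : ℕ} (hbf : b = F.y n ^ i * f) (v w : V) :
    b • F.next n v w = (F.y n ^ i) • (f • v) +
      (F.y n ^ (1 + i)) • (((D.com b (F.y n) : kˣ) : k) • (f • w)) +
      (F.y n ^ (2 + i)) • ((((D.com b (F.y n) ^ 2 : kˣ)) : k) • (f • F.c2 n w)) := by
  have h : ∀ (s : ℕ) (u : V), b • ((F.y n ^ s) • u) =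
      (F.y n ^ (s + i)) • ((((D.com b (F.y n) ^ s : kˣ)) : k) • (f • u)) := by
    intro s u
    rw [com_spec_smul b (F.y n ^ s) u, D.com_pow_right, D.smul_k, pow_add, mul_smul]
    congr 2
    rw [← mul_smul, ← hbf]
  have h1 : b • (F.y n • w) =
      (F.y n ^ (1 + i)) • (((D.com b (F.y n) : kˣ) : k) • (f • w)) := by
    have := h 1 w
    rwa [pow_one, pow_one] at this
  rw [Frame.next, smul_add, smul_add, h1, h 2]
  congr 2
  rw [← mul_smul, ← hbf]

/-- The third term never meets the position of the first. -/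
theorem Frame.head_third {n : Fin m} {i : ℕ} {e : k} {f : D.B} {w : V} :
    (if ((2 + i : ℕ) : ZMod (F.r n)) = (i : ZMod (F.r n)) then e • (f • F.c2 n w) else 0) = 0 := by
  by_cases hr : F.r n = 2
  · rw [show F.c2 n w = 0 by rw [Frame.c2, if_pos hr], smul_zero, smul_zero, ite_self]
  · rw [if_neg]
    rw [Nat.cast_add]
    intro e1
    exact Frame.two_ne hr (add_eq_right.mp e1)

/-- Elements moving the new vector into a fixed one. -/
theorem Frame.next_ne {T : Finset (Fin m)} {n : Fin m} (hn : n ∉ T) {v w : V} (hv : F.Fx T v)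
    (hw : F.Stab T w) (hv0 : v ≠ 0) (b : D.B) : b • F.next n v w ≠ w := by
  classical
  intro h
  have hcom := Frame.Fx.com_all (hv.next (n := n) hw.2.1) (hw.2.1.mono (Finset.subset_insert n T))
    hw.1 h
  obtain ⟨i, hi⟩ := exists_zmod_index (F := F) (n := n) (b := b)
  obtain ⟨f, hbf, hf⟩ := Frame.shift hcom hi
  have e := (Frame.smul_next hbf v w).symm.trans h
  have e' : _ = (F.y n ^ 0) • w + (F.y n ^ 1) • (0 : V) + (F.y n ^ 2) • (0 : V) :=
    e.trans (by rw [pow_zero, one_smul, smul_zero, smul_zero, add_zero, add_zero])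
  have key := Frame.three_inj hn (hv.smul hf) ((hw.2.1.smul hf).smul_k _)
    (((hw.2.1.c2 n).smul hf).smul_k _) hw.2.1 (Frame.fx_zero T) (Frame.fx_zero T) e'
  have hfv : f • v ≠ 0 := fun e0 => hv0 (by rw [← inv_smul_smul f v, e0, smul_zero])
  have hfw : (((D.com b (F.y n) : kˣ)) : k) • (f • w) ≠ 0 := fun e0 => by
    rcases smul_eq_zero.mp e0 with e1 | e1
    · exact (Units.ne_zero _) e1
    · exact hw.1 (by rw [← inv_smul_smul f w, e1, smul_zero])
  have h12 : ∀ s : ℕ, ((s + 1 : ℕ) : ZMod (F.r n)) ≠ (s : ZMod (F.r n)) := fun s e1 =>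
    Frame.one_ne n (by rw [Nat.cast_add] at e1; exact add_eq_left.mp e1)
  by_cases hi0 : (i : ZMod (F.r n)) = 0
  · -- the position `1` cannot be empty
    have k1 := key ((1 + i : ℕ) : ZMod (F.r n))
    have h01 : ((0 : ℕ) : ZMod (F.r n)) ≠ ((1 + i : ℕ) : ZMod (F.r n)) := by
      rw [Nat.cast_add, hi0, add_zero, Nat.cast_zero]; exact (Frame.one_ne n).symm
    rw [if_neg h01, if_pos rfl, if_neg (fun e1 => h12 i (by rw [add_comm i 1]; exact e1.symm)),
      if_neg (by rw [show 2 + i = (1 + i) + 1 by omega]; exact h12 _)] at k1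
    simp only [ite_self, zero_add, add_zero] at k1
    exact hfw k1
  · have k1 := key (i : ZMod (F.r n))
    have h0i : ((0 : ℕ) : ZMod (F.r n)) ≠ (i : ZMod (F.r n)) := fun e1 =>
      hi0 (by rw [← e1, Nat.cast_zero])
    rw [if_pos rfl, if_neg (by rw [add_comm 1 i]; exact h12 i), Frame.head_third, if_neg h0i] at k1
    simp only [ite_self, add_zero] at k1
    exact hfv k1

theorem Frame.sep_step {T : Finset (Fin m)} {n : Fin m} (hn : n ∉ T) {v w : V} (hv : F.Fx T v)
    (hw : F.Stab T w) (hv0 : v ≠ 0) : F.Sep w (F.next n v w) :=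
  fun b => Frame.next_ne hn hv hw hv0 b

theorem Frame.next_ne_zero {T : Finset (Fin m)} {n : Fin m} (hn : n ∉ T) {v w : V} (hv : F.Fx T v)
    (hw : F.Stab T w) (hv0 : v ≠ 0) : F.next n v w ≠ 0 := by
  classical
  intro h0
  have e : (F.y n ^ 0) • v + (F.y n ^ 1) • w + (F.y n ^ 2) • F.c2 n w =
      (F.y n ^ 0) • (0 : V) + (F.y n ^ 1) • (0 : V) + (F.y n ^ 2) • (0 : V) := by
    simp only [smul_zero, add_zero]
    rw [pow_zero, one_smul, pow_one]
    exact h0
  have k0 := Frame.three_inj hn hv hw.2.1 (hw.2.1.c2 n) (Frame.fx_zero T) (Frame.fx_zero T)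
    (Frame.fx_zero T) e 0
  rw [if_pos Nat.cast_zero, if_neg (Frame.one_ne n)] at k0
  simp only [ite_self, add_zero] at k0
  by_cases hr : F.r n = 2
  · simp only [Frame.c2, hr, if_true, ite_self, add_zero] at k0
    exact hv0 k0
  · rw [if_neg (Frame.two_ne hr), add_zero] at k0
    exact hv0 k0

/-- **The inductive step for stabilisers.** -/
theorem Frame.stab_step {T : Finset (Fin m)} {n : Fin m} (hn : n ∉ T) {v w : V} (hv : F.Fx T v)
    (hw : F.Stab T w) (hv0 : v ≠ 0) (hsep : F.Sep v w) :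
    F.Stab (insert n T) (F.next n v w) := by
  classical
  have hne := Frame.next_ne_zero hn hv hw hv0
  refine ⟨hne, hv.next hw.2.1, fun b h => ?_⟩
  have hcom := Frame.Fx.com_all (hv.next (n := n) hw.2.1) (hv.next hw.2.1) hne h
  obtain ⟨i, hi⟩ := exists_zmod_index (F := F) (n := n) (b := b)
  obtain ⟨f, hbf, hf⟩ := Frame.shift hcom hi
  have e := (Frame.smul_next hbf v w).symm.trans h
  have e' : _ = (F.y n ^ 0) • v + (F.y n ^ 1) • w + (F.y n ^ 2) • F.c2 n w :=
    e.trans (by rw [pow_zero, one_smul, pow_one]; rfl)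
  have key := Frame.three_inj hn (hv.smul hf) ((hw.2.1.smul hf).smul_k _)
    (((hw.2.1.c2 n).smul hf).smul_k _) hv hw.2.1 (hw.2.1.c2 n) e'
  have hfv : f • v ≠ 0 := fun e0 => hv0 (by rw [← inv_smul_smul f v, e0, smul_zero])
  have h12 : ∀ s : ℕ, ((s + 1 : ℕ) : ZMod (F.r n)) ≠ (s : ZMod (F.r n)) := fun s e1 =>
    Frame.one_ne n (by rw [Nat.cast_add] at e1; exact add_eq_left.mp e1)
  have hc2z : ∀ t : ZMod (F.r n), ((2 : ℕ) : ZMod (F.r n)) = ((0 : ℕ) : ZMod (F.r n)) →
      (if t = t then F.c2 n w else 0) = 0 := fun t e1 => by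
    rw [if_pos rfl, Frame.c2, if_pos]
    by_contra hr
    exact Frame.two_ne hr (e1.trans Nat.cast_zero)
  have hi0 : (i : ZMod (F.r n)) = 0 := by
    by_contra hi0
    have k1 := key (i : ZMod (F.r n))
    have h0i : ((0 : ℕ) : ZMod (F.r n)) ≠ (i : ZMod (F.r n)) := fun e1 =>
      hi0 (by rw [← e1, Nat.cast_zero])
    rw [if_pos rfl, if_neg (by rw [add_comm 1 i]; exact h12 i), Frame.head_third, if_neg h0i,
      add_zero, add_zero, zero_add] at k1
    split_ifs at k1 with e1 e2 e3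
    · exact h12 1 (e2.trans e1.symm)
    · rw [add_zero] at k1
      exact hsep f⁻¹ (by rw [← k1, inv_smul_smul])
    · rw [zero_add] at k1
      by_cases hr : F.r n = 2
      · rw [Frame.c2, if_pos hr] at k1
        exact hfv k1
      rw [Frame.c2, if_neg hr] at k1
      refine hsep (f⁻¹ * D.z (-1)) ?_
      rw [mul_smul, D.z_smul, Units.val_neg, Units.val_one, neg_smul, one_smul, ← k1,
        inv_smul_smul]
    · rw [zero_add] at k1
      exact hfv k1
  have hb : b = f := by
    rw [hbf, ← F.y_pow_mod n i, hi0, ZMod.val_zero, pow_zero, one_mul]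
  have k0 := key 0
  have k1 := key ((1 : ℕ) : ZMod (F.r n))
  simp only [Nat.cast_add, hi0, add_zero, Nat.cast_zero, if_true, if_neg (Frame.one_ne n)] at k0
  have hne01 : (0 : ZMod (F.r n)) ≠ ((1 : ℕ) : ZMod (F.r n)) := (Frame.one_ne n).symm
  have hne21 : ((2 : ℕ) : ZMod (F.r n)) ≠ ((1 : ℕ) : ZMod (F.r n)) := h12 1
  simp only [Nat.cast_add, hi0, add_zero, Nat.cast_zero, if_neg hne01, if_neg hne21, if_true,
    zero_add] at k1
  have hfv' : f • v = v := by
    by_cases hr : F.r n = 2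
    · simpa [Frame.c2, hr] using k0
    · simpa only [if_neg (Frame.two_ne hr), add_zero] using k0
  subst hb
  set c := D.com b (F.y n) with hc
  have hχ : D.z c * b ∈ F.Xc T := hw.2.2 _ (by rw [smul_smul_k]; exact k1)
  have hc1 : c = 1 := by
    have e1 : (D.z c * b) • v = v := hv.mem hχ
    rw [smul_smul_k, hfv'] at e1
    exact Units.ext (D.toSemi.smul_eq_imp hv0 (e1.trans (one_smul k v).symm))
  rw [hc1, map_one, one_mul] at hχ
  exact Frame.mem_Xc_insert hχ (hc ▸ hc1)

/-- A pair with all three properties. -/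
structure Ctx.Strong (E : Ctx F) (T : Finset (Fin m)) : Prop where
  ex : ∃ v w : V, v ≠ 0 ∧ F.Fx T v ∧ F.Stab T w ∧ F.Sep v w ∧ E.Reg T v w

variable {E : Ctx F}

theorem Ctx.Strong.extend (h2 : (2 : k) ≠ 0) {T : Finset (Fin m)} (h : E.Strong T) :
    E.Strong Finset.univ := by
  classical
  suffices ∀ S : Finset (Fin m), E.Strong (T ∪ S) by
    have := this Finset.univ
    rwa [Finset.union_eq_right.mpr (Finset.subset_univ T)] at this
  intro S
  induction S using Finset.induction_on with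
  | empty => rwa [Finset.union_empty]
  | @insert n S _ ih =>
    rw [Finset.union_insert]
    by_cases hn : n ∈ T ∪ S
    · rwa [Finset.insert_eq_of_mem hn]
    obtain ⟨v, w, hv0, hv, hw, hsep, hreg⟩ := ih.ex
    exact ⟨w, F.next n v w, hw.1, hw.2.1.mono (Finset.subset_insert n _),
      Frame.stab_step hn hv hw hv0 hsep, Frame.sep_step hn hv hw hv0,
      Ctx.reg_step h2 hn hv hw hreg⟩

/-- A regular pair. -/
def RegPair (G V : Type*) [One G] [SMul G V] : Prop :=
  ∃ v w : V, ∀ g : G, g • v = v → g • w = w → g = 1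

theorem Ctx.regPair_of_reg (hsp : E.InSpan (E.j • E.v1)) {v w : V}
    (h : E.Reg Finset.univ v w) : RegPair G V := by
  classical
  refine ⟨v, w, fun g hgv hgw => ?_⟩
  obtain ⟨hσ, hfix⟩ := h g (Frame.norm_univ g) hgv hgw
  have hfix' : ∀ a : F.L, g • (F.Y a • E.v1) = F.Y a • E.v1 ∧ g • (F.Y a • E.w) = F.Y a • E.w :=
    fun a => hfix a fun i hi => absurd (Finset.mem_univ i) hi
  -- the span of `v1` and `w` is invariant under `C`
  have hC : ∀ c ∈ F.C, E.InSpan (c • E.v1) := by
    intro c hc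
    obtain ⟨-, -, hq⟩ := E.quat
    rcases hq with ⟨-, -, hall⟩ | ⟨hii, -, -, -, hall⟩
    · obtain ⟨u, rfl⟩ := hall c hc
      exact ⟨u, 0, by rw [D.z_smul, zero_smul, add_zero]⟩
    obtain ⟨a, b, hab⟩ := hsp
    have hiw : E.i • E.w = -E.v1 := by
      rw [Ctx.w, ← mul_smul, hii, D.z_smul, Units.val_neg, Units.val_one, neg_smul, one_smul]
    obtain ⟨u, rfl | rfl | rfl | rfl⟩ := hall c hc
    · exact ⟨u, 0, by rw [D.z_smul, zero_smul, add_zero]⟩
    · exact ⟨0, u, by rw [smul_smul_k, zero_smul, zero_add]; rfl⟩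
    · exact ⟨u * a, u * b, by rw [smul_smul_k, hab, smul_add, smul_smul, smul_smul]⟩
    · refine ⟨-((u : k) * b), u * a, ?_⟩
      rw [smul_smul_k, mul_smul, hab, smul_add, D.smul_k, D.smul_k, hiw,
        show E.i • E.v1 = E.w from rfl, smul_add, smul_neg, smul_neg, smul_smul, smul_smul,
        neg_smul]
      abel
  have hgk : ∀ (c : k) (u : V), g • (c • u) = c • (g • u) := fun c u => by
    rw [D.smul_smul', hσ]; rfl
  -- `g` fixes every `b • Y a • v1`
  have hb : ∀ (b : D.B) (a : F.L) (u : V), (u = E.v1 ∨ u = E.w) →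
      g • (b • (F.Y a • u)) = b • (F.Y a • u) := by
    intro b a u hu
    obtain ⟨a', β, c, hc, rfl⟩ := F.decompose b
    have hcu : ∃ p q : k, c • u = p • E.v1 + q • E.w := by
      rcases hu with rfl | rfl
      · exact hC c hc
      · obtain ⟨p, q, h⟩ := hC (c * E.i) (F.C.mul_mem hc E.quat.1)
        exact ⟨p, q, by rw [← h, mul_smul]; rfl⟩
    obtain ⟨p, q, hpq⟩ := hcu
    have e : (F.Y a' * F.Xv β * c) • (F.Y a • u) =
        (((D.com (F.Xv β * c) (F.Y a) : kˣ)) : k) •
          (p • (F.Y (a' + a) • E.v1) + q • (F.Y (a' + a) • E.w)) := by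
      rw [mul_assoc, mul_smul, com_spec_smul (F.Xv β * c), mul_smul, hpq]
      simp only [smul_add, D.smul_k, E.hX.Xv β, E.w_fixed.Xv β, F.Y_add, mul_smul]
    rw [e, hgk, smul_add, hgk, hgk, (hfix' (a' + a)).1, (hfix' (a' + a)).2]
  have hcent : ∀ b : D.B, g * (b : G) = b * g := by
    intro b
    have hd : ∀ a, cj g b • (F.Y a • E.v1) = b • (F.Y a • E.v1) := fun a => by
      conv_lhs => rw [← (hfix' a).1, ← cj_smul, hb b a _ (Or.inl rfl)]
    set d := b⁻¹ * cj g b with hdd
    have hd' : ∀ a, d • (F.Y a • E.v1) = F.Y a • E.v1 := fun a => by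
      rw [hdd, mul_smul, hd, inv_smul_smul]
    obtain ⟨β, hβ⟩ := E.stab_v1 (b := d) (by
      have := hd' 0
      rwa [F.Y_zero, one_smul] at this)
    have hβ0 : β = 0 := by
      funext n
      refine F.pow_val_inj n ?_
      rw [Pi.zero_apply, ZMod.val_zero, pow_zero, ← F.com_Xv_y, ← F.Y_single]
      have e := hd' (Pi.single n 1)
      rw [hβ, com_spec_smul, E.hX.Xv β] at e
      refine Units.ext (D.toSemi.smul_eq_imp ?_ (e.trans (one_smul k _).symm))
      intro e0
      exact E.hv1 (by rw [← inv_smul_smul (F.Y (Pi.single n 1)) E.v1, e0, smul_zero])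
    rw [hβ0, F.Xv_zero, hdd, inv_mul_eq_one] at hβ
    have := congrArg Subtype.val hβ
    exact mul_inv_eq_iff_eq_mul.mp this.symm
  obtain ⟨u, rfl⟩ := D.cent g (D.toSemi.mem_lin.mpr hσ) fun b hb => hcent ⟨b, hb⟩
  have := (hfix' 0).1
  rw [F.Y_zero, one_smul, D.sc_smul] at this
  rw [show u = 1 from Units.ext (D.toSemi.smul_eq_imp E.hv1 (this.trans (one_smul k _).symm)),
    map_one]

end BData

end Cfsg.Agent.BaseSize
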