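import Cfsg.Agent.BaseTwo.Cert
import Cfsg.Agent.BaseTwo.Step2

/-!
# Words in commuting-up-to-sign elements
-/

set_option autoImplicit false
set_option linter.style.haveILetI false
set_option linter.unusedSectionVars false

namespace Cfsg.Agent.BaseSize

open Cfsg.Agent.BaseTwo

namespace BData

variable {k V G : Type*} [Field k] [AddCommGroup V] [Module k V] [Group G]
  [DistribMulAction G V] {D : BData k V G} [Finite k] [Finite G] [Finite V]
  {m : ℕ} {F : D.Frame m}

/-- A sign. -/
def sg (s : Bool) : kˣ := if s then -1 else 1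

theorem sg_xor (a b : Bool) : (sg (xor a b) : kˣ) = sg a * sg b := by
  cases a <;> cases b <;> simp [sg]

/-- The product of the gens selected by the bits. -/
def wd : List D.B → ℕ → D.B
  | [], _ => 1
  | β :: l, b => (if b % 2 = 1 then β else 1) * wd l (b / 2)

theorem wd_zero : ∀ l : List D.B, wd l 0 = 1
  | [] => rfl
  | β :: l => by simp [wd, wd_zero l]

/-- The relations of the gens. -/
def GensOk : List D.B → List (Bool × List Bool) → Prop
  | [], [] => True
  | β :: l, (s, row) :: rs =>
    β * β = D.z (sg s) ∧ List.Forall₂ (fun β' a => D.com β' β = sg a) l row ∧ GensOk l rs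
  | _, _ => False

theorem com_wd {β : D.B} : ∀ {l : List D.B} {row : List Bool},
    List.Forall₂ (fun β' a => D.com β' β = sg a) l row → ∀ b,
      D.com (wd l b) β = sg (Cert.dot row b) := by
  intro l row h
  induction h with
  | nil => intro b; simp [wd, Cert.dot, D.com_one_left, sg]
  | @cons β' a l row h1 h2 ih =>
    intro b
    rw [wd, Cert.dot, D.com_mul_left, ih, sg_xor]
    congr 1
    split_ifs with hb
    · simp [h1, hb]
    · simp [hb, D.com_one_left, sg]

theorem xor_mod_two (b c : ℕ) : ((b ^^^ c) % 2 == 1) = xor (b % 2 == 1) (c % 2 == 1) := by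
  have h := Nat.testBit_xor b c 0
  simp only [Nat.testBit_zero] at h
  rcases Nat.mod_two_eq_zero_or_one b with hb | hb <;>
    rcases Nat.mod_two_eq_zero_or_one c with hc | hc <;>
      rcases Nat.mod_two_eq_zero_or_one (b ^^^ c) with hx | hx <;> simp_all

theorem wd_mul : ∀ {l : List D.B} {rs : List (Bool × List Bool)}, GensOk l rs → ∀ b c,
    wd l b * wd l c = D.z (sg (Cert.epsF rs b c)) * wd l (b ^^^ c)
  | [], [], _, _, _ => by simp [wd, Cert.epsF, sg]
  | β :: l, (s, row) :: rs, ⟨hsq, hrow, hl⟩, b, c => by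
    have ih := wd_mul hl (b / 2) (c / 2)
    have hdiv : (b ^^^ c) / 2 = b / 2 ^^^ c / 2 := by
      apply Nat.eq_of_testBit_eq; intro i
      simp [Nat.testBit_div_two, Nat.testBit_xor]
    have hx := xor_mod_two b c
    set A : D.B := if b % 2 = 1 then β else 1 with hA
    set A' : D.B := if c % 2 = 1 then β else 1 with hA'
    have h1 : wd l (b / 2) * A' =
        D.z (sg (c % 2 == 1 && Cert.dot row (b / 2))) * (A' * wd l (b / 2)) := by
      rcases Nat.mod_two_eq_zero_or_one c with hc | hc
      · simp [hA', hc, sg]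
      · simp only [hA', hc, if_true, beq_self_eq_true, Bool.true_and]
        rw [D.com_spec (wd l (b / 2)) β, com_wd hrow]
    have h2 : A * A' = D.z (sg (b % 2 == 1 && (c % 2 == 1 && s))) *
        (if (b ^^^ c) % 2 = 1 then β else 1) := by
      rcases Nat.mod_two_eq_zero_or_one b with hb | hb <;>
        rcases Nat.mod_two_eq_zero_or_one c with hc | hc <;>
          simp [hb, hc] at hx ⊢ <;> simp [hA, hA', hb, hc, hx, hsq, sg]
    simp only [wd, Cert.epsF, sg_xor, map_mul, hdiv, ← hA, ← hA']
    calc A * wd l (b / 2) * (A' * wd l (c / 2))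
        = A * (wd l (b / 2) * A') * wd l (c / 2) := by simp only [mul_assoc]
      _ = D.z (sg (c % 2 == 1 && Cert.dot row (b / 2))) *
            ((A * A') * (wd l (b / 2) * wd l (c / 2))) := by
          rw [h1, ← mul_assoc A, ← D.z_comm _ A]; simp only [mul_assoc]
      _ = _ := by
          rw [h2, ih]
          generalize (if (b ^^^ c) % 2 = 1 then β else 1) = A''
          generalize wd l (b / 2 ^^^ c / 2) = R
          rw [← mul_assoc _ (D.z (sg (Cert.epsF rs (b / 2) (c / 2)))) R, mul_assoc _ A'' (D.z _),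
            ← D.z_comm _ A'']
          simp only [← map_mul, ← mul_assoc]
          congr 3
          ac_rfl

/-- Words up to scalars. -/
def IsWord (l : List D.B) (d : ℕ) (b : D.B) : Prop :=
  ∃ u c, c < 2 ^ d ∧ b = D.z u * wd l c

theorem IsWord.mul {l : List D.B} {rs : List (Bool × List Bool)} {d : ℕ} (hl : GensOk l rs)
    {b b' : D.B} (h : IsWord l d b) (h' : IsWord l d b') : IsWord l d (b * b') := by
  obtain ⟨u, c, hc, rfl⟩ := h
  obtain ⟨u', c', hc', rfl⟩ := h'
  refine ⟨u * u' * sg (Cert.epsF rs c c'), c ^^^ c', Nat.xor_lt_two_pow hc hc', ?_⟩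
  rw [mul_assoc, ← mul_assoc (wd l c), ← D.z_comm, mul_assoc, wd_mul hl, ← mul_assoc, ← mul_assoc,
    ← map_mul, ← map_mul]

theorem IsWord.one {l : List D.B} {d : ℕ} : IsWord l d (1 : D.B) :=
  ⟨1, 0, Nat.two_pow_pos d, by rw [map_one, wd_zero, one_mul]⟩

theorem IsWord.z {l : List D.B} {d : ℕ} (u : kˣ) : IsWord l d (D.z u) :=
  ⟨u, 0, Nat.two_pow_pos d, by rw [wd_zero, mul_one]⟩

theorem IsWord.pow {l : List D.B} {rs : List (Bool × List Bool)} {d : ℕ} (hl : GensOk l rs)
    {b : D.B} (h : IsWord l d b) : ∀ n : ℕ, IsWord l d (b ^ n)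
  | 0 => by rw [pow_zero]; exact IsWord.one
  | n + 1 => by rw [pow_succ]; exact (IsWord.pow hl h n).mul hl h

end BData

end Cfsg.Agent.BaseSize
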