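import Cfsg.Agent.BaseTwo.Base
import Cfsg.Agent.BaseTwo.Words
import Cfsg.Agent.BaseTwo.CertTree
import Cfsg.Agent.BaseTwo.CertData

/-!
# Two pairs of the frame over the fields with three and five elements
-/

set_option autoImplicit false
set_option linter.style.haveILetI false
set_option linter.unusedSectionVars false

open Finset

namespace Cfsg.Agent.BaseSize

open Cfsg.Agent.BaseTwo

namespace BData

variable {k V G : Type*} [Field k] [AddCommGroup V] [Module k V] [Group G]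
  [DistribMulAction G V] {D : BData k V G} [Finite k] [Finite G] [Finite V]
  {m : ℕ} {F : D.Frame m}

/-- Multiplication by an element of `B`, as a linear map. -/
def opB (b : D.B) : V →ₗ[k] V where
  toFun u := b • u
  map_add' := smul_add b
  map_smul' c u := D.smul_k b c u

theorem nat_cast_surj {q : ℕ} [Fact q.Prime] [CharP k q] (hcard : Nat.card k = q) (c : k) :
    ∃ l : ℕ, l < q ∧ (l : k) = c := by
  haveI : Fintype k := Fintype.ofFinite k
  have hb : Function.Bijective (ZMod.castHom (dvd_refl q) k) := by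
    rw [Fintype.bijective_iff_injective_and_card]
    exact ⟨(ZMod.castHom (dvd_refl q) k).injective, by
      rw [ZMod.card, ← Nat.card_eq_fintype_card, hcard]⟩
  obtain ⟨t, rfl⟩ := hb.2 c
  exact ⟨t.val, t.val_lt, by rw [← map_natCast (ZMod.castHom (dvd_refl q) k), ZMod.natCast_zmod_val]⟩

theorem Frame.Xv_add (a b : F.L) : F.Xv (a + b) = F.Xv a * F.Xv b := by
  rw [Frame.Xv, Frame.Xv, Frame.Xv, ← map_mul]; rfl

theorem Frame.Y_single_nat (n : Fin m) (t : ZMod (F.r n)) :
    F.Y (Pi.single n t) = F.y n ^ t.val := by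
  have hsum : ∀ t : ℕ, F.Y (Pi.single n (t : ZMod (F.r n))) = F.y n ^ t := by
    intro t
    induction t with
    | zero => simp [F.Y_zero]
    | succ t ih => rw [Nat.cast_succ, Pi.single_add, F.Y_add, ih, F.Y_single, pow_succ]
  rw [← hsum, ZMod.natCast_zmod_val]

theorem Frame.Xv_single_nat (n : Fin m) (t : ZMod (F.r n)) :
    F.Xv (Pi.single n t) = F.x n ^ t.val := by
  have hsum : ∀ t : ℕ, F.Xv (Pi.single n (t : ZMod (F.r n))) = F.x n ^ t := by
    intro t
    induction t with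
    | zero => simp [F.Xv_zero]
    | succ t ih => rw [Nat.cast_succ, Pi.single_add, F.Xv_add, ih, F.Xv_single, pow_succ]
  rw [← hsum, ZMod.natCast_zmod_val]

theorem eq_pair {T : Finset (Fin m)} {n0 n1 : Fin m} (hne : n0 ≠ n1) (hT : T = {n0, n1})
    {a : F.L} (ha : ∀ l, l ∉ T → a l = 0) : a = Pi.single n0 (a n0) + Pi.single n1 (a n1) := by
  funext l
  by_cases h0 : l = n0
  · subst h0; simp [hne]
  by_cases h1 : l = n1
  · subst h1; simp [Ne.symm hne]
  simp [h0, h1, ha l (by simp [hT, h0, h1])]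

theorem decomp_pair {T : Finset (Fin m)} {n0 n1 : Fin m} (hne : n0 ≠ n1) (hT : T = {n0, n1})
    {l : List D.B} {rs : List (Bool × List Bool)} {d : ℕ} (hl : GensOk l rs)
    (hx0 : IsWord l d (F.x n0)) (hx1 : IsWord l d (F.x n1))
    (hy0 : IsWord l d (F.y n0)) (hy1 : IsWord l d (F.y n1))
    (hC : ∀ c ∈ F.C, IsWord l d c) {b : D.B} (hb : ∀ i, i ∉ T → D.com (F.x i) b = 1) :
    ∃ (u : kˣ) (c : ℕ) (χ : D.B), c < 2 ^ d ∧ χ ∈ F.Xc T ∧ b = D.z u * wd l c * χ := by
  classical
  obtain ⟨a, β, c, hc, rfl⟩ := F.decompose b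
  have ha : ∀ i, i ∉ T → a i = 0 := fun i hi => by
    refine F.pow_val_inj i ?_
    rw [ZMod.val_zero, pow_zero, ← F.com_x_Y]
    have h := hb i hi
    rw [D.com_mul_right, D.com_mul_right, F.com_Xv,
      Finset.prod_eq_one (fun j _ => by rw [F.hxx, one_pow]), mul_one, (F.mem_C.mp hc i).1,
      mul_one] at h
    exact h
  set β' : F.L := Pi.single n0 (β n0) + Pi.single n1 (β n1) with hβ'
  have hχ : F.Xv (β - β') ∈ F.Xc T := Frame.Xv_mem _ fun i hi => Frame.x_mem_Xc fun hiT => hi (by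
    rw [hT, Finset.mem_insert, Finset.mem_singleton] at hiT
    rcases hiT with rfl | rfl
    · simp [hβ', hne]
    · simp [hβ', Ne.symm hne])
  have hYw : IsWord l d (F.Y a) := by
    rw [eq_pair hne hT ha, F.Y_add, F.Y_single_nat, F.Y_single_nat]
    exact (hy0.pow hl _).mul hl (hy1.pow hl _)
  have hXw : IsWord l d (F.Xv β') := by
    rw [hβ', F.Xv_add, F.Xv_single_nat, F.Xv_single_nat]
    exact (hx0.pow hl _).mul hl (hx1.pow hl _)
  obtain ⟨u, e, he, h⟩ := (hYw.mul hl hXw).mul hl (hC c hc)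
  refine ⟨u, e, _, he, hχ, ?_⟩
  rw [← h]
  have hcomm : F.Xv (β - β') * c = c * F.Xv (β - β') :=
    Subgroup.mem_centralizer_singleton_iff.mp (F.xHom_range_le (H := Subgroup.centralizer {c})
      (fun i => Subgroup.mem_centralizer_singleton_iff.mpr
        ((D.com_eq_one_iff _ _).mp (F.mem_C.mp hc i).1)) (β - β'))
  conv_lhs => rw [show β = β' + (β - β') by abel, F.Xv_add]
  rw [← mul_assoc (F.Y a), mul_assoc _ _ c, hcomm, ← mul_assoc]

/-- A concrete model inside the frame gives a pair. -/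
theorem Ctx.strong_of_cert (E : Ctx F) {T : Finset (Fin m)} {M : Cert.Mdl} (hq : M.q.Prime)
    (hq2 : M.q ≠ 2) [CharP k M.q] (hcard : Nat.card k = M.q) (hG : ¬ M.q ∣ Nat.card G)
    {t : Cert.Tree} {nd₀ : Cert.Node} (hroot : t.root? = some nd₀) {fuel : ℕ}
    (hok : M.ok fuel [] t = true) (heps : M.epsOk = true)
    (gens : List D.B) (hgens : GensOk gens M.rows) (e : ℕ → V)
    (hmem : ∀ β ∈ gens, ∀ i, i ∉ T → D.com (F.x i) β = 1)
    (hdec : ∀ b : D.B, (∀ i, i ∉ T → D.com (F.x i) b = 1) →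
      ∃ (u : kˣ) (c : ℕ) (χ : D.B), c < 2 ^ M.d ∧ χ ∈ F.Xc T ∧ b = D.z u * wd gens c * χ)
    (he : ∀ j, j < M.n → F.Fx T (e j))
    (hindep : ∀ a : ℕ → k, ∑ j ∈ Finset.range M.n, a j • e j = 0 → ∀ j, j < M.n → a j = 0)
    (hop : ∀ i, i < M.d → ∀ j, j < M.n → wd gens (2 ^ i) • e j =
      ∑ l ∈ Finset.range M.n, ((((M.ops.getD i []).getD j []).getD l 0 : ℕ) : k) • e l)
    (hspan : ∀ a : F.L, (∀ i, i ∉ T → a i = 0) →
      (∃ j, j < M.n ∧ e j = F.Y a • E.v1) ∧ (∃ j, j < M.n ∧ e j = F.Y a • E.w)) :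
    E.Strong T := by
  classical
  haveI : Fact M.q.Prime := ⟨hq⟩
  have hσ : ∀ g : G, D.σ g = 1 := fun g =>
    RingEquiv.ext (Colour.prime_field_auto (by rw [hcard]; exact hq) _)
  have hwx : ∀ b i, i ∉ T → D.com (F.x i) (wd gens b) = 1 := by
    suffices ∀ (L : List D.B), (∀ β ∈ L, ∀ i, i ∉ T → D.com (F.x i) β = 1) →
        ∀ b i, i ∉ T → D.com (F.x i) (wd L b) = 1 from this gens hmem
    intro L
    induction L with
    | nil => exact fun _ b i _ => D.com_one_right _
    | cons β L ih =>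
      intro h b i hi
      rw [wd, D.com_mul_right, ih (fun β hβ => h β (List.mem_cons_of_mem _ hβ)) _ i hi, mul_one]
      split_ifs
      exacts [h β (List.mem_cons_self ..) i hi, D.com_one_right _]
  simp only [Cert.Mdl.epsOk, Bool.and_eq_true, beq_iff_eq, List.all_eq_true, List.mem_range]
    at heps
  let R : Cert.Real M k V G :=
    { hq := hq
      hq2 := hq2
      charp := inferInstance
      W := F.Fx T
      Nrm := F.Norm T
      op := fun b => opB (wd gens b)
      e := e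
      indep := fun a h j hj => by
        have := hindep (fun j => (a j : k)) h j hj
        exact Nat.mod_eq_zero_of_dvd ((CharP.cast_eq_zero_iff k M.q _).mp this)
      W_sub := fun u u' => Frame.Fx.add
      W_smul := fun c u h => h.smul_k c
      W_zero := Frame.fx_zero T
      W_e := he
      W_op := fun b u hu => hu.smul (hwx b)
      op_zero := fun u => by show wd gens 0 • u = u; rw [wd_zero, one_smul]
      op_mul := fun b c hb hc u => by
        show wd gens b • (wd gens c • u) = (M.sgn b c : k) • (wd gens (b ^^^ c) • u)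
        rw [← mul_smul, wd_mul hgens, smul_smul_k, Cert.Mdl.sgn, heps.2 b hb c hc]
        congr 1
        cases Cert.epsF M.rows b c <;>
          simp [sg, Nat.cast_sub hq.one_le, CharP.cast_eq_zero]
      op_gen := hop
      lin := fun g _ c u => by rw [D.smul_smul', hσ]; rfl
      W_g := fun g hg u hu => hu.smul_g hg
      Nrm_mul := fun g h => Frame.Norm.mul
      Nrm_inv := fun g => Frame.Norm.inv
      Nrm_one := fun b hb => by
        have : cj (1 : G) b = b := Subtype.ext (by simp [cj])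
        rwa [this]
      dec := fun g hg b _ => by
        obtain ⟨u, c, χ, hc, hχ, hbc⟩ := hdec (cj g (wd gens b)) fun i hi => by
          have hz := hg.inv _ (Frame.x_mem_Xc hi)
          rw [← cj_cancel_inv g (F.x i), com_cj]
          have : D.com (cj g⁻¹ (F.x i)) (wd gens b) = 1 := by
            rw [D.com_eq_one_iff]
            exact Subgroup.mem_centralizer_singleton_iff.mp ((Subgroup.closure_le
              (Subgroup.centralizer {wd gens b})).mpr (by
                rintro _ ⟨j, hj, rfl⟩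
                exact Subgroup.mem_centralizer_singleton_iff.mpr
                  ((D.com_eq_one_iff _ _).mp (hwx b j hj))) hz)
          rw [this, map_one]
        obtain ⟨l, hl, hlu⟩ := nat_cast_surj hcard (u : k)
        refine ⟨l, c, hl, fun e0 => u.ne_zero ?_, hc, fun v hv => ?_⟩
        · rw [← hlu, CharP.cast_eq_zero_iff k M.q]; exact Nat.dvd_of_mod_eq_zero e0
        · show g • (wd gens b • v) = (l : k) • (wd gens c • (g • v))
          rw [cj_smul, hbc, mul_smul, (hv.smul_g hg).mem hχ, smul_smul_k, hlu] }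
  obtain ⟨v, w, hv0, hv, hw, hstab, hsep, hreg⟩ := R.exists_pair hroot hok hG
  have hw0 : w ≠ 0 := fun e0 => by
    have := hstab 0
    have h1 := hstab (M.q - 1) 0 (by
      rw [Nat.mod_eq_of_lt (by have := hq.one_lt; omega)]; have := hq.one_lt; omega)
      (Nat.two_pow_pos _) (by rw [e0, map_zero, smul_zero])
    have h2 := h1.2
    rw [Nat.cast_sub hq.one_le, CharP.cast_eq_zero, zero_sub, Nat.cast_one] at h2
    have h3 : ((2 : ℕ) : k) = 0 := by push_cast; linear_combination -h2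
    rw [CharP.cast_eq_zero_iff k M.q] at h3
    exact hq2 ((Nat.prime_dvd_prime_iff_eq hq Nat.prime_two).mp h3)
  have hmove : ∀ (b : D.B) (v' : V), v' ≠ 0 → F.Fx T v' → b • w = v' →
      ∃ (l c : ℕ) (χ : D.B), l % M.q ≠ 0 ∧ c < 2 ^ M.d ∧ χ ∈ F.Xc T ∧
        (l : k) • (wd gens c • w) = v' ∧ ∃ u : kˣ, (u : k) = l ∧ b = D.z u * wd gens c * χ := by
    intro b v' hne' hv' h
    obtain ⟨u, c, χ, hc, hχ, hbc⟩ := hdec b (Frame.Fx.com_all hw hv' hne' h)
    obtain ⟨l, -, hlu⟩ := nat_cast_surj hcard (u : k)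
    refine ⟨l, c, χ, fun e0 => u.ne_zero ?_, hc, hχ, ?_, u, hlu.symm, hbc⟩
    · rw [← hlu, CharP.cast_eq_zero_iff k M.q]; exact Nat.dvd_of_mod_eq_zero e0
    · rw [hbc, mul_smul, hw.mem hχ, smul_smul_k] at h
      rw [hlu]; exact h
  refine ⟨v, w, hv0, hv, ⟨hw0, hw, fun b h => ?_⟩, fun b h => ?_, fun g hg h1 h2 => ?_⟩
  · obtain ⟨l, c, χ, hl, hc, hχ, e1, u, hu, hbc⟩ := hmove b w hw0 hw h
    obtain ⟨rfl, hl1⟩ := hstab l c hl hc e1
    rw [hbc, show u = 1 from Units.ext (by rw [hu, hl1, Units.val_one]), map_one, wd_zero,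
      one_mul, one_mul]
    exact hχ
  · obtain ⟨l, c, χ, hl, hc, hχ, e1, -⟩ := hmove b v hv0 hv h
    exact hsep l c hl hc e1
  · refine ⟨hσ g, fun a ha => ?_⟩
    obtain ⟨⟨j, hj, hje⟩, ⟨j', hj', hje'⟩⟩ := hspan a ha
    rw [← hje, ← hje']
    exact ⟨hreg g hg h1 h2 j hj, hreg g hg h1 h2 j' hj'⟩

theorem Frame.sum_two {n : Fin m} (hr : F.r n = 2) {A B : V} (hA : F.x n • A = A)
    (hB : F.x n • B = B) (h : A + F.y n • B = 0) : A = 0 ∧ B = 0 := by
  classical
  have hf : ∀ u : V, F.x n • u = u → F.Fx (Finset.univ.erase n) u := fun u hu i hi => by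
    rw [Finset.mem_erase, not_and] at hi
    rw [show i = n by by_contra h; exact hi h (Finset.mem_univ i)]
    exact hu
  have key := Frame.three_inj (Finset.notMem_erase n _) (hf A hA) (hf B hB) (Frame.fx_zero _)
    (Frame.fx_zero _) (Frame.fx_zero _) (Frame.fx_zero _)
    (a := 0) (b := 1) (c := 2) (a' := 0) (b' := 1) (c' := 2)
    (by simpa using h)
  have k0 := key 0
  have k1 := key ((1 : ℕ) : ZMod (F.r n))
  rw [if_pos Nat.cast_zero, if_neg (Frame.one_ne n)] at k0
  rw [if_neg (fun e : ((0 : ℕ) : ZMod (F.r n)) = ((1 : ℕ) : ZMod (F.r n)) =>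
    Frame.one_ne n (e.symm.trans Nat.cast_zero)), if_pos rfl] at k1
  exact ⟨by simpa using k0, by simpa using k1⟩

/-- The basis vectors. -/
def Frame.eb (F : D.Frame m) (n0 n1 : Fin m) (a b : ℕ) (u : V) : V :=
  (F.y n0 ^ a) • ((F.y n1 ^ b) • u)

section

variable {n0 n1 : Fin m} (hne : n0 ≠ n1) (hr0 : F.r n0 = 2) (hr1 : F.r n1 = 2)

include hr0 in
theorem Frame.zeta_two : ((F.ζ n0 : kˣ) : k) = -1 := by
  have h1 : ((F.ζ n0 : kˣ) : k) ^ 2 = 1 := by
    rw [← Units.val_pow_eq_pow_val, ← hr0, ← F.hζ n0, pow_orderOf_eq_one, Units.val_one]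
  refine (sq_eq_one_iff.mp h1).resolve_left fun e => ?_
  have := F.hζ n0
  rw [show F.ζ n0 = 1 from Units.ext e, orderOf_one, hr0] at this
  omega

include hne hr0 hr1 in
theorem Frame.gens_ok : GensOk [F.x n0, F.x n1, F.y n0, F.y n1]
    [(false, [false, true, false]), (false, [false, true]), (false, [false]), (false, [])] := by
  have hsq : ∀ {n : Fin m}, F.r n = 2 → F.x n * F.x n = D.z (sg false) ∧
      F.y n * F.y n = D.z (sg false) := fun {n} h => by
    have e1 := F.hx n; have e2 := F.hy n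
    rw [h, sq] at e1 e2
    simp [sg, e1, e2]
  have hz : ∀ {n : Fin m}, F.r n = 2 → D.com (F.y n) (F.x n) = -1 := fun {n} h => by
    rw [D.com_swap (F.x n), F.hxy, inv_eq_iff_eq_inv, inv_neg_one]
    exact Units.ext (by rw [F.zeta_two (n0 := n) h, Units.val_neg, Units.val_one])
  refine ⟨(hsq hr0).1, ?_, (hsq hr1).1, ?_, (hsq hr0).2, ?_, (hsq hr1).2, List.Forall₂.nil, trivial⟩
  · refine List.Forall₂.cons ?_ (List.Forall₂.cons ?_ (List.Forall₂.cons ?_ List.Forall₂.nil))
    · simpa [sg] using F.hxx n1 n0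
    · simpa [sg] using hz hr0
    · rw [D.com_swap (F.x n0), F.hoff n0 n1 hne]; simp [sg]
  · refine List.Forall₂.cons ?_ (List.Forall₂.cons ?_ List.Forall₂.nil)
    · rw [D.com_swap (F.x n1), F.hoff n1 n0 hne.symm]; simp [sg]
    · simpa [sg] using hz hr1
  · exact List.Forall₂.cons (by simpa [sg] using F.hyy n1 n0) List.Forall₂.nil

variable {u : V} (hu : F.Fixed u)

include hne hr0 hu in
theorem Frame.x0_eb (a b : ℕ) :
    F.x n0 • F.eb n0 n1 a b u = ((-1 : k) ^ a) • F.eb n0 n1 a b u := by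
  rw [Frame.eb, com_spec_smul, D.com_pow_right, F.hxy, com_spec_smul (F.x n0),
    D.com_pow_right, F.hoff n0 n1 hne, one_pow, Units.val_one, one_smul, hu n0,
    Units.val_pow_eq_pow_val, F.zeta_two hr0]

include hne hr1 hu in
theorem Frame.x1_eb (a b : ℕ) :
    F.x n1 • F.eb n0 n1 a b u = ((-1 : k) ^ b) • F.eb n0 n1 a b u := by
  rw [Frame.eb, com_spec_smul, D.com_pow_right, F.hoff n1 n0 hne.symm, one_pow, Units.val_one,
    one_smul, com_spec_smul (F.x n1), D.com_pow_right, F.hxy, hu n1, Units.val_pow_eq_pow_val,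
    F.zeta_two (n0 := n1) hr1, D.smul_k]

theorem Frame.y0_eb (a b : ℕ) : F.y n0 • F.eb n0 n1 a b u = F.eb n0 n1 (a + 1) b u := by
  rw [Frame.eb, Frame.eb, ← mul_smul (F.y n0), ← pow_succ']

theorem Frame.y1_eb (a b : ℕ) : F.y n1 • F.eb n0 n1 a b u = F.eb n0 n1 a (b + 1) u := by
  rw [Frame.eb, Frame.eb, com_spec_smul, D.com_pow_right, F.hyy, one_pow, Units.val_one, one_smul,
    ← mul_smul (F.y n1), ← pow_succ']

theorem Frame.C_eb {c : D.B} (hc : c ∈ F.C) (a b : ℕ) :
    c • F.eb n0 n1 a b u = F.eb n0 n1 a b (c • u) := by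
  have h : ∀ n, D.com c (F.y n) = 1 := fun n => by
    rw [D.com_swap (F.y n) c, (F.mem_C.mp hc n).2, inv_one]
  rw [Frame.eb, Frame.eb, com_spec_smul, D.com_pow_right, h, one_pow, Units.val_one, one_smul,
    com_spec_smul c, D.com_pow_right, h, one_pow, Units.val_one, one_smul]

include hr0 in
theorem Frame.eb_two_left (b : ℕ) : F.eb n0 n1 2 b u = F.eb n0 n1 0 b u := by
  have e := F.hy n0
  rw [hr0] at e
  rw [Frame.eb, Frame.eb, e, pow_zero]

include hr1 in
theorem Frame.eb_two_right (a : ℕ) : F.eb n0 n1 a 2 u = F.eb n0 n1 a 0 u := by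
  have e := F.hy n1
  rw [hr1] at e
  rw [Frame.eb, Frame.eb, e, pow_zero]

theorem Frame.eb_smul (a b : ℕ) (c : k) : F.eb n0 n1 a b (c • u) = c • F.eb n0 n1 a b u := by
  rw [Frame.eb, Frame.eb, D.smul_k, D.smul_k]

theorem Frame.eb_neg (a b : ℕ) : F.eb n0 n1 a b (-u) = -F.eb n0 n1 a b u := by
  rw [Frame.eb, Frame.eb, smul_neg, smul_neg]

theorem Frame.eb_add (a b : ℕ) (u' : V) :
    F.eb n0 n1 a b (u + u') = F.eb n0 n1 a b u + F.eb n0 n1 a b u' := by
  rw [Frame.eb, Frame.eb, Frame.eb, smul_add, smul_add]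

include hu in
theorem Frame.eb_fx (a b : ℕ) : F.Fx {n0, n1} (F.eb n0 n1 a b u) := by
  intro i hi
  simp only [Finset.mem_insert, Finset.mem_singleton, not_or] at hi
  rw [Frame.eb, com_spec_smul, D.com_pow_right, F.hoff i n0 hi.1, one_pow, Units.val_one,
    one_smul, com_spec_smul (F.x i), D.com_pow_right, F.hoff i n1 hi.2, one_pow, Units.val_one,
    one_smul, hu i]

include hne hr0 hr1 in
theorem Frame.eb_indep {u00 u10 u01 u11 : V} (h00 : F.Fixed u00) (h10 : F.Fixed u10)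
    (h01 : F.Fixed u01) (h11 : F.Fixed u11)
    (h : F.eb n0 n1 0 0 u00 + F.eb n0 n1 1 0 u10 + F.eb n0 n1 0 1 u01 + F.eb n0 n1 1 1 u11 = 0) :
    u00 = 0 ∧ u10 = 0 ∧ u01 = 0 ∧ u11 = 0 := by
  simp only [Frame.eb, pow_zero, pow_one, one_smul] at h
  have hfix : ∀ {u u' : V}, F.Fixed u → F.Fixed u' →
      F.x n0 • (u + F.y n1 • u') = u + F.y n1 • u' := by
    intro u u' hu hu'
    rw [smul_add, hu n0, com_spec_smul, F.hoff n0 n1 hne, Units.val_one, one_smul, hu' n0]
  obtain ⟨e1, e2⟩ := Frame.sum_two hr0 (hfix h00 h01) (hfix h10 h11) (by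
    rw [← h, smul_add]; abel)
  obtain ⟨a1, a2⟩ := Frame.sum_two hr1 (h00 n1) (h01 n1) e1
  obtain ⟨b1, b2⟩ := Frame.sum_two hr1 (h10 n1) (h11 n1) e2
  exact ⟨a1, b1, a2, b2⟩

include hne hr0 hr1 in
theorem Frame.Y_eb (a : F.L) (ha : ∀ i, i ∉ ({n0, n1} : Finset (Fin m)) → a i = 0) (u : V) :
    (a n0).val < 2 ∧ (a n1).val < 2 ∧ F.Y a • u = F.eb n0 n1 (a n0).val (a n1).val u := by
  refine ⟨lt_of_lt_of_eq (a n0).val_lt hr0, lt_of_lt_of_eq (a n1).val_lt hr1, ?_⟩
  conv_lhs => rw [eq_pair hne rfl ha]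
  rw [F.Y_add, F.Y_single_nat, F.Y_single_nat, mul_smul]
  rfl

end

/-- Two pairs, no quaternions, three or five elements. -/
theorem Ctx.strong_two (E : Ctx F) (hall : ∀ c ∈ F.C, ∃ u, c = D.z u) (hw : E.w = E.v1)
    {n0 n1 : Fin m} (hne : n0 ≠ n1) (hr0 : F.r n0 = 2) (hr1 : F.r n1 = 2) {M : Cert.Mdl}
    (hM : M = Cert.threeMdl ∨ M = Cert.fiveMdl) [CharP k M.q] (hcard : Nat.card k = M.q)
    (hG : ¬ M.q ∣ Nat.card G) : E.Strong {n0, n1} := by
  classical
  have hrows : M.rows =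
      [(false, [false, true, false]), (false, [false, true]), (false, [false]), (false, [])] := by
    rcases hM with rfl | rfl <;> rfl
  have hd : M.d = 4 := by rcases hM with rfl | rfl <;> rfl
  have hn : M.n = 4 := by rcases hM with rfl | rfl <;> rfl
  let e : ℕ → V := fun j => F.eb n0 n1 (j % 2) (j / 2) E.v1
  have hwd : ∀ i, i < 4 → wd [F.x n0, F.x n1, F.y n0, F.y n1] (2 ^ i) =
      [F.x n0, F.x n1, F.y n0, F.y n1].getD i 1 := by
    intro i hi; interval_cases i <;> simp [wd]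
  have hl := Frame.gens_ok hne hr0 hr1
  have hword : ∀ i, i < 4 → IsWord [F.x n0, F.x n1, F.y n0, F.y n1] M.d
      (([F.x n0, F.x n1, F.y n0, F.y n1] : List D.B).getD i 1) := fun i hi =>
    ⟨1, 2 ^ i, Nat.pow_lt_pow_right (by norm_num) (by omega), by rw [map_one, one_mul, hwd i hi]⟩
  have hq : M.q.Prime ∧ M.q ≠ 2 := by rcases hM with rfl | rfl <;> exact ⟨by decide, by decide⟩
  have hm1 : ((M.q - 1 : ℕ) : k) = -1 := by
    rw [Nat.cast_sub hq.1.one_le, CharP.cast_eq_zero, zero_sub, Nat.cast_one]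
  obtain ⟨t, nd₀, hroot, hok, heps⟩ : ∃ t nd₀, Cert.Tree.root? t = some nd₀ ∧
      M.ok 5 [] t = true ∧ M.epsOk = true := by
    rcases hM with rfl | rfl
    · exact ⟨_, _, rfl, Cert.three_ok, Cert.three_eps⟩
    · exact ⟨_, _, rfl, Cert.five_ok, Cert.five_eps⟩
  refine E.strong_of_cert hq.1 hq.2 hcard hG hroot hok heps [F.x n0, F.x n1, F.y n0, F.y n1]
    (hrows ▸ hl) e ?_ (fun b hb => decomp_pair hne rfl hl (hword 0 (by omega))
      (hword 1 (by omega)) (hword 2 (by omega)) (hword 3 (by omega))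
      (fun c hc => by obtain ⟨u, rfl⟩ := hall c hc; exact IsWord.z u) hb)
    (fun j _ => F.eb_fx E.hX _ _) ?_ ?_ ?_
  · intro β hβ i hi
    simp only [Finset.mem_insert, Finset.mem_singleton, not_or] at hi
    simp only [List.mem_cons, List.not_mem_nil, or_false] at hβ
    rcases hβ with rfl | rfl | rfl | rfl
    exacts [F.hxx i n0, F.hxx i n1, F.hoff i n0 hi.1, F.hoff i n1 hi.2]
  · intro a h
    rw [hn] at h ⊢
    simp only [Finset.sum_range_succ, Finset.sum_range_zero, zero_add, e] at h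
    norm_num at h
    simp only [← F.eb_smul] at h
    obtain ⟨a0, a1, a2, a3⟩ := Frame.eb_indep hne hr0 hr1 (E.hX.smul_k _) (E.hX.smul_k _)
      (E.hX.smul_k _) (E.hX.smul_k _) h
    intro j hj
    interval_cases j
    all_goals first
      | exact (smul_eq_zero.mp a0).resolve_right E.hv1
      | exact (smul_eq_zero.mp a1).resolve_right E.hv1
      | exact (smul_eq_zero.mp a2).resolve_right E.hv1
      | exact (smul_eq_zero.mp a3).resolve_right E.hv1
  · intro i hi j hj
    rw [hd] at hi; rw [hn] at hj ⊢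
    rw [hwd i hi]
    simp only [e, Finset.sum_range_succ, Finset.sum_range_zero, zero_add]
    rcases hM with rfl | rfl <;> interval_cases i <;> interval_cases j <;>
      simp only [Cert.threeMdl, Cert.fiveMdl, List.getD_cons_zero, List.getD_cons_succ] at hm1 ⊢ <;>
      norm_num at hm1 ⊢ <;>
      simp [F.x0_eb hne hr0 E.hX, F.x1_eb hne hr1 E.hX, F.y0_eb, F.y1_eb, F.eb_two_left hr0,
        F.eb_two_right hr1, hm1]
  · intro a ha
    obtain ⟨h0, h1, hY⟩ := Frame.Y_eb hne hr0 hr1 a ha E.v1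
    have : ∃ j, j < M.n ∧ e j = F.Y a • E.v1 := by
      refine ⟨(a n0).val + 2 * (a n1).val, by omega, ?_⟩
      rw [hY]
      simp only [e]
      congr 1 <;> omega
    exact ⟨this, by rw [hw]; exact this⟩

/-- Two pairs and quaternions, three elements. -/
theorem Ctx.strong_two_quat (E : Ctx F) {α β : k} (hQ : E.IsQuat α β) (hα : α = 1) (hβ : β = 1)
    (hjj : E.j * E.j = D.z (-1)) (hij : D.com E.i E.j = -1)
    {n0 n1 : Fin m} (hne : n0 ≠ n1) (hr0 : F.r n0 = 2) (hr1 : F.r n1 = 2)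
    [CharP k 3] (hcard : Nat.card k = 3) (hG : ¬ 3 ∣ Nat.card G) : E.Strong {n0, n1} := by
  classical
  haveI : CharP k Cert.threeQuatMdl.q := ‹CharP k 3›
  set gens : List D.B := [F.x n0, F.x n1, F.y n0, F.y n1, E.i, E.j] with hgens
  let e : ℕ → V := fun j => F.eb n0 n1 ((j / 2) % 2) (j / 4) (if j % 2 = 0 then E.v1 else E.w)
  have hwd : ∀ i, i < 6 → wd gens (2 ^ i) = gens.getD i 1 := by
    intro i hi; interval_cases i <;> simp [wd, hgens]
  have hCx : ∀ c ∈ F.C, ∀ i, D.com c (F.x i) = 1 ∧ D.com c (F.y i) = 1 := fun c hc i => by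
    rw [D.com_swap (F.x i), D.com_swap (F.y i), (F.mem_C.mp hc i).1, (F.mem_C.mp hc i).2]
    simp
  have hl : GensOk gens Cert.threeQuatMdl.rows := by
    obtain ⟨q1, h1, q2, h2, q3, h3, q4, -, -⟩ := Frame.gens_ok hne hr0 hr1
    have one : ∀ {b : D.B}, D.com b b = D.com b b := fun {b} => rfl
    have hci : ∀ b, D.com E.i b = 1 → D.com E.i b = sg false := fun b h => by rw [h]; rfl
    have hcj : ∀ b, D.com E.j b = 1 → D.com E.j b = sg false := fun b h => by rw [h]; rfl
    refine ⟨q1, ?_, q2, ?_, q3, ?_, q4, ?_, ?_, ?_, ?_, List.Forall₂.nil, trivial⟩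
    · rcases h1 with _ | ⟨a1, _ | ⟨a2, _ | ⟨a3, a4⟩⟩⟩
      exact .cons a1 (.cons a2 (.cons a3 (.cons (hci _ (hCx _ E.quat.1 n0).1)
        (.cons (hcj _ (hCx _ E.quat.2.1 n0).1) .nil))))
    · rcases h2 with _ | ⟨a1, _ | ⟨a2, a3⟩⟩
      exact .cons a1 (.cons a2 (.cons (hci _ (hCx _ E.quat.1 n1).1)
        (.cons (hcj _ (hCx _ E.quat.2.1 n1).1) .nil)))
    · rcases h3 with _ | ⟨a1, a2⟩
      exact .cons a1 (.cons (hci _ (hCx _ E.quat.1 n0).2) (.cons (hcj _ (hCx _ E.quat.2.1 n0).2) .nil))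
    · exact .cons (hci _ (hCx _ E.quat.1 n1).2) (.cons (hcj _ (hCx _ E.quat.2.1 n1).2) .nil)
    · rw [hQ.hii]; simp [sg]
    · exact .cons (by rw [D.com_swap E.i E.j, hij]; simp [sg]) .nil
    · rw [hjj]; simp [sg]
  have hword : ∀ i, i < 6 → IsWord gens Cert.threeQuatMdl.d (gens.getD i 1) := fun i hi =>
    ⟨1, 2 ^ i, Nat.pow_lt_pow_right (by norm_num) (by show i < 6; omega),
      by rw [map_one, one_mul, hwd i hi]⟩
  have h3 : (3 : k) = 0 := by
    have := CharP.cast_eq_zero k 3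
    exact_mod_cast this
  have hm1 : (2 : k) = -1 := by linear_combination h3
  have hjv : E.j • E.v1 = E.v1 - E.w := by
    have := hQ.hj
    rwa [hα, hβ, one_smul, one_smul] at this
  have hjw : E.j • E.w = -E.v1 - E.w := by
    rw [Ctx.w, com_spec_smul E.j E.i, D.com_swap E.i E.j, hij, hjv, smul_sub,
      show E.i • E.v1 = E.w from rfl, hQ.i_w]
    simp only [inv_neg_one, Units.val_neg, Units.val_one]
    module
  refine E.strong_of_cert (M := Cert.threeQuatMdl) (by decide) (by decide) hcard hG rfl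
    Cert.threeQuat_ok Cert.threeQuat_eps gens hl e ?_ (fun b hb => decomp_pair hne rfl hl
      (hword 0 (by omega)) (hword 1 (by omega)) (hword 2 (by omega)) (hword 3 (by omega))
      (fun c hc => by
        obtain ⟨u, rfl | rfl | rfl | rfl⟩ := hQ.all c hc
        · exact IsWord.z u
        · exact (IsWord.z u).mul hl (hword 4 (by omega))
        · exact (IsWord.z u).mul hl (hword 5 (by omega))
        · exact (IsWord.z u).mul hl ((hword 4 (by omega)).mul hl (hword 5 (by omega)))) hb)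
    (fun j _ => F.eb_fx (by split_ifs; exacts [E.hX, E.w_fixed]) _ _) ?_ ?_ ?_
  · intro b hb i hi
    simp only [Finset.mem_insert, Finset.mem_singleton, not_or] at hi
    simp only [hgens, List.mem_cons, List.not_mem_nil, or_false] at hb
    rcases hb with rfl | rfl | rfl | rfl | rfl | rfl
    exacts [F.hxx i n0, F.hxx i n1, F.hoff i n0 hi.1, F.hoff i n1 hi.2,
      (F.mem_C.mp E.quat.1 i).1, (F.mem_C.mp E.quat.2.1 i).1]
  · intro a h
    simp only [Cert.threeQuatMdl, Finset.sum_range_succ, Finset.sum_range_zero, zero_add, e] at h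
    norm_num at h
    have hf : ∀ p q : k, F.Fixed (p • E.v1 + q • E.w) := fun p q =>
      (E.hX.smul_k p).add (E.w_fixed.smul_k q)
    obtain ⟨a0, a1, a2, a3⟩ := Frame.eb_indep hne hr0 hr1 (hf (a 0) (a 1)) (hf (a 2) (a 3))
      (hf (a 4) (a 5)) (hf (a 6) (a 7)) (by
        rw [← h]
        simp only [F.eb_add, F.eb_smul]
        abel)
    obtain ⟨b0, b1⟩ := hQ.indep a0
    obtain ⟨b2, b3⟩ := hQ.indep a1
    obtain ⟨b4, b5⟩ := hQ.indep a2
    obtain ⟨b6, b7⟩ := hQ.indep a3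
    intro j hj
    have hj : j < 8 := hj
    interval_cases j <;> assumption
  · intro i hi j hj
    have hi : i < 6 := hi
    have hj : j < 8 := hj
    rw [hwd i hi]
    simp only [e, Cert.threeQuatMdl, Finset.sum_range_succ, Finset.sum_range_zero, zero_add, hgens]
    interval_cases i <;> interval_cases j <;>
      simp only [List.getD_cons_zero, List.getD_cons_succ] <;>
      norm_num <;>
      simp [F.x0_eb hne hr0 E.hX, F.x1_eb hne hr1 E.hX, F.x0_eb hne hr0 E.w_fixed,
        F.x1_eb hne hr1 E.w_fixed, F.y0_eb, F.y1_eb, F.eb_two_left hr0, F.eb_two_right hr1,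
        F.C_eb E.quat.1, F.C_eb E.quat.2.1, hQ.i_w, hjv, hjw, show E.i • E.v1 = E.w from rfl,
        hm1, F.eb_neg, sub_eq_add_neg, F.eb_add]
  · intro a ha
    obtain ⟨h0, h1, hY⟩ := Frame.Y_eb hne hr0 hr1 a ha E.v1
    obtain ⟨-, -, hY'⟩ := Frame.Y_eb hne hr0 hr1 a ha E.w
    constructor
    · refine ⟨2 * (a n0).val + 4 * (a n1).val, by show _ < 8; omega, ?_⟩
      rw [hY]
      simp only [e]
      rw [if_pos (by omega)]
      congr 1 <;> omega
    · refine ⟨2 * (a n0).val + 4 * (a n1).val + 1, by show _ < 8; omega, ?_⟩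
      rw [hY']
      simp only [e]
      rw [if_neg (by omega)]
      congr 1 <;> omega

end BData

end Cfsg.Agent.BaseSize
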