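import Cfsg.Agent.BaseTwo.Frame

/-!
# Adding one pair of the frame to a pair of vectors

`Stab T w`: the stabiliser of `w` in `B` is `Xc T`. `Sep v w`: `v` is outside the orbit of `w`.
`Reg T v w`: an element normalising `Xc T` and fixing both vectors fixes the span of `T`.
-/

set_option autoImplicit false
set_option linter.style.haveILetI false
set_option linter.unusedSectionVars false

open Finset

namespace Cfsg.Agent.BaseSize

namespace BData

variable {k V G : Type*} [Field k] [AddCommGroup V] [Module k V] [Group G]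
  [DistribMulAction G V] {D : BData k V G} [Finite k] [Finite G] [Finite V]
  {m : ℕ} {F : D.Frame m}

/-- The stabiliser in `B` is `Xc T`. -/
def Frame.Stab (F : D.Frame m) (T : Finset (Fin m)) (w : V) : Prop :=
  w ≠ 0 ∧ F.Fx T w ∧ ∀ b : D.B, b • w = w → b ∈ F.Xc T

/-- Outside the orbit. -/
def Frame.Sep (_F : D.Frame m) (v w : V) : Prop := ∀ b : D.B, b • w ≠ v

/-- Fixing the span of the part of the frame indexed by `T`. -/
def Ctx.Fixes (E : Ctx F) (T : Finset (Fin m)) (g : G) : Prop :=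
  D.σ g = 1 ∧ ∀ a : F.L, (∀ i, i ∉ T → a i = 0) →
    g • (F.Y a • E.v1) = F.Y a • E.v1 ∧ g • (F.Y a • E.w) = F.Y a • E.w

/-- Regularity of a pair relative to `T`. -/
def Ctx.Reg (E : Ctx F) (T : Finset (Fin m)) (v w : V) : Prop :=
  ∀ g : G, F.Norm T g → g • v = v → g • w = w → E.Fixes T g

theorem Frame.Stab.norm {T : Finset (Fin m)} {w : V} (hw : F.Stab T w) {g : G}
    (hg : g • w = w) : F.Norm T g := fun b hb => by
  refine hw.2.2 _ ?_
  conv_lhs => rw [← hg, ← cj_smul, hw.2.1.mem hb, hg]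

open Classical in
/-- The third coefficient of the new vector. -/
noncomputable def Frame.c2 (F : D.Frame m) (n : Fin m) (w : V) : V :=
  if F.r n = 2 then 0 else -w

/-- The new vector. -/
noncomputable def Frame.next (F : D.Frame m) (n : Fin m) (v w : V) : V :=
  v + F.y n • w + (F.y n ^ 2) • F.c2 n w

theorem Frame.Fx.c2 {T : Finset (Fin m)} {w : V} (hw : F.Fx T w) (n : Fin m) :
    F.Fx T (F.c2 n w) := by
  rw [Frame.c2]; split_ifs
  exacts [Frame.fx_zero T, hw.neg]

theorem Frame.next_eq (n : Fin m) (v w : V) :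
    F.next n v w = F.comb n (Pi.single ((0 : ℕ) : ZMod (F.r n)) v +
      Pi.single ((1 : ℕ) : ZMod (F.r n)) w + Pi.single ((2 : ℕ) : ZMod (F.r n)) (F.c2 n w)) := by
  rw [F.comb_add, F.comb_add, F.comb_single, F.comb_single, F.comb_single, pow_zero, one_smul,
    pow_one]
  rfl

theorem Frame.Fx.next {T : Finset (Fin m)} {n : Fin m} {v w : V} (hv : F.Fx T v)
    (hw : F.Fx T w) : F.Fx (insert n T) (F.next n v w) := by
  have hc : ∀ i, i ∉ insert n T → D.com (F.x i) (F.y n) = 1 := fun i hi =>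
    F.hoff i n fun e => hi (e ▸ Finset.mem_insert_self n T)
  refine ((hv.mono (Finset.subset_insert n T)).add
    ((hw.mono (Finset.subset_insert n T)).smul hc)).add
    (((hw.c2 n).mono (Finset.subset_insert n T)).smul fun i hi => ?_)
  rw [D.com_pow_right, hc i hi, one_pow]

theorem Frame.three_inj {T : Finset (Fin m)} {n : Fin m} (hn : n ∉ T) {A B C A' B' C' : V}
    {a b c a' b' c' : ℕ} (hA : F.Fx T A) (hB : F.Fx T B) (hC : F.Fx T C) (hA' : F.Fx T A')
    (hB' : F.Fx T B') (hC' : F.Fx T C')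
    (h : (F.y n ^ a) • A + (F.y n ^ b) • B + (F.y n ^ c) • C =
      (F.y n ^ a') • A' + (F.y n ^ b') • B' + (F.y n ^ c') • C')
    (t : ZMod (F.r n)) :
    (if (a : ZMod (F.r n)) = t then A else 0) + (if (b : ZMod (F.r n)) = t then B else 0) +
        (if (c : ZMod (F.r n)) = t then C else 0) =
      (if (a' : ZMod (F.r n)) = t then A' else 0) + (if (b' : ZMod (F.r n)) = t then B' else 0) +
        (if (c' : ZMod (F.r n)) = t then C' else 0) := by
  classical
  have hsf : ∀ {u : V}, F.Fx T u → ∀ s u' : ZMod (F.r n),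
      F.x n • (if s = u' then u else 0) = if s = u' then u else 0 := by
    intro u hu s u'
    split_ifs
    exacts [hu n hn, smul_zero _]
  let one : ℕ → V → ZMod (F.r n) → V := fun s u => Pi.single ((s : ℕ) : ZMod (F.r n)) u
  have hval : ∀ (s : ℕ) (u : V) (t : ZMod (F.r n)),
      one s u t = if (s : ZMod (F.r n)) = t then u else 0 := fun s u t => by
    simp [one, Pi.single_apply, eq_comm]
  have key := F.comb_inj n (f := one a A + one b B + one c C)
    (f' := one a' A' + one b' B' + one c' C')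
    (fun u => by simp only [Pi.add_apply, smul_add, hval, hsf hA, hsf hB, hsf hC])
    (fun u => by simp only [Pi.add_apply, smul_add, hval, hsf hA', hsf hB', hsf hC'])
    (by simp only [F.comb_add, one, F.comb_single]; exact h) t
  simpa only [Pi.add_apply, hval] using key

theorem Frame.two_ne {n : Fin m} (hr : F.r n ≠ 2) : ((2 : ℕ) : ZMod (F.r n)) ≠ 0 := by
  rw [Ne, ZMod.natCast_eq_zero_iff]
  intro h
  exact hr ((Nat.prime_dvd_prime_iff_eq (F.hr n) Nat.prime_two).mp h)

theorem Frame.one_ne (n : Fin m) : ((1 : ℕ) : ZMod (F.r n)) ≠ 0 := by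
  rw [Ne, ZMod.natCast_eq_zero_iff]
  intro h
  exact (F.hr n).one_lt.ne' (Nat.dvd_one.mp h)

theorem Frame.choose_two (n : Fin m) {c : kˣ} (hc : c ^ F.r n = 1) (hr : F.r n ≠ 2) :
    c ^ (F.r n).choose 2 = 1 := by
  obtain ⟨t, ht⟩ : F.r n ∣ (F.r n).choose 2 :=
    (F.hr n).dvd_choose_self (by norm_num) (by have := (F.hr n).two_le; omega)
  rw [ht, pow_mul, hc, one_pow]

theorem Frame.com_y_pow (n : Fin m) (b : D.B) : D.com b (F.y n) ^ F.r n = 1 := by
  rw [← D.com_pow_right, F.hy, D.com_one_right]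

theorem Frame.Stab.scalar {T : Finset (Fin m)} {w : V} (hw : F.Stab T w) {c : kˣ} {b : D.B}
    (h : b • w = (c : k) • w) : D.z c⁻¹ * b ∈ F.Xc T := hw.2.2 _ (by
  rw [smul_smul_k, h, smul_smul, ← Units.val_mul, inv_mul_cancel, Units.val_one, one_smul])

theorem Frame.scalar_one {T : Finset (Fin m)} {w : V} (hw : F.Stab T w) {c : kˣ}
    (h : (c : k) • w = w) : c = 1 :=
  Units.ext (D.toSemi.smul_eq_imp hw.1 (h.trans (one_smul k w).symm))

theorem exists_zmod_index {n : Fin m} {b : D.B} :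
    ∃ i : ℕ, D.com (F.x n) b = F.ζ n ^ i :=
  mem_powers_of_prime (F.hr n) (F.hζ n) (by rw [← D.com_pow_left, F.hx, D.com_one_left])

/-- The part of `b` preserving `Fx T`. -/
theorem Frame.shift {T : Finset (Fin m)} {n : Fin m} {b : D.B}
    (hb : ∀ l, l ∉ insert n T → D.com (F.x l) b = 1) {i : ℕ}
    (hi : D.com (F.x n) b = F.ζ n ^ i) :
    ∃ f : D.B, b = F.y n ^ i * f ∧ ∀ l, l ∉ T → D.com (F.x l) f = 1 := by
  refine ⟨(F.y n ^ i)⁻¹ * b, (mul_inv_cancel_left _ _).symm, fun l hl => ?_⟩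
  have h : D.com (F.x l) (F.y n ^ i) * D.com (F.x l) ((F.y n ^ i)⁻¹ * b) = D.com (F.x l) b := by
    rw [← D.com_mul_right, mul_inv_cancel_left]
  by_cases e : l = n
  · subst e
    rw [hi, D.com_pow_right, F.hxy] at h
    exact mul_eq_left.mp h
  · rw [hb l (by simp [e, hl]), D.com_pow_right, F.hoff l n e, one_pow, one_mul] at h
    exact h

variable {E : Ctx F}

/-- **The inductive step for regularity.** -/
theorem Ctx.reg_step (h2 : (2 : k) ≠ 0) {T : Finset (Fin m)} {n : Fin m} (hn : n ∉ T) {v w : V}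
    (hv : F.Fx T v) (hw : F.Stab T w) (hreg : E.Reg T v w) :
    E.Reg (insert n T) w (F.next n v w) := by
  classical
  intro g hN hgw hgn
  have hNT : F.Norm T g := hw.norm hgw
  set b := cj g (F.y n) with hb
  have hcomb : ∀ l, l ∉ insert n T → D.com (F.x l) b = 1 := fun l hl => by
    rw [hb, ← cj_cancel_inv g (F.x l), com_cj,
      Frame.Xc_com_y (hN.inv _ (Frame.x_mem_Xc hl)) (Finset.mem_insert_self n T), map_one]
  obtain ⟨i, hi⟩ := exists_zmod_index (F := F) (n := n) (b := b)
  have hi0 : (i : ZMod (F.r n)) ≠ 0 := by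
    intro e
    have h1 : D.com (F.x n) b = 1 := by
      rw [hi, ← orderOf_dvd_iff_pow_eq_one, F.hζ]
      exact (ZMod.natCast_eq_zero_iff _ _).mp e
    set z := cj g⁻¹ (F.x n) with hz
    have hzc : D.com z (F.y n) = 1 := by
      have := com_cj g⁻¹ (F.x n) b
      rw [h1, map_one, hb, cj_inv_cancel] at this
      exact this
    have hxT : F.x n ∈ F.Xc (insert n T) := by
      have := hN _ (Frame.mem_Xc_insert (hNT.inv _ (Frame.x_mem_Xc hn)) hzc)
      rwa [cj_cancel_inv] at this
    have := Frame.Xc_com_y hxT (Finset.mem_insert_self n T)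
    rw [F.hxy] at this
    have h' := F.hζ n
    rw [this, orderOf_one] at h'
    exact (F.hr n).one_lt.ne h'
  obtain ⟨f, hbf, hf⟩ := Frame.shift hcomb hi
  -- the square
  have hcomb2 : ∀ l, l ∉ insert n T → D.com (F.x l) (b * b) = 1 := fun l hl => by
    rw [D.com_mul_right, hcomb l hl, one_mul]
  obtain ⟨f', hbf', hf'⟩ := Frame.shift (i := 2 * i) hcomb2
    (by rw [D.com_mul_right, hi, ← pow_add, two_mul])
  have hgc2 : g • F.c2 n w = F.c2 n w := by
    rw [Frame.c2]; split_ifs
    exacts [smul_zero g, by rw [smul_neg, hgw]]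
  have hbb : cj g (F.y n ^ 2) = b * b := by rw [map_pow, sq]
  have e : (F.y n ^ 0) • (g • v) + (F.y n ^ i) • (f • w) +
      (F.y n ^ (2 * i)) • (f' • F.c2 n w) =
      (F.y n ^ 0) • v + (F.y n ^ 1) • w + (F.y n ^ 2) • F.c2 n w := by
    rw [pow_zero, one_smul, one_smul, pow_one, ← mul_smul, ← hbf, ← mul_smul, ← hbf']
    conv_rhs => rw [show v + F.y n • w + F.y n ^ 2 • F.c2 n w = F.next n v w from rfl, ← hgn,
      Frame.next, smul_add, smul_add, cj_smul, cj_smul, hgw, hgc2, hbb]
  have key := Frame.three_inj hn (hv.smul_g hNT) (hw.2.1.smul hf) ((hw.2.1.c2 n).smul hf')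
    hv hw.2.1 (hw.2.1.c2 n) e
  -- `i` is `1`
  have hfw : f • w ≠ 0 := fun e0 => hw.1 (by rw [← inv_smul_smul f w, e0, smul_zero])
  have h2i : ((2 * i : ℕ) : ZMod (F.r n)) ≠ (i : ZMod (F.r n)) := by
    rw [two_mul, Nat.cast_add]
    intro e'
    exact hi0 (add_eq_right.mp e')
  have ki := key (i : ZMod (F.r n))
  rw [if_neg (fun h => hi0 (by rw [← h, Nat.cast_zero])), if_pos rfl, if_neg h2i,
    if_neg (fun h => hi0 (by rw [← h, Nat.cast_zero])), zero_add, add_zero, zero_add] at ki
  have hone : (i : ZMod (F.r n)) = ((1 : ℕ) : ZMod (F.r n)) := by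
    by_contra hne
    rw [if_neg (Ne.symm hne), zero_add] at ki
    by_cases h2' : ((2 : ℕ) : ZMod (F.r n)) = i
    swap
    · rw [if_neg h2'] at ki; exact hfw ki
    rw [if_pos h2'] at ki
    have hr : F.r n ≠ 2 := fun hr => by
      rw [Frame.c2, if_pos hr] at ki; exact hfw ki
    rw [Frame.c2, if_neg hr] at ki
    -- `f = -χ`
    have hχ : D.z (-1) * f ∈ F.Xc T := hw.2.2 _ (by
      rw [smul_smul_k, ki, Units.val_neg, Units.val_one, neg_smul, one_smul, neg_neg])
    have hfr : f ^ F.r n • w = -w := by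
      have hχr : (D.z (-1) * f) ^ F.r n • w = w := hw.2.1.mem (pow_mem hχ _)
      rw [Commute.mul_pow (D.z_comm _ f), ← map_pow, smul_smul_k,
        (Nat.Prime.odd_of_ne_two (F.hr n) hr).neg_one_pow, Units.val_neg, Units.val_one,
        neg_smul, one_smul] at hχr
      exact neg_eq_iff_eq_neg.mp hχr
    have hbr : b ^ F.r n = 1 := by rw [hb, ← map_pow, F.hy, map_one]
    have hyi : (F.y n ^ i) ^ F.r n = 1 := by rw [← pow_mul, mul_comm, pow_mul, F.hy, one_pow]
    rw [hbf, mul_pow', hyi, one_mul, F.choose_two n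
      (by rw [← D.com_pow_right, hyi, D.com_one_right]) hr, map_one, one_mul] at hbr
    rw [hbr, one_smul] at hfr
    refine hw.1 ((smul_eq_zero.mp (?_ : (2 : k) • w = 0)).resolve_left h2)
    rw [two_smul]
    nth_rewrite 2 [hfr]
    rw [add_neg_cancel]
  rw [if_pos hone.symm] at ki
  have hne12 : ((2 : ℕ) : ZMod (F.r n)) ≠ ((1 : ℕ) : ZMod (F.r n)) := by
    rw [show (2 : ℕ) = 1 + 1 from rfl, Nat.cast_add]
    intro e'
    exact Frame.one_ne n (add_eq_right.mp e')
  rw [if_neg (hone ▸ hne12), add_zero] at ki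
  have hχ : f ∈ F.Xc T := hw.2.2 f ki
  have hb' : b = F.y n * f := by
    rw [hbf, ← F.y_pow_mod n i, hone, F.y_pow_mod, pow_one]
  -- `g` fixes `v`
  have k0 := key 0
  simp only [Nat.cast_zero, if_true, if_neg hi0, add_zero, if_neg (Frame.one_ne n)] at k0
  have hgv : g • v = v := by
    by_cases hr : F.r n = 2
    · simpa [Frame.c2, hr] using k0
    · rwa [if_neg (Frame.two_ne hr), add_zero, if_neg, add_zero] at k0
      rw [Nat.cast_mul]
      haveI : Fact (F.r n).Prime := ⟨F.hr n⟩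
      exact mul_ne_zero (Frame.two_ne hr) hi0
  -- `f` commutes with `y`
  have hfy : D.com f (F.y n) = 1 := by
    by_cases hr : F.r n = 2
    · have hb2 : b ^ 2 = 1 := by
        rw [hb, ← map_pow, show (2 : ℕ) = F.r n from hr.symm, F.hy, map_one]
      rw [hb', mul_pow', show F.y n ^ 2 = 1 by rw [← hr]; exact F.hy n, one_mul,
        Nat.choose_self, pow_one] at hb2
      have := congrArg (· • w) hb2
      simp only [smul_smul_k, one_smul, hw.2.1.mem (pow_mem hχ 2)] at this
      exact Frame.scalar_one hw this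
    · have hc : F.c2 n w = -w := by rw [Frame.c2, if_neg hr]
      have e2 : (b * b) • F.c2 n w = ((D.com f (F.y n) : kˣ) : k) • ((F.y n ^ 2) • F.c2 n w) := by
        have hfc : f • F.c2 n w = F.c2 n w := (hw.2.1.c2 n).mem hχ
        rw [hb', mul_smul, mul_smul (F.y n) f (F.c2 n w), hfc, mul_smul, com_spec_smul f (F.y n),
          hfc, D.smul_k, sq, mul_smul]
      have h3 := hgn
      rw [Frame.next, smul_add, smul_add, cj_smul, cj_smul, hgw, hgc2, hbb, e2, hgv, ← hb,
        hb', mul_smul, hw.2.1.mem hχ, add_right_inj] at h3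
      refine Units.ext (D.toSemi.smul_eq_imp ?_ (h3.trans (one_smul k _).symm))
      rw [hc]
      intro e0
      exact hw.1 (neg_eq_zero.mp (by rw [← inv_smul_smul (F.y n ^ 2) (-w), e0, smul_zero]))
  have hχ' : f ∈ F.Xc (insert n T) := Frame.mem_Xc_insert hχ hfy
  obtain ⟨hσ, hfix⟩ := hreg g hNT hgv hgw
  refine ⟨hσ, fun a ha => ?_⟩
  set a' : F.L := Function.update a n 0 with ha'
  have ha'T : ∀ l, l ∉ T → a' l = 0 := fun l hl => by
    by_cases e' : l = n
    · subst e'; simp [ha']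
    · rw [ha', Function.update_of_ne e']
      exact ha l (by simp [e', hl])
  obtain ⟨h1, h2'⟩ := hfix a' ha'T
  have hYa : F.Y a = F.y n ^ (a n).val * F.Y a' := by
    have : a = Pi.single n (a n) + a' := by
      funext l
      by_cases e' : l = n
      · subst e'; simp [ha']
      · simp [ha', e']
    conv_lhs => rw [this]
    rw [F.Y_add]
    congr 1
    have hsum : ∀ t : ℕ, F.Y (Pi.single n (t : ZMod (F.r n))) = F.y n ^ t := by
      intro t
      induction t with
      | zero => simp [F.Y_zero]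
      | succ t ih => rw [Nat.cast_succ, Pi.single_add, F.Y_add, ih, F.Y_single, pow_succ]
    rw [← hsum, ZMod.natCast_zmod_val]
  have hfu : ∀ u : V, F.Fixed u → (f ^ (a n).val) • (F.Y a' • u) = F.Y a' • u := by
    intro u hu
    refine Frame.Fx.mem (T := insert n T) ?_ (pow_mem hχ' _)
    refine Frame.Fx.smul (fun l _ => hu l) fun l hl => ?_
    rw [F.com_x_Y, ha'T l (fun h => hl (Finset.mem_insert_of_mem h)), ZMod.val_zero, pow_zero]
  have hbt : cj g (F.y n ^ (a n).val) = F.y n ^ (a n).val * f ^ (a n).val := by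
    rw [map_pow, ← hb, hb', Commute.mul_pow]
    exact ((D.com_eq_one_iff _ _).mp hfy).symm
  constructor
  · rw [hYa, mul_smul, cj_smul, h1, hbt, mul_smul, hfu _ E.hX]
  · rw [hYa, mul_smul, cj_smul, h2', hbt, mul_smul, hfu _ E.w_fixed]

end BData

end Cfsg.Agent.BaseSize
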